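import Groth.Agent.ASp.FppfGlue
import Groth.Agent.ASp.Basic
/-!
Colimits of schemes which remain colimits among algebraic spaces.
-/

set_option autoImplicit false
set_option backward.isDefEq.respectTransparency false
set_option backward.isDefEq.respectTransparency.types false

universe w v u

open CategoryTheory CategoryTheory.Limits AlgebraicGeometry

namespace Groth.Agent.ASpColim

open _root_.AlgSp Groth.Agent.ASp

variable {S : Scheme.{u}} {I : Type v} [Category.{w} I]

/-- Maps from a colimit of schemes into an algebraic space are determined on the coprojections. -/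
theorem hom_ext_colimit {D : I ⥤ Over S} {c : Cocone D}
    (h₁ : IsColimit ((Over.forget S).mapCocone c)) {Y : Sp S} (hY : IsAlgSpace Y)
    {a b : (yon S).obj c.pt ⟶ Y}
    (h : ∀ i, (yon S).map (c.ι.app i) ≫ a = (yon S).map (c.ι.app i) ≫ b) : a = b := by
  obtain ⟨K, d, e, hK⟩ : ∃ (K : Over S) (d : (yon S).obj K ⟶ Y) (e : K ⟶ c.pt),
      IsPullback d ((yon S).map e) (Limits.diag Y) (prod.lift a b) :=
    ⟨_, _, _, hY.diag.isPullback (prod.lift a b)⟩
  have he : Mono ((yon S).map e) := hK.mono_snd_of_mono
  have hl : ∀ i, ∃ l : D.obj i ⟶ K, l ≫ e = c.ι.app i := fun i => by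
    obtain ⟨l, hl⟩ := (yon S).map_surjective
      (hK.lift ((yon S).map (c.ι.app i) ≫ a) ((yon S).map (c.ι.app i)) (by
        apply Limits.prod.hom_ext
        · simp only [Category.assoc, prod.lift_fst, Category.comp_id]
        · simp only [Category.assoc, prod.lift_snd, Category.comp_id]; exact h i))
    exact ⟨l, (yon S).map_injective (by rw [Functor.map_comp, hl, hK.lift_snd])⟩
  choose l hl using hl
  have heM : Mono e := (yon S).mono_of_mono_map he
  let cK : Cocone (D ⋙ Over.forget S) :=
    { pt := K.left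
      ι :=
        { app := fun i => (l i).left
          naturality := fun i j m => by
            have e1 : D.map m ≫ l j = l i := by
              rw [← cancel_mono e, Category.assoc, hl, hl, c.w]
            simpa using congrArg CommaMorphism.left e1 } }
  have hs : h₁.desc cK ≫ e.left = 𝟙 c.pt.left := h₁.hom_ext fun i => by
    rw [h₁.fac_assoc]
    change (l i).left ≫ e.left = (c.ι.app i).left ≫ 𝟙 c.pt.left
    rw [← Over.comp_left, hl]
    exact (Category.comp_id _).symm
  let s : c.pt ⟶ K := Over.homMk (h₁.desc cK) (by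
    change h₁.desc cK ≫ K.hom = c.pt.hom
    rw [← Over.w e, ← Category.assoc, hs]
    exact Category.id_comp _)
  have hse : s ≫ e = 𝟙 _ := Over.OverMorphism.ext hs
  have h2 : (yon S).map e ≫ a = (yon S).map e ≫ b := by
    have h3 := congrArg (· ≫ prod.fst) hK.w
    have h4 := congrArg (· ≫ prod.snd) hK.w
    simp only [Category.assoc, prod.lift_fst, prod.lift_snd, Category.comp_id] at h3 h4
    exact h3.symm.trans h4
  have h5 := congrArg ((yon S).map s ≫ ·) h2
  rw [← Category.assoc, ← Category.assoc, ← Functor.map_comp, hse] at h5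
  rw [(yon S).map_id] at h5
  exact (Category.id_comp a).symm.trans (h5.trans (Category.id_comp b))

/-- The system of pullbacks of a morphism into the point of a cocone. -/
theorem exists_pullback_system (D : I ⥤ Over S) (c : Cocone D) {W : Over S} (a : W ⟶ c.pt) :
    ∃ (D' : I ⥤ Over S) (α : D' ⟶ D) (π : D' ⟶ (Functor.const I).obj W),
      ∀ i, IsPullback (π.app i) (α.app i) a (c.ι.app i) := by
  refine ⟨{ obj := fun i => pullback a (c.ι.app i)
            map := fun {i j} m => pullback.lift (pullback.fst _ _) (pullback.snd _ _ ≫ D.map m)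
              (by rw [Category.assoc, c.w]; exact pullback.condition)
            map_id := fun i => pullback.hom_ext (by simp) (by simp)
            map_comp := fun m n => pullback.hom_ext (by simp) (by simp) },
    { app := fun i => pullback.snd _ _
      naturality := fun i j m => pullback.lift_snd _ _ _ },
    { app := fun i => pullback.fst _ _
      naturality := fun i j m => (pullback.lift_fst _ _ _).trans (Category.comp_id _).symm },
    fun i => IsPullback.of_hasPullback a (c.ι.app i)⟩

/-- A morphism with absolutely separated source into an algebraic space pulls back to separated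
morphisms of schemes. -/
theorem isSeparated_snd {Y : Sp S} {V T P : Over S} [V.left.IsSeparated] {p : (yon S).obj V ⟶ Y}
    {y : (yon S).obj T ⟶ Y} {q : P ⟶ V} {r : P ⟶ T}
    (hP : IsPullback ((yon S).map q) ((yon S).map r) p y) : IsSeparated r.left := by
  let L : P.left ⟶ pullback V.hom T.hom := pullback.lift q.left r.left (by rw [Over.w, Over.w])
  have : Mono L := by
    refine ⟨fun {Z} g g' hg => ?_⟩
    have h1 : g ≫ q.left = g' ≫ q.left := by
      simpa [L] using congrArg (· ≫ pullback.fst V.hom T.hom) hg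
    have h2 : g ≫ r.left = g' ≫ r.left := by
      simpa [L] using congrArg (· ≫ pullback.snd V.hom T.hom) hg
    have hS : g ≫ P.hom = g' ≫ P.hom := by rw [← Over.w r, reassoc_of% h2]
    let G : Over.mk (g ≫ P.hom) ⟶ P := Over.homMk g rfl
    let G' : Over.mk (g ≫ P.hom) ⟶ P := Over.homMk g' hS.symm
    have e : (yon S).map G = (yon S).map G' := by
      apply hP.hom_ext
      · rw [← Functor.map_comp, ← Functor.map_comp]
        exact congrArg _ (Over.OverMorphism.ext h1)
      · rw [← Functor.map_comp, ← Functor.map_comp]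
        exact congrArg _ (Over.OverMorphism.ext h2)
    exact congrArg CommaMorphism.left ((yon S).map_injective e)
  have : IsSeparated V.hom := inferInstance
  have e : r.left = L ≫ pullback.snd V.hom T.hom := (pullback.lift_snd _ _ _).symm
  rw [e]
  have : IsSeparated L := inferInstance
  infer_instance

variable {D : I ⥤ Over S} {c : Cocone D}
    (h₁ : IsColimit ((Over.forget S).mapCocone c))
    (h₂ : ∀ x : ↥c.pt.left, ∃ (i : I) (y : ↥(D.obj i).left), (c.ι.app i).left y = x)
    (h₃ : ∀ (D' : I ⥤ Over S) (α : D' ⟶ D) (c' : Cocone D') (a : c'.pt ⟶ c.pt), Etale a.left →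
      (∀ i, IsPullback (c'.ι.app i) (α.app i) a (c.ι.app i)) →
        Nonempty (IsColimit ((Over.forget S).mapCocone c')))
    (h₄ : ∀ (D' : I ⥤ Over S) (α : D' ⟶ D), NatTrans.Equifibered α → (∀ i, Etale (α.app i).left) →
      (∀ i, IsSeparated (α.app i).left) →
      ∃ (c' : Cocone D') (a : c'.pt ⟶ c.pt), Etale a.left ∧
        ∀ i, IsPullback (c'.ι.app i) (α.app i) a (c.ι.app i))

include h₃ h₄ in
/-- A compatible system of maps lifts to a separated chart over an étale neighbourhood. -/
theorem exists_local_desc {Y : Sp S} (hY : IsAlgSpace Y) {V : Over S} [V.left.IsSeparated]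
    (p : (yon S).obj V ⟶ Y) (hp : RepWith @Etale p) (y : ∀ i, (yon S).obj (D.obj i) ⟶ Y)
    (hy : ∀ {i j} (m : i ⟶ j), (yon S).map (D.map m) ≫ y j = y i) :
    ∃ (U : Over S) (a : U ⟶ c.pt) (β : (yon S).obj U ⟶ Y), Etale a.left ∧
      (∀ (i : I) (T : Over S) (t : T ⟶ D.obj i) (s : T ⟶ U), s ≫ a = t ≫ c.ι.app i →
        (yon S).map s ≫ β = (yon S).map t ≫ y i) ∧
      (∀ (i : I) (T : Over S) (t : T ⟶ D.obj i) (q : T ⟶ V), (yon S).map q ≫ p = (yon S).map t ≫ y i →
        ∃ s : T ⟶ U, s ≫ a = t ≫ c.ι.app i) := by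
  have hex : ∀ i, ∃ (W : Over S) (q : W ⟶ V) (r : W ⟶ D.obj i),
      IsPullback ((yon S).map q) ((yon S).map r) p (y i) := fun i => by
    exact exists_isPullback_yon hp.1 (y i)
  choose W q r hsq using hex
  have hm : ∀ {i j : I} (m : i ⟶ j), ∃ φ : W i ⟶ W j, φ ≫ q j = q i ∧ φ ≫ r j = r i ≫ D.map m :=
    fun {i j} m => by
      obtain ⟨φ, hφ⟩ := (yon S).map_surjective ((hsq j).lift ((yon S).map (q i)) ((yon S).map (r i ≫ D.map m))
        (by rw [(hsq i).w, Functor.map_comp, Category.assoc, hy m]))
      exact ⟨φ, (yon S).map_injective (by rw [Functor.map_comp, hφ, (hsq j).lift_fst]),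
        (yon S).map_injective (by rw [Functor.map_comp, hφ, (hsq j).lift_snd])⟩
  choose φ hφq hφr using @hm
  have hext : ∀ {j : I} {T : Over S} {f g : T ⟶ W j}, f ≫ q j = g ≫ q j → f ≫ r j = g ≫ r j → f = g :=
    fun {j T f g} e₁ e₂ => (yon S).map_injective ((hsq j).hom_ext
      (by rw [← Functor.map_comp, e₁, Functor.map_comp]) (by rw [← Functor.map_comp, e₂, Functor.map_comp]))
  let D' : I ⥤ Over S :=
    { obj := W
      map := fun m => φ m
      map_id := fun i => hext (by rw [hφq, Category.id_comp]) (by rw [hφr, Category.id_comp, D.map_id, Category.comp_id])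
      map_comp := fun m n => hext (by rw [hφq, Category.assoc, hφq, hφq])
        (by rw [hφr, Category.assoc, hφr, reassoc_of% (hφr m), D.map_comp]) }
  let α : D' ⟶ D := { app := r, naturality := fun i j m => hφr m }
  have hα : NatTrans.Equifibered α := fun i j m => by
    refine isPullback_of_yon_map ?_
    refine IsPullback.of_right ?_ (by rw [← Functor.map_comp, ← Functor.map_comp]; exact congrArg _ (hφr m)) (hsq j)
    have e : (yon S).map (φ m) ≫ (yon S).map (q j) = (yon S).map (q i) := by
      rw [← Functor.map_comp, hφq]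
    exact (e ▸ (hy m).symm ▸ hsq i :)
  obtain ⟨c', a, ha, hpb⟩ := h₄ D' α hα (fun i => etale_snd hp (hsq i)) (fun i => isSeparated_snd (hsq i))
  obtain ⟨hc'⟩ := h₃ D' α c' a ha hpb
  let cV : Cocone (D' ⋙ Over.forget S) :=
    { pt := V.left
      ι :=
        { app := fun i => (q i).left
          naturality := fun i j m => by simpa using congrArg CommaMorphism.left (hφq m) } }
  let β : c'.pt ⟶ V := Over.homMk (hc'.desc cV) (hc'.hom_ext fun i => by
    rw [hc'.fac_assoc]
    change (q i).left ≫ V.hom = (c'.ι.app i).left ≫ c'.pt.hom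
    exact (Over.w (q i)).trans (Over.w (c'.ι.app i)).symm)
  have hβ : ∀ i, c'.ι.app i ≫ β = q i := fun i => Over.OverMorphism.ext (hc'.fac cV i)
  refine ⟨c'.pt, a, (yon S).map β ≫ p, ha, fun i T t s hts => ?_, fun i T t g hg => ?_⟩
  · obtain ⟨l, hl₁, hl₂⟩ : ∃ l : T ⟶ D'.obj i, l ≫ c'.ι.app i = s ∧ l ≫ α.app i = t :=
      ⟨(hpb i).lift s t hts, (hpb i).lift_fst _ _ _, (hpb i).lift_snd _ _ _⟩
    rw [← Category.assoc, ← Functor.map_comp, ← hl₁, Category.assoc, hβ, ← hl₂, Functor.map_comp,
      Functor.map_comp, Category.assoc, Category.assoc]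
    exact congrArg _ (hsq i).w
  · obtain ⟨l, hl⟩ := (yon S).map_surjective ((hsq i).lift ((yon S).map g) ((yon S).map t) hg)
    refine ⟨l ≫ c'.ι.app i, ?_⟩
    have hlt : l ≫ α.app i = t := (yon S).map_injective (by
      change (yon S).map (l ≫ r i) = _
      rw [Functor.map_comp, hl, (hsq i).lift_snd])
    rw [Category.assoc, (hpb i).w, reassoc_of% hlt]

include h₁ h₂ h₃ h₄ in
theorem existsUnique_desc {Y : Sp S} (hY : IsAlgSpace Y) (y : ∀ i, (yon S).obj (D.obj i) ⟶ Y)
    (hy : ∀ {i j} (m : i ⟶ j), (yon S).map (D.map m) ≫ y j = y i) :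
    ∃! b : (yon S).obj c.pt ⟶ Y, ∀ i, (yon S).map (c.ι.app i) ≫ b = y i := by
  obtain ⟨V, p, hpe, hps⟩ := hY.atlas
  let K := V.left.affineCover
  let Vk : K.I₀ → Over S := fun k => Over.mk (K.f k ≫ V.hom)
  let j : ∀ k, Vk k ⟶ V := fun k => Over.homMk (K.f k) rfl
  have hpk : ∀ k, RepWith @Etale ((yon S).map (j k) ≫ p) := fun k =>
    repWith_comp ((repWith_yon_map_iff _ _).2 (inferInstanceAs (Etale (K.f k)))) hpe
  have hsep : ∀ k, (Vk k).left.IsSeparated := fun k => inferInstanceAs ((K.X k).IsSeparated)
  have hloc := fun k => haveI := hsep k; exists_local_desc (c := c) h₃ h₄ hY _ (hpk k) y hy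
  choose U a β hae hcompat hlift using hloc
  -- points of the pieces
  have hpts : ∀ (i : I) (z : ↥(D.obj i).left), ∃ (k : K.I₀) (T : Over S) (t : T ⟶ D.obj i) (s : T ⟶ U k),
      Etale t.left ∧ z ∈ Set.range t.left ∧ s ≫ a k = t ≫ c.ι.app i := fun i z => by
    obtain ⟨P, f, r, sq⟩ := exists_isPullback_yon hpe.1 (y i)
    have hre : Etale r.left := hpe.2 _ _ _ sq
    have hrs : Surjective r.left := hps.2 _ _ _ sq
    obtain ⟨w, hw⟩ := hrs.surj z
    obtain ⟨v, hv⟩ := K.covers (f.left w)
    let T : Over S := Over.mk (pullback.fst f.left (K.f (K.idx (f.left w))) ≫ P.hom)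
    let tP : T ⟶ P := Over.homMk (pullback.fst f.left (K.f (K.idx (f.left w)))) rfl
    let tV : T ⟶ Vk (K.idx (f.left w)) := Over.homMk (pullback.snd f.left (K.f (K.idx (f.left w)))) (by
      change pullback.snd _ _ ≫ K.f _ ≫ V.hom = pullback.fst _ _ ≫ P.hom
      rw [← pullback.condition_assoc, Over.w])
    have hcomm : tV ≫ j _ = tP ≫ f := Over.OverMorphism.ext pullback.condition.symm
    obtain ⟨s, hs⟩ := hlift (K.idx (f.left w)) i T (tP ≫ r) tV (by
      rw [← Category.assoc, ← Functor.map_comp, hcomm, Functor.map_comp, Functor.map_comp, Category.assoc,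
        Category.assoc, sq.w])
    refine ⟨_, T, tP ≫ r, s, ?_, ?_, hs⟩
    · change Etale (pullback.fst f.left (K.f (K.idx (f.left w))) ≫ r.left)
      infer_instance
    · obtain ⟨τ, hτ, -⟩ := Scheme.Pullback.exists_preimage_pullback w v hv.symm
      refine ⟨τ, ?_⟩
      change (pullback.fst f.left (K.f (K.idx (f.left w))) ≫ r.left) τ = z
      rw [Scheme.Hom.comp_apply, hτ, hw]
  have hcov : ∀ x : ↥c.pt.left, ∃ k, x ∈ Set.range (a k).left := fun x => by
    obtain ⟨i, z, rfl⟩ := h₂ x
    obtain ⟨k, T, t, s, -, ⟨τ, hτ⟩, hs⟩ := hpts i z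
    refine ⟨k, s.left τ, ?_⟩
    rw [← hτ, ← Scheme.Hom.comp_apply, ← Scheme.Hom.comp_apply, ← Over.comp_left, hs, Over.comp_left]
    rfl
  have hfl : ∀ k, Flat (a k).left := fun k => haveI := hae k; inferInstance
  have hfp : ∀ k, LocallyOfFinitePresentation (a k).left := fun k => haveI := hae k; inferInstance
  have hglue : ∀ (k l : K.I₀) (W : Over S) (gk : W ⟶ U k) (gl : W ⟶ U l),
      gk ≫ a k = gl ≫ a l → (yon S).map gk ≫ β k = (yon S).map gl ≫ β l := by
    intro k l W gk gl hW
    have key : (yon S).map (pullback.fst (a k) (a l)) ≫ β k =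
        (yon S).map (pullback.snd (a k) (a l)) ≫ β l := by
      obtain ⟨D', α, π, hpb⟩ := exists_pullback_system D c (pullback.fst (a k) (a l) ≫ a k)
      let c' : Cocone D' := ⟨pullback (a k) (a l), π⟩
      have he : Etale (pullback.fst (a k) (a l) ≫ a k).left := by
        have hpl := isPullback_left (IsPullback.of_hasPullback (a k) (a l))
        have : Etale (pullback.fst (a k) (a l)).left :=
          MorphismProperty.of_isPullback (P := @Etale) hpl.flip (hae l)
        have := hae k
        rw [Over.comp_left]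
        infer_instance
      obtain ⟨hc'⟩ := h₃ D' α c' (pullback.fst (a k) (a l) ≫ a k) he hpb
      refine hom_ext_colimit hc' hY fun i => ?_
      rw [← Category.assoc, ← Category.assoc, ← Functor.map_comp, ← Functor.map_comp,
        hcompat k i _ (α.app i) (π.app i ≫ pullback.fst (a k) (a l)) (by rw [Category.assoc]; exact (hpb i).w),
        hcompat l i _ (α.app i) (π.app i ≫ pullback.snd (a k) (a l))
          (by rw [Category.assoc, ← pullback.condition]; exact (hpb i).w)]
    have e := congrArg ((yon S).map (pullback.lift gk gl hW) ≫ ·) key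
    simpa only [← Category.assoc, ← Functor.map_comp, pullback.lift_fst, pullback.lift_snd] using e
  obtain ⟨b, hb, -⟩ := existsUnique_glue hfl hfp hcov β hglue
  have hb' : ∀ i, (yon S).map (c.ι.app i) ≫ b = y i := fun i => by
    choose kk TT tt ss htt hz hts using hpts i
    refine hom_ext_fppf (ι := ↥(D.obj i).left) (c := tt) (fun z => haveI := htt z; inferInstance)
      (fun z => haveI := htt z; inferInstance) (fun z => ⟨z, hz z⟩) fun z => ?_
    rw [← Category.assoc, ← Functor.map_comp, ← hts z, Functor.map_comp, Category.assoc, hb]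
    exact hcompat _ i _ _ _ (hts z)
  exact ⟨b, hb', fun b' hb'' => hom_ext_colimit h₁ hY fun i => (hb'' i).trans (hb' i).symm⟩

end Groth.Agent.ASpColim
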