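import Groth.Agent.EtaleSplit.HenselSplit
import Groth.Agent.ASp.Basic
import Groth.Agent.Unibranch.Open
import Groth.Prelude.Def_AlgSpDec
import Groth.Prelude.Def_AlgSpEt
import Groth.Prelude.Def_Hensel
/-!
Henselizations of local rings at elementary étale neighbourhoods.
-/

set_option autoImplicit false
set_option backward.isDefEq.respectTransparency false
set_option backward.isDefEq.respectTransparency.types false

universe u

open CategoryTheory CategoryTheory.Limits AlgebraicGeometry IsLocalRing

namespace Groth.Agent.ASpColim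

open _root_.AlgSp

/-- An étale morphism with trivial residue extension at a point induces the same lifts from henselian
local rings. -/
theorem existsUnique_lift_of_residue_bijective {X Y : Scheme.{u}} (g : X ⟶ Y) [Etale g] (x : X)
    (hbij : Function.Bijective (g.residueFieldMap x)) (T : Type u) [CommRing T] [HenselianLocalRing T]
    (f : Y.presheaf.stalk (g x) →+* T) [IsLocalHom f] :
    (∃ f' : X.presheaf.stalk x →+* T, IsLocalHom f' ∧ f'.comp (g.stalkMap x).hom = f) ∧
      ∀ f₁ f₂ : X.presheaf.stalk x →+* T, f₁.comp (g.stalkMap x).hom = f → f₂.comp (g.stalkMap x).hom = f →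
        IsLocalHom f₁ ∧ f₁ = f₂ := by
  let p : Spec (CommRingCat.of T) ⟶ Y := Spec.map (CommRingCat.ofHom f) ≫ Y.fromSpecStalk (g x)
  have hp : p (closedPoint T) = g x := by
    change (Y.fromSpecStalk (g x)) (PrimeSpectrum.comap f (closedPoint T)) = _
    rw [IsLocalRing.comap_closedPoint, Scheme.fromSpecStalk_closedPoint]
  have hmk : ∀ f' : X.presheaf.stalk x →+* T, f'.comp (g.stalkMap x).hom = f →
      (Spec.map (CommRingCat.ofHom f') ≫ X.fromSpecStalk x) ≫ g = p ∧
        IsLocalHom f' := fun f' h => by
    have e : (Spec.map (CommRingCat.ofHom f') ≫ X.fromSpecStalk x) ≫ g = p := by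
      rw [Category.assoc, ← Scheme.SpecMap_stalkMap_fromSpecStalk, ← Spec.map_comp_assoc]
      change _ = Spec.map (CommRingCat.ofHom f) ≫ Y.fromSpecStalk (g x)
      congr 2
      exact CommRingCat.hom_ext h
    refine ⟨e, ?_⟩
    let z := (Spec.map (CommRingCat.ofHom f') ≫ X.fromSpecStalk x) (closedPoint T)
    have hgz : g z = g x := by rw [← hp, ← e]; rfl
    have hspec : z ⤳ x := by
      have : z ∈ Set.range (X.fromSpecStalk x) := ⟨_, rfl⟩
      rwa [Scheme.range_fromSpecStalk] at this
    have hzx : z = x := by
      haveI : LocallyQuasiFinite g := Groth.Agent.Unibranch.locallyQuasiFinite_of_etale g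
      have := (g.isDiscrete_preimage_singleton (g x)).to_subtype
      exact congrArg Subtype.val
        (((subtype_specializes_iff (⟨z, hgz⟩ : ↥(g ⁻¹' {g x})) ⟨x, rfl⟩).2 hspec).eq)
    refine ((IsLocalRing.local_hom_TFAE f').out 0 4).mpr (congrArg PrimeSpectrum.asIdeal (?_ : PrimeSpectrum.comap f' (closedPoint T) = closedPoint _))
    apply (X.fromSpecStalk x).isEmbedding.injective
    rw [Scheme.fromSpecStalk_closedPoint]
    exact hzx
  refine ⟨?_, fun f₁ f₂ h₁ h₂ => ⟨(hmk f₁ h₁).2, ?_⟩⟩
  · let q : Spec (CommRingCat.of (ResidueField T)) ⟶ Y := Spec.map (CommRingCat.ofHom (residue T)) ≫ p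
    obtain ⟨qX, hqX, hpt⟩ := EtaleSplit.exists_lift_of_residue_bijective g x hbij q (by
      change g x = p (PrimeSpectrum.comap (residue T) (closedPoint _))
      rw [IsLocalRing.comap_closedPoint, hp])
    let qP : Spec (CommRingCat.of (ResidueField T)) ⟶ pullback g p :=
      pullback.lift qX (Spec.map (CommRingCat.ofHom (residue T))) hqX
    obtain ⟨s, hs, hs'⟩ := EtaleSplit.exists_section_of_lift (pullback.snd g p) qP (pullback.lift_snd _ _ _)
    let h : Spec (CommRingCat.of T) ⟶ X := s ≫ pullback.fst g p
    have hg : h ≫ g = p := by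
      change (s ≫ pullback.fst g p) ≫ g = p
      rw [Category.assoc, pullback.condition, reassoc_of% hs]
    have hx : h (closedPoint T) = x := by
      have e : Spec.map (CommRingCat.ofHom (residue T)) ≫ h = qX := by
        change _ ≫ s ≫ pullback.fst g p = qX
        rw [reassoc_of% hs', pullback.lift_fst]
      rw [← hpt, ← e]
      change h (closedPoint T) = h (PrimeSpectrum.comap (residue T) (closedPoint _))
      rw [IsLocalRing.comap_closedPoint]
    clear_value h
    subst hx
    refine ⟨(Scheme.stalkClosedPointTo h).hom, inferInstance, ?_⟩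
    have e : Spec.map (g.stalkMap (h (closedPoint T)) ≫ Scheme.stalkClosedPointTo h) ≫ Y.fromSpecStalk _ =
        Spec.map (CommRingCat.ofHom f) ≫ Y.fromSpecStalk _ := by
      rw [Spec.map_comp, Category.assoc, Scheme.SpecMap_stalkMap_fromSpecStalk,
        Scheme.Spec_stalkClosedPointTo_fromSpecStalk_assoc, hg]
    exact congrArg CommRingCat.Hom.hom (Spec.map_injective ((cancel_mono _).1 e))
  · obtain ⟨e₁, l₁⟩ := hmk f₁ h₁
    obtain ⟨e₂, l₂⟩ := hmk f₂ h₂
    have hpts : ∀ (f' : X.presheaf.stalk x →+* T), IsLocalHom f' →
        (Spec.map (CommRingCat.ofHom f') ≫ X.fromSpecStalk x) (closedPoint T) = x := fun f' _ => by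
      change (X.fromSpecStalk x) (PrimeSpectrum.comap f' (closedPoint T)) = _
      rw [IsLocalRing.comap_closedPoint, Scheme.fromSpecStalk_closedPoint]
    have := isIso_of_bijective_residue g x hbij
    have hres : Spec.map (CommRingCat.ofHom (residue T)) ≫ Spec.map (CommRingCat.ofHom f₁) ≫ X.fromSpecStalk x =
        Spec.map (CommRingCat.ofHom (residue T)) ≫ Spec.map (CommRingCat.ofHom f₂) ≫ X.fromSpecStalk x := by
      haveI := l₁; haveI := l₂
      rw [← Spec.map_comp_assoc, ← Spec.map_comp_assoc, ← CommRingCat.ofHom_comp, ← CommRingCat.ofHom_comp,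
        ← IsLocalRing.ResidueField.map_comp_residue f₁, ← IsLocalRing.ResidueField.map_comp_residue f₂,
        CommRingCat.ofHom_comp, CommRingCat.ofHom_comp, Spec.map_comp_assoc, Spec.map_comp_assoc]
      congr 2
      apply (cancel_epi (g.residueFieldMap x)).1
      apply CommRingCat.hom_ext
      apply Ideal.Quotient.ringHom_ext
      ext a
      change IsLocalRing.ResidueField.map f₁ (residue _ (g.stalkMap x a)) =
        IsLocalRing.ResidueField.map f₂ (residue _ (g.stalkMap x a))
      rw [IsLocalRing.ResidueField.map_residue, IsLocalRing.ResidueField.map_residue]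
      exact congrArg (residue T) ((RingHom.congr_fun h₁ a).trans (RingHom.congr_fun h₂ a).symm)
    let l : Spec (CommRingCat.of T) ⟶ pullback g g := pullback.lift _ _ (e₁.trans e₂.symm)
    have hclosed : l (closedPoint T) ∈ (pullback.diagonal g).opensRange := by
      have : Spec.map (CommRingCat.ofHom (residue T)) ≫ l =
          (Spec.map (CommRingCat.ofHom (residue T)) ≫ Spec.map (CommRingCat.ofHom f₁) ≫ X.fromSpecStalk x) ≫
            pullback.diagonal g := by
        apply pullback.hom_ext
        · simp [l]
        · simpa [l] using hres.symm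
      have h' := congr($this (closedPoint (ResidueField T)))
      refine ⟨(Spec.map (CommRingCat.ofHom (residue T)) ≫ Spec.map (CommRingCat.ofHom f₁) ≫ X.fromSpecStalk x)
        (closedPoint (ResidueField T)), h'.symm.trans ?_⟩
      change l (PrimeSpectrum.comap (residue T) (closedPoint _)) = _
      rw [IsLocalRing.comap_closedPoint]
    have hrange : Set.range l ⊆ Set.range (pullback.diagonal g) := by
      rintro _ ⟨t, rfl⟩
      exact ((IsLocalRing.specializes_closedPoint t).map l.continuous).mem_open
        (pullback.diagonal g).opensRange.2 hclosed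
    let m := IsOpenImmersion.lift (pullback.diagonal g) l hrange
    have hm : m ≫ pullback.diagonal g = l := IsOpenImmersion.lift_fac _ _ _
    have hm₁ := congrArg (· ≫ pullback.fst g g) hm
    have hm₂ := congrArg (· ≫ pullback.snd g g) hm
    simp only [Category.assoc, pullback.diagonal_fst, pullback.diagonal_snd, Category.comp_id, l,
      pullback.lift_fst, pullback.lift_snd] at hm₁ hm₂
    have e := Spec.map_injective ((cancel_mono _).1 (hm₁.symm.trans hm₂))
    exact congrArg CommRingCat.Hom.hom e
where
  isIso_of_bijective_residue {X Y : Scheme.{u}} (g : X ⟶ Y) (x : X)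
      (h : Function.Bijective (g.residueFieldMap x)) : IsIso (g.residueFieldMap x) :=
    (ConcreteCategory.isIso_iff_bijective _).mpr h

variable {S : Scheme.{u}}

/-- An étale morphism between elementary étale neighbourhoods has trivial residue extension. -/
theorem residue_bijective_of_mono {F : Sp S} {U U' : Over S} (a : (yon S).obj U ⟶ F)
    (g : U' ⟶ U) [Etale g.left] (u' : ↥U'.left)
    (h : Mono (FieldPt.ofPt ((yon S).map g ≫ a) u').toHom) :
    Function.Bijective (g.left.residueFieldMap u') := by
  let r := Spec.map (g.left.residueFieldMap u')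
  let R : Over.mk (U'.left.fromSpecResidueField u' ≫ U'.hom) ⟶
      Over.mk (U.left.fromSpecResidueField (g.left u') ≫ U.hom) := Over.homMk r (by
    change r ≫ U.left.fromSpecResidueField (g.left u') ≫ U.hom = _
    rw [← Category.assoc, Scheme.Hom.SpecMap_residueFieldMap_fromSpecResidueField, Category.assoc, Over.w]
    rfl)
  have e : (FieldPt.ofPt ((yon S).map g ≫ a) u').toHom =
      (yon S).map R ≫ (FieldPt.ofPt a (g.left u')).toHom := by
    rw [FieldPt.toHom_ofPt, FieldPt.toHom_ofPt, ← Category.assoc, ← Category.assoc, ← Functor.map_comp,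
      ← Functor.map_comp]
    congr 2
    exact Over.OverMorphism.ext (Scheme.Hom.SpecMap_residueFieldMap_fromSpecResidueField g.left u').symm
  have : Mono ((yon S).map R) := by
    rw [e] at h
    exact mono_of_mono _ (FieldPt.ofPt a (g.left u')).toHom
  have : Mono R := (yon S).mono_of_mono_map this
  have : Mono r := Over.mono_left_of_mono R
  algebraize [(g.left.residueFieldMap u').hom]
  have : IsPurelyInseparable (U.left.residueField (g.left u')) (U'.left.residueField u') := by
    rw [isPurelyInseparable_iff_subsingleton_emb, subsingleton_iff]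
    intro σ₁ σ₂
    apply AlgHom.coe_ringHom_injective
    have e : Spec.map (CommRingCat.ofHom σ₁.toRingHom) ≫ r = Spec.map (CommRingCat.ofHom σ₂.toRingHom) ≫ r := by
      change _ ≫ Spec.map _ = _ ≫ Spec.map _
      rw [← Spec.map_comp, ← Spec.map_comp]
      congr 1
      ext z
      exact (AlgHom.commutes σ₁ z).trans (AlgHom.commutes σ₂ z).symm
    exact congrArg CommRingCat.Hom.hom (Spec.map_injective ((cancel_mono r).1 e))
  have : Algebra.IsSeparable (U.left.residueField (g.left u')) (U'.left.residueField u') :=
    inferInstanceAs (Algebra.IsSeparable (U.left.residueField (g.left.base u')) (U'.left.residueField u'))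
  exact ⟨(g.left.residueFieldMap u').hom.injective,
    IsPurelyInseparable.surjective_algebraMap_of_isSeparable _ _⟩

end Groth.Agent.ASpColim
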