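import Groth.Agent.S10420
import Groth.Agent.S10440
import Groth.Agent.S9781
import Groth.Agent.S2052
import Groth.Agent.S0506
import Groth.Agent.ASp.EtBranches
/-!
Branches at elementary etale neighbourhoods.
-/

set_option autoImplicit false
set_option linter.style.haveILetI false
set_option backward.isDefEq.respectTransparency false
set_option backward.isDefEq.respectTransparency.types false

universe u

open CategoryTheory CategoryTheory.Limits AlgebraicGeometry

namespace Groth.Agent.ASpColim

open _root_.AlgSp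

variable {S : Scheme.{u}} {F : Sp S}

/-- Elementary etale neighbourhoods of schemes compose with those of spaces. -/
theorem isElemEtaleNbhd_comp {U U' : Over S} {a : (yon S).obj U ⟶ F} {g : U' ⟶ U} {u' : ↥U'.left} {x : Points F}
    (ha : IsElemEtaleNbhd a (g.left u') x) [Etale g.left] (hg : Function.Bijective (g.left.residueFieldMap u')) :
    IsElemEtaleNbhd ((yon S).map g ≫ a) u' x := by
  refine ⟨Groth.Agent.ASp.repWith_comp (Groth.Agent.ASp.repWith_yon_map (g := g) ‹_›) ha.etale,
    by rw [Groth.Agent.ASp.ofPt_yon_map_comp]; exact ha.ofPt_eq, ?_⟩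
  let r := Spec.map (g.left.residueFieldMap u')
  let R : Over.mk (U'.left.fromSpecResidueField u' ≫ U'.hom) ⟶
      Over.mk (U.left.fromSpecResidueField (g.left u') ≫ U.hom) := Over.homMk r (by
    change r ≫ U.left.fromSpecResidueField (g.left u') ≫ U.hom = _
    rw [← Category.assoc, Scheme.Hom.SpecMap_residueFieldMap_fromSpecResidueField, Category.assoc, Over.w]
    rfl)
  have e : (FieldPt.ofPt ((yon S).map g ≫ a) u').toHom =
      (yon S).map R ≫ (FieldPt.ofPt a (g.left u')).toHom := by
    rw [FieldPt.toHom_ofPt, FieldPt.toHom_ofPt, ← Category.assoc, ← Category.assoc, ← Functor.map_comp,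
      ← Functor.map_comp]
    congr 2
    exact Over.OverMorphism.ext (Scheme.Hom.SpecMap_residueFieldMap_fromSpecResidueField g.left u').symm
  haveI : IsIso (g.left.residueFieldMap u') := (ConcreteCategory.isIso_iff_bijective _).2 hg
  haveI : IsIso ((Over.forget S).map R) := inferInstanceAs (IsIso (Spec.map (g.left.residueFieldMap u')))
  haveI : IsIso R := isIso_of_reflects_iso R (Over.forget S)
  haveI := ha.mono
  show Mono (FieldPt.ofPt ((yon S).map g ≫ a) u').toHom
  rw [e]
  exact mono_comp _ _

variable (x : Points F)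

theorem components_iff_unibranch :
    (∀ (U : Over S) (a : (yon S).obj U ⟶ F) (u : ↥U.left), IsElemEtaleNbhd a u x →
        {Z : Set ↥U.left | Z ∈ irreducibleComponents ↥U.left ∧ u ∈ Z}.encard = 1) ↔
      (∀ (U : Over S) (a : (yon S).obj U ⟶ F) (u : ↥U.left), IsElemEtaleNbhd a u x →
        CAlg2.IsUnibranch ↥(U.left.presheaf.stalk u)) := by
  constructor
  · intro h U a u hu
    refine (Groth.Agent.S9781.result U.left u).2 fun U' g w hg => ?_
    haveI := hg.etale
    let W : Over S := Over.mk (g ≫ U.hom)
    let gW : W ⟶ U := Over.homMk g rfl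
    haveI : Etale gW.left := hg.etale
    obtain rfl : g.base w = u := hg.base_eq
    exact h W _ w (isElemEtaleNbhd_comp (g := gW) hu hg.residue_bijective)
  · intro h U a u hu
    refine (Groth.Agent.S9781.result U.left u).1 (h U a u hu) U.left (𝟙 _) u ⟨inferInstance, rfl, ?_⟩
    haveI : IsIso ((𝟙 U.left : U.left ⟶ U.left).residueFieldMap u) := inferInstance
    exact ConcreteCategory.bijective_of_isIso _

theorem minimalPrime_iff_components :
    (∀ (U : Over S) (a : (yon S).obj U ⟶ F) (u : ↥U.left), IsElemEtaleNbhd a u x →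
        CAlgX.HasUniqueMinimalPrime ↥(U.left.presheaf.stalk u)) ↔
      (∀ (U : Over S) (a : (yon S).obj U ⟶ F) (u : ↥U.left), IsElemEtaleNbhd a u x →
        {Z : Set ↥U.left | Z ∈ irreducibleComponents ↥U.left ∧ u ∈ Z}.encard = 1) :=
  forall_congr' fun U => forall_congr' fun _ => forall_congr' fun u => imp_congr_right fun _ => by
    rw [Groth.Agent.ASp.hasUniqueMinimalPrime_iff_encard, HensBranch.encard_components_eq, ENat.card_coe_set_eq]

/-- Unibranchness is the same along a morphism of elementary etale neighbourhoods. -/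
theorem isUnibranch_iff_of_hom {X : AlgSp.Space S} (hX : IsDecent X.obj) {x : Points X.obj} {U U' : Over S}
    (a : (yon S).obj U ⟶ X.obj) (g : U' ⟶ U) (u' : ↥U'.left)
    (ha : IsElemEtaleNbhd a (g.left.base u') x) (ha' : IsElemEtaleNbhd ((yon S).map g ≫ a) u' x) :
    CAlg2.IsUnibranch ↥(U.left.presheaf.stalk (g.left.base u')) ↔ CAlg2.IsUnibranch ↥(U'.left.presheaf.stalk u') := by
  obtain ⟨R, _, _, _, _, hR⟩ := Groth.Agent.S0506.result ↥(U'.left.presheaf.stalk u')
  haveI := hR
  have h' : CAlg2.IsUnibranch ↥(U'.left.presheaf.stalk u') ↔ CAlgX.HasUniqueMinimalPrime R :=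
    Groth.Agent.S2052.result
  refine Iff.trans ?_ h'.symm
  letI : Algebra ↥(U.left.presheaf.stalk (g.left.base u')) R :=
    ((algebraMap ↥(U'.left.presheaf.stalk u') R).comp (g.left.stalkMap u').hom).toAlgebra
  obtain ⟨hl, hh⟩ := Groth.Agent.S10440.result X hX x a _ g u' rfl ha ha' R
  haveI := hl; haveI := hh
  exact Groth.Agent.S2052.result

end Groth.Agent.ASpColim
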