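import Groth.Agent.ASpColim.ElemBranch
import Groth.Agent.S9237
import Groth.Agent.S9752
/-!
Branch numbers at elementary etale neighbourhoods.
-/

set_option autoImplicit false
set_option linter.style.haveILetI false
set_option backward.isDefEq.respectTransparency false
set_option backward.isDefEq.respectTransparency.types false

universe u

open CategoryTheory CategoryTheory.Limits AlgebraicGeometry

namespace Groth.Agent.ASpColim

open _root_.AlgSp

variable {S : Scheme.{u}}

theorem encard_henselization (A T : Type u) [CommRing A] [IsLocalRing A] [CommRing T] [IsLocalRing T] [Algebra A T]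
    [IsLocalHom (algebraMap A T)] [Hensel.IsHenselization A T] :
    (minimalPrimes T).encard = Brnch.numBranches A := by
  rw [← ENat.card_coe_set_eq]; exact Groth.Agent.S9237.result A T

theorem numBranchesAt_eq_of_hom {X : AlgSp.Space S} (hX : IsDecent X.obj) {x : Points X.obj} {U U' : Over S}
    (a : (yon S).obj U ⟶ X.obj) (g : U' ⟶ U) (u' : ↥U'.left)
    (ha : IsElemEtaleNbhd a (g.left.base u') x) (ha' : IsElemEtaleNbhd ((yon S).map g ≫ a) u' x) :
    Brnch.numBranchesAt U.left (g.left.base u') = Brnch.numBranchesAt U'.left u' := by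
  obtain ⟨R, _, _, _, _, hR⟩ := Groth.Agent.S0506.result ↥(U'.left.presheaf.stalk u')
  haveI := hR
  have h' : (minimalPrimes R).encard = Brnch.numBranches ↥(U'.left.presheaf.stalk u') := encard_henselization _ R
  rw [Brnch.numBranchesAt, Brnch.numBranchesAt, ← h']
  letI : Algebra ↥(U.left.presheaf.stalk (g.left.base u')) R :=
    ((algebraMap ↥(U'.left.presheaf.stalk u') R).comp (g.left.stalkMap u').hom).toAlgebra
  obtain ⟨hl, hh⟩ := Groth.Agent.S10440.result X hX x a _ g u' rfl ha ha' R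
  haveI := hl; haveI := hh
  exact (encard_henselization _ R).symm

theorem numBranchesAt_eq {X : AlgSp.Space S} (hX : IsDecent X.obj) {x : Points X.obj} {U₁ U₂ : Over S}
    (a₁ : (yon S).obj U₁ ⟶ X.obj) (a₂ : (yon S).obj U₂ ⟶ X.obj) (u₁ : ↥U₁.left) (u₂ : ↥U₂.left)
    (h₁ : IsElemEtaleNbhd a₁ u₁ x) (h₂ : IsElemEtaleNbhd a₂ u₂ x) :
    Brnch.numBranchesAt U₁.left u₁ = Brnch.numBranchesAt U₂.left u₂ := by
  obtain ⟨W, b, v, g₁, g₂, hb, e₁, e₂, hv₁, hv₂⟩ := (Groth.Agent.S10420.result X hX x).1 U₁ U₂ a₁ a₂ u₁ u₂ h₁ h₂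
  subst e₁
  subst hv₁
  subst hv₂
  refine (numBranchesAt_eq_of_hom hX a₁ g₁ v h₁ hb).trans ?_
  rw [← e₂] at hb
  exact (numBranchesAt_eq_of_hom hX a₂ g₂ v h₂ hb).symm

variable {X : Sp S} {x : Points X}

theorem encard_components_le_numBranchesAt (U : Scheme.{u}) (u : U) :
    {Z : Set U | Z ∈ irreducibleComponents (U : Type u) ∧ u ∈ Z}.encard ≤ Brnch.numBranchesAt U u := by
  rw [Groth.Agent.S9752.result U u]
  refine le_iSup_of_le U (le_iSup_of_le (𝟙 _) (le_iSup_of_le u (le_iSup_of_le ⟨inferInstance, rfl, ?_⟩ le_rfl)))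
  exact ConcreteCategory.bijective_of_isIso _

/-- Component numbers over all neighbourhoods have maximum the branch number. -/
theorem components_iff_numBranchesAt (n : ℕ) (hn : 1 ≤ n) (m : ℕ∞) {U₀ : Over S} {a₀ : (yon S).obj U₀ ⟶ X}
    {u₀ : ↥U₀.left} (h₀ : IsElemEtaleNbhd a₀ u₀ x)
    (hm : ∀ (U : Over S) (a : (yon S).obj U ⟶ X) (u : ↥U.left), IsElemEtaleNbhd a u x →
      Brnch.numBranchesAt U.left u = m) :
    ((∀ (U : Over S) (a : (yon S).obj U ⟶ X) (u : ↥U.left), IsElemEtaleNbhd a u x →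
        {Z : Set ↥U.left | Z ∈ irreducibleComponents ↥U.left ∧ u ∈ Z}.encard ≤ n) ∧
      (∃ (U : Over S) (a : (yon S).obj U ⟶ X) (u : ↥U.left), IsElemEtaleNbhd a u x ∧
        {Z : Set ↥U.left | Z ∈ irreducibleComponents ↥U.left ∧ u ∈ Z}.encard = n)) ↔ m = n := by
  constructor
  · rintro ⟨hle, U, a, u, hu, he⟩
    refine le_antisymm ?_ (he ▸ (hm U a u hu) ▸ encard_components_le_numBranchesAt U.left u)
    rw [← hm U a u hu, Groth.Agent.S9752.result U.left u]
    refine iSup_le fun U' => iSup_le fun g => iSup_le fun w => iSup_le fun hg => ?_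
    haveI := hg.etale
    let W : Over S := Over.mk (g ≫ U.hom)
    let gW : W ⟶ U := Over.homMk g rfl
    haveI : Etale gW.left := hg.etale
    obtain rfl : g.base w = u := hg.base_eq
    exact hle W _ w (isElemEtaleNbhd_comp (g := gW) hu hg.residue_bijective)
  · rintro rfl
    refine ⟨fun U a u hu => (encard_components_le_numBranchesAt U.left u).trans (hm U a u hu).le, ?_⟩
    by_contra hne
    have hlt : Brnch.numBranchesAt U₀.left u₀ ≤ ((n - 1 : ℕ) : ℕ∞) := by
      rw [Groth.Agent.S9752.result U₀.left u₀]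
      refine iSup_le fun U' => iSup_le fun g => iSup_le fun w => iSup_le fun hg => ?_
      haveI := hg.etale
      let W : Over S := Over.mk (g ≫ U₀.hom)
      let gW : W ⟶ U₀ := Over.homMk g rfl
      haveI : Etale gW.left := hg.etale
      obtain rfl : g.base w = u₀ := hg.base_eq
      have haW := isElemEtaleNbhd_comp (g := gW) h₀ hg.residue_bijective
      have hb : {Z : Set U' | Z ∈ irreducibleComponents (U' : Type u) ∧ w ∈ Z}.encard ≤ n :=
        (encard_components_le_numBranchesAt W.left w).trans (hm W _ w haW).le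
      obtain ⟨k, hk⟩ := ENat.ne_top_iff_exists.1 (ne_top_of_le_ne_top (ENat.natCast_ne_top n) hb)
      rw [← hk] at hb ⊢
      have hkn : k ≠ n := fun e => hne ⟨W, _, w, haW, e ▸ hk.symm⟩
      have := ENat.natCast_le_natCast.1 hb
      exact ENat.natCast_le_natCast.2 (by omega)
    rw [hm U₀ a₀ u₀ h₀] at hlt
    have := ENat.natCast_le_natCast.1 hlt
    omega

end Groth.Agent.ASpColim
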