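import Groth.Agent.ASpColim.SepColim
import Groth.Agent.ASp.Sub
import Groth.Agent.ASp.LargestOpen
/-!
Colimits detected by the category of étale spaces and affine targets: set up.
-/

set_option autoImplicit false
set_option backward.isDefEq.respectTransparency false
set_option backward.isDefEq.respectTransparency.types false

universe w v u

open CategoryTheory CategoryTheory.Limits AlgebraicGeometry Opposite

noncomputable section

namespace Groth.Agent.ASpColim

open _root_.AlgSp Groth.Agent.ASp

variable {S : Scheme.{u}} {B : AlgSp.Space S}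

/-- An object over `B`. -/
def ov (W : Sp S) (hW : IsAlgSpace W) (π : W ⟶ B.obj) : Over B :=
  Over.mk (ObjectProperty.homMk π : (⟨W, hW⟩ : AlgSp.Space S) ⟶ B)

/-- A morphism over `B`. -/
def ovHom {A A' : Over B} (f : A.left.obj ⟶ A'.left.obj) (w : f ≫ A'.hom.hom = A.hom.hom) : A ⟶ A' :=
  Over.homMk (ObjectProperty.homMk f) (InducedCategory.hom_ext w)

theorem ov_ext {A A' : Over B} {f g : A ⟶ A'} (h : f.left.hom = g.left.hom) : f = g :=
  Over.OverMorphism.ext (InducedCategory.hom_ext h)

theorem ov_w {A A' : Over B} (f : A ⟶ A') : f.left.hom ≫ A'.hom.hom = A.hom.hom :=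
  congrArg InducedCategory.Hom.hom (Over.w f)

variable {I : Type v} [Category.{w} I] {D : I ⥤ Over B} (c : Cocone D)

theorem ov_cw {i j : I} (m : i ⟶ j) :
    (D.map m).left.hom ≫ (c.ι.app j).left.hom = (c.ι.app i).left.hom :=
  congrArg (fun k => k.left.hom) (c.w m)

variable {U : Sp S} (hU : IsAlgSpace U) (a : U ⟶ c.pt.left.obj)

/-- The pullback of the diagram along a map into the point. -/
def sys : I ⥤ Over B where
  obj i := ov (pullback a (c.ι.app i).left.hom)
    (isAlgSpace_pullback c.pt.left.property.diag hU (D.obj i).left.property _ _)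
    (pullback.snd a _ ≫ (D.obj i).hom.hom)
  map {i j} m := ovHom
    (pullback.lift (pullback.fst _ _) (pullback.snd _ _ ≫ (D.map m).left.hom)
      (by rw [Category.assoc, ov_cw c m]; exact pullback.condition))
    (by
      refine Eq.trans ?_ (congrArg (pullback.snd a (c.ι.app i).left.hom ≫ ·) (ov_w (D.map m)))
      exact (pullback.lift_snd_assoc _ _ _ _).trans (Category.assoc _ _ _))
  map_id i := ov_ext (pullback.hom_ext
    ((pullback.lift_fst _ _ _).trans (Category.id_comp _).symm)
    (((pullback.lift_snd _ _ _).trans (by rw [D.map_id]; exact Category.comp_id _)).trans (Category.id_comp _).symm))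
  map_comp {i j k} m n := ov_ext (pullback.hom_ext
    (by
      refine (pullback.lift_fst _ _ _).trans (Eq.symm ?_)
      exact (Category.assoc _ _ _).trans ((congrArg _ (pullback.lift_fst _ _ _)).trans (pullback.lift_fst _ _ _)))
    (by
      refine (pullback.lift_snd _ _ _).trans (Eq.symm ?_)
      refine (Category.assoc _ _ _).trans ((congrArg _ (pullback.lift_snd _ _ _)).trans ?_)
      refine (pullback.lift_snd_assoc _ _ _ _).trans ((Category.assoc _ _ _).trans ?_)
      rw [D.map_comp]
      rfl))

/-- The projection of the pullback system to the diagram. -/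
def sysα : sys c hU a ⟶ D where
  app i := ovHom (pullback.snd _ _) rfl
  naturality _ _ _ := ov_ext (pullback.lift_snd _ _ _)

/-- The projection of the pullback system to the map pulled back. -/
def sysι : sys c hU a ⟶ (Functor.const I).obj (ov U hU (a ≫ c.pt.hom.hom)) where
  app i := ovHom (pullback.fst _ _) (by
    change pullback.fst a (c.ι.app i).left.hom ≫ a ≫ c.pt.hom.hom = pullback.snd _ _ ≫ _
    rw [pullback.condition_assoc]
    exact congrArg (pullback.snd a (c.ι.app i).left.hom ≫ ·) (ov_w (c.ι.app i)))
  naturality _ _ _ := ov_ext ((pullback.lift_fst _ _ _).trans (Category.comp_id _).symm)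

/-- The map to the point. -/
def sysMap : ov U hU (a ≫ c.pt.hom.hom) ⟶ c.pt := ovHom a rfl

theorem sys_isPullback (i : I) :
    IsPullback ((sysι c hU a).app i).left.hom ((sysα c hU a).app i).left.hom (sysMap c hU a).left.hom
      (c.ι.app i).left.hom :=
  IsPullback.of_hasPullback _ _

end Groth.Agent.ASpColim
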