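import Groth.Agent.ASpColim.EtaleEquivColim
/-!
Colimits detected by the category of étale spaces and affine targets.
-/

set_option autoImplicit false
set_option backward.isDefEq.respectTransparency false
set_option backward.isDefEq.respectTransparency.types false

universe w v u

open CategoryTheory CategoryTheory.Limits AlgebraicGeometry Opposite

noncomputable section

namespace Groth.Agent.ASpColim

open _root_.AlgSp Groth.Agent.ASp

variable {S : Scheme.{u}} {B : AlgSp.Space S} {I : Type v} [Category.{w} I] {D : I ⥤ Over B} (c : Cocone D)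

theorem flat_of_etaleP {X Y : Sp S} {f : X ⟶ Y} (h : LocP @Etale f) : LocP @Flat f :=
  fun _ _ s t k hs ht e => by have := h s t k hs ht e; infer_instance

theorem lfp_of_etaleP {X Y : Sp S} {f : X ⟶ Y} (h : LocP @Etale f) : LocP @LocallyOfFinitePresentation f :=
  fun _ _ s t k hs ht e => by have := h s t k hs ht e; infer_instance

/-- An étale cancellation. -/
theorem locP_etale_cancel {F G H : Sp S} {f : F ⟶ G} {g : G ⟶ H} (hH : IsAlgSpace H)
    (hfg : LocP @Etale (f ≫ g)) (hg : LocP @Etale g) : LocP @Etale f :=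
  locP_of_comp (P := @Etale) (Q := @Etale)
    (fun f g (h₁ : Etale (f ≫ g)) (h₂ : Etale g) => Etale.of_comp f g) hH hfg hg

/-- Affine charts of an algebraic space over a chart of another. -/
theorem exists_affine_family {X : Sp S} (hX : IsAlgSpace X) :
    ∃ (κ : Type u) (V : κ → Over S) (p : ∀ k, (yon S).obj (V k) ⟶ X), (∀ k, IsAffine (V k).left) ∧
      (∀ k, RepWith @Etale (p k)) ∧ ∀ x : Points X, ∃ k, x ∈ Set.range (Points.map (p k)) := by
  obtain ⟨V, p, hpe, hps⟩ := hX.atlas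
  let K := V.left.affineCover
  refine ⟨K.I₀, fun k => Over.mk (K.f k ≫ V.hom),
    fun k => (yon S).map (Over.homMk (K.f k) rfl : Over.mk (K.f k ≫ V.hom) ⟶ V) ≫ p,
    fun k => inferInstanceAs (IsAffine (K.X k)),
    fun k => repWith_comp ((repWith_yon_map_iff _ _).2 (inferInstanceAs (Etale (K.f k)))) hpe, fun x => ?_⟩
  obtain ⟨v, rfl⟩ := surjective_ofPt hps x
  obtain ⟨w, hw⟩ := K.covers v
  refine ⟨K.idx v, Points.ofPt (𝟙 _) w, ?_⟩
  rw [Points.map_ofPt, Category.id_comp, ofPt_yon_map_comp]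
  exact congrArg (Points.ofPt p) hw

variable
    (h₁ : ∀ (D' : I ⥤ Over B) (α : D' ⟶ D),
      (∀ ⦃i j : I⦄ (g : i ⟶ j), IsPullback (D'.map g).left.hom (α.app i).left.hom (α.app j).left.hom (D.map g).left.hom) →
      (∀ i, AlgSp.IsEtaleMor (α.app i).left.hom) →
        ∃ (c' : Cocone D') (a : c'.pt ⟶ c.pt), AlgSp.IsEtaleMor a.left.hom ∧
          ∀ i, IsPullback (c'.ι.app i).left.hom (α.app i).left.hom a.left.hom (c.ι.app i).left.hom)
    (h₁' : ∀ (U U' : Over B) (u : U ⟶ c.pt) (u' : U' ⟶ c.pt), AlgSp.IsEtaleMor u.left.hom → AlgSp.IsEtaleMor u'.left.hom →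
      ∀ (DU DU' : I ⥤ Over B) (αU : DU ⟶ D) (αU' : DU' ⟶ D) (ιU : DU ⟶ (Functor.const I).obj U)
        (ιU' : DU' ⟶ (Functor.const I).obj U'),
        (∀ i, IsPullback (ιU.app i).left.hom (αU.app i).left.hom u.left.hom (c.ι.app i).left.hom) →
        (∀ i, IsPullback (ιU'.app i).left.hom (αU'.app i).left.hom u'.left.hom (c.ι.app i).left.hom) →
        ∀ (β : DU ⟶ DU'), β ≫ αU' = αU →
          ∃! m : U ⟶ U', m ≫ u' = u ∧ ∀ i, ιU.app i ≫ m = β.app i ≫ ιU'.app i)
    (h₂ : ∀ (B' Zs Us : Over S) (b : (AlgSp.yon S).obj B' ⟶ B.obj) (z : Zs ⟶ B') {XB : AlgSp.Space S}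
      (x₁ : XB ⟶ c.pt.left) (x₂ : XB.obj ⟶ (AlgSp.yon S).obj B') (uu : (AlgSp.yon S).obj Us ⟶ XB.obj)
      (DU : I ⥤ AlgSp.Space S) (αU : DU ⟶ D ⋙ Over.forget B)
      (ιU : DU ⟶ (Functor.const I).obj ((AlgSp.ofScheme S).obj Us))
      (φ : DU ⟶ (Functor.const I).obj ((AlgSp.ofScheme S).obj Zs)),
      IsAffine B'.left → IsAffine Zs.left → IsAffine Us.left → AlgSp.RepWith @Etale b →
      IsPullback x₁.hom x₂ c.pt.hom.hom b → AlgSp.RepWith @Etale uu →
      (∀ i, IsPullback (ιU.app i).hom (αU.app i).hom (uu ≫ x₁.hom) (c.ι.app i).left.hom) →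
      (∀ i, (φ.app i).hom ≫ (AlgSp.yon S).map z = (ιU.app i).hom ≫ uu ≫ x₂) →
        ∃! fz : Us ⟶ Zs, (AlgSp.yon S).map fz ≫ (AlgSp.yon S).map z = uu ≫ x₂ ∧
          ∀ i, (ιU.app i).hom ≫ (AlgSp.yon S).map fz = (φ.app i).hom)

include h₁' in
/-- Maps between étale spaces over the point are determined by the pullback systems. -/
theorem hom_ext_etale {U U' : Sp S} (hU : IsAlgSpace U) (hU' : IsAlgSpace U') {a : U ⟶ c.pt.left.obj}
    {a' : U' ⟶ c.pt.left.obj} (ha : LocP @Etale a) (ha' : LocP @Etale a') {m₁ m₂ : U ⟶ U'}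
    (e₁ : m₁ ≫ a' = a) (e₂ : m₂ ≫ a' = a)
    (h : ∀ (i : I) (T : Sp S) (t : T ⟶ (D.obj i).left.obj) (s : T ⟶ U),
      s ≫ a = t ≫ (c.ι.app i).left.hom → s ≫ m₁ = s ≫ m₂) : m₁ = m₂ := by
  let β : sys c hU a ⟶ sys c hU' a' :=
    { app := fun i => ovHom (pullback.lift (pullback.fst _ _ ≫ m₁) (pullback.snd _ _)
          (by rw [Category.assoc, e₁]; exact pullback.condition))
        (pullback.lift_snd_assoc _ _ _ _)
      naturality := fun i j g => ov_ext (pullback.hom_ext
        (by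
          change (pullback.lift _ _ _ ≫ pullback.lift _ _ _) ≫ pullback.fst a' _ =
            (pullback.lift _ _ _ ≫ pullback.lift _ _ _) ≫ pullback.fst a' _
          simp)
        (by
          change (pullback.lift _ _ _ ≫ pullback.lift _ _ _) ≫ pullback.snd a' _ =
            (pullback.lift _ _ _ ≫ pullback.lift _ _ _) ≫ pullback.snd a' _
          simp)) }
  obtain ⟨m, -, hu⟩ := h₁' _ _ (sysMap c hU a) (sysMap c hU' a')
    ((isEtaleMor_iff_locP c.pt.left.property).2 ha) ((isEtaleMor_iff_locP c.pt.left.property).2 ha')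
    _ _ (sysα c hU a) (sysα c hU' a') (sysι c hU a) (sysι c hU' a') (sys_isPullback c hU a)
    (sys_isPullback c hU' a') β (NatTrans.ext (funext fun i => ov_ext (pullback.lift_snd _ _ _)))
  let M : ∀ n : U ⟶ U', n ≫ a' = a → (ov U hU (a ≫ c.pt.hom.hom) ⟶ ov U' hU' (a' ≫ c.pt.hom.hom)) :=
    fun n e => ovHom n ((Category.assoc _ _ _).symm.trans (congrArg (· ≫ c.pt.hom.hom) e))
  have h1 := hu (M m₁ e₁) ⟨ov_ext e₁, fun i => ov_ext (pullback.lift_fst _ _ _).symm⟩
  have h2 := hu (M m₂ e₂) ⟨ov_ext e₂, fun i => ov_ext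
    ((h i _ (pullback.snd _ _) (pullback.fst _ _) pullback.condition).symm.trans
      (pullback.lift_fst _ _ _).symm)⟩
  exact congrArg (fun k => k.left.hom) (h1.trans h2.symm)

include h₁' in
/-- A morphism of pullback systems comes from a map. -/
theorem exists_hom_etale {U U' : Sp S} (hU : IsAlgSpace U) (hU' : IsAlgSpace U') {a : U ⟶ c.pt.left.obj}
    {a' : U' ⟶ c.pt.left.obj} (ha : LocP @Etale a) (ha' : LocP @Etale a')
    (β : ∀ i, pullback a (c.ι.app i).left.hom ⟶ U')
    (hβ : ∀ i, β i ≫ a' = pullback.snd _ _ ≫ (c.ι.app i).left.hom)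
    (hnat : ∀ {i j : I} (g : i ⟶ j), ((sys c hU a).map g).left.hom ≫ β j = β i) :
    ∃ m : U ⟶ U', m ≫ a' = a ∧ ∀ i, pullback.fst a (c.ι.app i).left.hom ≫ m = β i := by
  let B' : sys c hU a ⟶ sys c hU' a' :=
    { app := fun i => ovHom (pullback.lift (β i) (pullback.snd _ _) (hβ i)) (pullback.lift_snd_assoc _ _ _ _)
      naturality := fun i j g => ov_ext (pullback.hom_ext
        (by
          change (((sys c hU a).map g).left.hom ≫ pullback.lift _ _ _) ≫ pullback.fst a' _ =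
            (pullback.lift _ _ _ ≫ pullback.lift _ _ _) ≫ pullback.fst a' _
          rw [Category.assoc, pullback.lift_fst, hnat g]
          simp)
        (by
          change (pullback.lift _ _ _ ≫ pullback.lift _ _ _) ≫ pullback.snd a' _ =
            (pullback.lift _ _ _ ≫ pullback.lift _ _ _) ≫ pullback.snd a' _
          simp)) }
  obtain ⟨m, ⟨hm₁, hm₂⟩, -⟩ := h₁' _ _ (sysMap c hU a) (sysMap c hU' a')
    ((isEtaleMor_iff_locP c.pt.left.property).2 ha) ((isEtaleMor_iff_locP c.pt.left.property).2 ha')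
    _ _ (sysα c hU a) (sysα c hU' a') (sysι c hU a) (sysι c hU' a') (sys_isPullback c hU a)
    (sys_isPullback c hU' a') B' (NatTrans.ext (funext fun i => ov_ext (pullback.lift_snd _ _ _)))
  exact ⟨m.left.hom, congrArg (fun k => k.left.hom) hm₁,
    fun i => (congrArg (fun k => k.left.hom) (hm₂ i)).trans (pullback.lift_fst _ _ _)⟩

variable {B' Zs : Over S} [IsAffine B'.left] [IsAffine Zs.left] {b : (yon S).obj B' ⟶ B.obj}
  (hb : RepWith @Etale b) (z : Zs ⟶ B')

include hb in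
/-- Affine charts of an étale space over the point which maps to a chart of the base. -/
theorem exists_uu {U : Sp S} (hU : IsAlgSpace U) {a : U ⟶ c.pt.left.obj} (ha : LocP @Etale a)
    {ρ : U ⟶ (yon S).obj B'} (hρ : ρ ≫ b = a ≫ c.pt.hom.hom) {Us : Over S} (u : (yon S).obj Us ⟶ U)
    (hu : RepWith @Etale u) :
    ∃ (XB : AlgSp.Space S) (x₁ : XB ⟶ c.pt.left) (x₂ : XB.obj ⟶ (yon S).obj B')
      (uu : (yon S).obj Us ⟶ XB.obj), IsPullback x₁.hom x₂ c.pt.hom.hom b ∧ RepWith @Etale uu ∧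
        uu ≫ x₁.hom = u ≫ a ∧ uu ≫ x₂ = u ≫ ρ := by
  have hXB : IsAlgSpace (pullback c.pt.hom.hom b) :=
    isAlgSpace_pullback B.property.diag c.pt.left.property (IsAlgSpace.yon_obj B') _ _
  have hu' : LocP @Etale (u ≫ a) := locP_comp hU (locP_of_repWith hu) ha
  have hx : LocP @Etale (pullback.fst c.pt.hom.hom b) :=
    locP_of_isPullback (IsPullback.of_hasPullback c.pt.hom.hom b) (IsAlgSpace.yon_obj B') B.property
      c.pt.left.property (locP_of_repWith hb)
  refine ⟨⟨_, hXB⟩, ObjectProperty.homMk (pullback.fst _ _), pullback.snd _ _,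
    pullback.lift (u ≫ a) (u ≫ ρ) (by rw [Category.assoc, Category.assoc, hρ]),
    IsPullback.of_hasPullback _ _, ?_, pullback.lift_fst _ _ _, pullback.lift_snd _ _ _⟩
  refine repWith_of_locP hXB (hXB.representable_from_yon _) ?_
  exact locP_etale_cancel c.pt.left.property (g := pullback.fst _ _) (by rw [pullback.lift_fst]; exact hu') hx

/-- The system over an affine chart. -/
theorem exists_chart_system {U : Sp S} (hU : IsAlgSpace U) (a : U ⟶ c.pt.left.obj)
    {Us : Over S} (u : (yon S).obj Us ⟶ U) (φ : ∀ i, pullback (u ≫ a) (c.ι.app i).left.hom ⟶ (yon S).obj Zs)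
    (hnat : ∀ {i j : I} (g : i ⟶ j),
      ((sys c (IsAlgSpace.yon_obj Us) (u ≫ a)).map g).left.hom ≫ φ j = φ i) :
    ∃ (DU : I ⥤ AlgSp.Space S) (αU : DU ⟶ D ⋙ Over.forget B)
      (ιU : DU ⟶ (Functor.const I).obj ((AlgSp.ofScheme S).obj Us))
      (φ' : DU ⟶ (Functor.const I).obj ((AlgSp.ofScheme S).obj Zs))
      (e : ∀ i, (DU.obj i).obj = pullback (u ≫ a) (c.ι.app i).left.hom), ∀ i,
      (ιU.app i).hom = eqToHom (e i) ≫ pullback.fst _ _ ∧ (αU.app i).hom = eqToHom (e i) ≫ pullback.snd _ _ ∧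
        (φ'.app i).hom = eqToHom (e i) ≫ φ i :=
  ⟨sys c (IsAlgSpace.yon_obj Us) (u ≫ a) ⋙ Over.forget B, Functor.whiskerRight (sysα c _ _) (Over.forget B),
    { app := fun i => ObjectProperty.homMk (pullback.fst _ _)
      naturality := fun _ _ _ => InducedCategory.hom_ext ((pullback.lift_fst _ _ _).trans (Category.comp_id _).symm) },
    { app := fun i => ObjectProperty.homMk (φ i)
      naturality := fun _ _ g => InducedCategory.hom_ext ((hnat g).trans (Category.comp_id _).symm) },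
    fun _ => rfl, fun _ => ⟨(Category.id_comp _).symm, (Category.id_comp _).symm, (Category.id_comp _).symm⟩⟩

include h₂ hb in
/-- The affine targets: existence and uniqueness on an affine chart. -/
theorem existsUnique_affine {U : Sp S} (hU : IsAlgSpace U) {a : U ⟶ c.pt.left.obj} (ha : LocP @Etale a)
    {ρ : U ⟶ (yon S).obj B'} (hρ : ρ ≫ b = a ≫ c.pt.hom.hom)
    {Us : Over S} (hUs : IsAffine Us.left) (u : (yon S).obj Us ⟶ U) (hu : RepWith @Etale u)
    (φ : ∀ i, pullback (u ≫ a) (c.ι.app i).left.hom ⟶ (yon S).obj Zs)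
    (hφ : ∀ i, φ i ≫ (yon S).map z = pullback.fst _ _ ≫ u ≫ ρ)
    (hnat : ∀ {i j : I} (g : i ⟶ j),
      ((sys c (IsAlgSpace.yon_obj Us) (u ≫ a)).map g).left.hom ≫ φ j = φ i) :
    ∃! g : (yon S).obj Us ⟶ (yon S).obj Zs, g ≫ (yon S).map z = u ≫ ρ ∧
      ∀ i, pullback.fst (u ≫ a) (c.ι.app i).left.hom ≫ g = φ i := by
  obtain ⟨XB, x₁, x₂, uu, hX, huu, e₁, e₂⟩ := exists_uu c hb hU ha hρ u hu
  obtain ⟨DU, αU, ιU, φ', e, he⟩ := exists_chart_system c hU a u φ hnat
  obtain ⟨fz, ⟨hfz₁, hfz₂⟩, hfzu⟩ := h₂ B' Zs Us b z x₁ x₂ uu DU αU ιU φ' inferInstance inferInstance hUs hb hX huu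
    (fun i => by
      rw [e₁, (he i).1, (he i).2.1]
      exact (IsPullback.of_hasPullback _ _).of_iso (eqToIso (e i)).symm (Iso.refl _) (Iso.refl _) (Iso.refl _)
        (by simp) (by simp) (by simp) (by simp))
    (fun i => by rw [(he i).2.2, (he i).1, e₂, Category.assoc, Category.assoc, hφ])
  refine ⟨(yon S).map fz, ⟨hfz₁.trans e₂, fun i => ?_⟩, fun g ⟨hg₁, hg₂⟩ => ?_⟩
  · have := hfz₂ i
    rw [(he i).1, (he i).2.2, Category.assoc] at this
    exact (cancel_epi (eqToHom (e i))).1 this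
  · obtain ⟨g, rfl⟩ := (yon S).map_surjective g
    rw [hfzu g ⟨hg₁.trans e₂.symm, fun i => by rw [(he i).1, (he i).2.2, Category.assoc, hg₂]⟩]

include h₂ hb in
/-- Maps from an étale space over the point into an affine target are determined by the systems. -/
theorem hom_ext_affineTarget {U : Sp S} (hU : IsAlgSpace U) {a : U ⟶ c.pt.left.obj} (ha : LocP @Etale a)
    {ρ : U ⟶ (yon S).obj B'} (hρ : ρ ≫ b = a ≫ c.pt.hom.hom)
    {g₁ g₂ : U ⟶ (yon S).obj Zs} (e₁ : g₁ ≫ (yon S).map z = ρ) (e₂ : g₂ ≫ (yon S).map z = ρ)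
    (h : ∀ (i : I) (T : Sp S) (t : T ⟶ (D.obj i).left.obj) (s : T ⟶ U),
      s ≫ a = t ≫ (c.ι.app i).left.hom → s ≫ g₁ = s ≫ g₂) : g₁ = g₂ := by
  obtain ⟨κ, V, p, hV, hp, hps⟩ := exists_affine_family hU
  refine hom_ext_family hU (fun k => IsAlgSpace.yon_obj (V k)) (fun k => flat_of_etaleP (locP_of_repWith (hp k)))
    (fun k => lfp_of_etaleP (locP_of_repWith (hp k))) hps fun k => ?_
  refine (existsUnique_affine c h₂ hb z hU ha hρ (hV k) (p k) (hp k)
    (fun i => pullback.fst _ _ ≫ p k ≫ g₁) (fun i => ?_) (fun {i j} g => ?_)).unique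
      ⟨by rw [Category.assoc, e₁], fun i => rfl⟩
      ⟨by rw [Category.assoc, e₂], fun i => ?_⟩
  · simp only [Category.assoc, e₁]
  · exact (pullback.lift_fst_assoc _ _ _ _)
  · have := h i _ (pullback.snd (p k ≫ a) (c.ι.app i).left.hom) (pullback.fst _ _ ≫ p k)
      (by rw [Category.assoc]; exact pullback.condition)
    simpa only [Category.assoc] using this.symm

include h₂ hb in
/-- A system of maps to an affine target comes from a map. -/
theorem exists_affineTarget {U : Sp S} (hU : IsAlgSpace U) {a : U ⟶ c.pt.left.obj} (ha : LocP @Etale a)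
    {ρ : U ⟶ (yon S).obj B'} (hρ : ρ ≫ b = a ≫ c.pt.hom.hom)
    (ψ : ∀ i, pullback a (c.ι.app i).left.hom ⟶ (yon S).obj Zs)
    (hψ : ∀ i, ψ i ≫ (yon S).map z = pullback.fst _ _ ≫ ρ)
    (hnat : ∀ {i j : I} (g : i ⟶ j), ((sys c hU a).map g).left.hom ≫ ψ j = ψ i) :
    ∃ g : U ⟶ (yon S).obj Zs, g ≫ (yon S).map z = ρ ∧
      ∀ (i : I) (T : Sp S) (t : T ⟶ (D.obj i).left.obj) (s : T ⟶ U) (w : s ≫ a = t ≫ (c.ι.app i).left.hom),
        s ≫ g = pullback.lift s t w ≫ ψ i := by
  obtain ⟨κ, V, p, hV, hp, hps⟩ := exists_affine_family hU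
  let L : ∀ k i, pullback (p k ≫ a) (c.ι.app i).left.hom ⟶ pullback a (c.ι.app i).left.hom := fun k i =>
    pullback.lift (pullback.fst _ _ ≫ p k) (pullback.snd _ _) (by rw [Category.assoc]; exact pullback.condition)
  have hloc : ∀ k, ∃ g : (yon S).obj (V k) ⟶ (yon S).obj Zs, g ≫ (yon S).map z = p k ≫ ρ ∧
      ∀ i, pullback.fst (p k ≫ a) (c.ι.app i).left.hom ≫ g = L k i ≫ ψ i := fun k =>
    (existsUnique_affine c h₂ hb z hU ha hρ (hV k) (p k) (hp k) (fun i => L k i ≫ ψ i)
      (fun i => by simp [L, hψ]) (fun {i j} g => by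
        rw [← hnat g, ← Category.assoc, ← Category.assoc]
        refine congrArg (· ≫ ψ j) ?_
        change pullback.lift _ _ _ ≫ pullback.lift _ _ _ = pullback.lift _ _ _ ≫ pullback.lift _ _ _
        apply pullback.hom_ext <;> simp)).exists
  choose g hg₁ hg₂ using hloc
  have hgT : ∀ (k : κ) (i : I) (T : Sp S) (t : T ⟶ (D.obj i).left.obj) (s : T ⟶ (yon S).obj (V k))
      (w : (s ≫ p k) ≫ a = t ≫ (c.ι.app i).left.hom),
      s ≫ g k = pullback.lift (s ≫ p k) t w ≫ ψ i := fun k i T t s w => by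
    have w' : s ≫ p k ≫ a = t ≫ (c.ι.app i).left.hom := by rw [← w, Category.assoc]
    refine Eq.trans (congrArg (· ≫ g k) (pullback.lift_fst (f := p k ≫ a) (g := (c.ι.app i).left.hom) s t w').symm) ?_
    rw [Category.assoc, hg₂, ← Category.assoc]
    congr 1
    apply pullback.hom_ext <;> simp [L]
  obtain ⟨G, hG, -⟩ := existsUnique_hom_of_family hU (fun k => IsAlgSpace.yon_obj (V k))
    (fun k => flat_of_etaleP (locP_of_repWith (hp k))) (fun k => lfp_of_etaleP (locP_of_repWith (hp k))) hps g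
    fun k l Q qk ql hQ => by
      have hQa : IsAlgSpace Q := isAlgSpace_of_isPullback hU.diag (IsAlgSpace.yon_obj _) (IsAlgSpace.yon_obj _) hQ
      have hqe : LocP @Etale (qk ≫ p k) := locP_comp (IsAlgSpace.yon_obj _)
        (locP_of_isPullback hQ (IsAlgSpace.yon_obj _) hU (IsAlgSpace.yon_obj _) (locP_of_repWith (hp l)))
        (locP_of_repWith (hp k))
      refine hom_ext_affineTarget c h₂ hb z hQa (a := (qk ≫ p k) ≫ a) (ρ := (qk ≫ p k) ≫ ρ) (locP_comp hU hqe ha)
        (by simp only [Category.assoc, hρ]) (by simp only [Category.assoc, hg₁])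
        (by simp only [Category.assoc, hg₁]; rw [← reassoc_of% hQ.w]) fun i T t s w => ?_
      rw [← Category.assoc, ← Category.assoc, hgT k i T t (s ≫ qk) (by simpa [Category.assoc] using w),
        hgT l i T t (s ≫ ql) (by
          rw [Category.assoc s, ← hQ.w]
          simpa [Category.assoc] using w)]
      congr 1
      apply pullback.hom_ext
      · rw [pullback.lift_fst, pullback.lift_fst, Category.assoc, Category.assoc, hQ.w]
      · rw [pullback.lift_snd, pullback.lift_snd]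
  refine ⟨G, hom_ext_family hU (fun k => IsAlgSpace.yon_obj (V k))
    (fun k => flat_of_etaleP (locP_of_repWith (hp k))) (fun k => lfp_of_etaleP (locP_of_repWith (hp k))) hps
    fun k => by rw [reassoc_of% (hG k), hg₁], fun i T t s w => ?_⟩
  have key : pullback.fst a (c.ι.app i).left.hom ≫ G = ψ i := by
    have hP := (sys c hU a).obj i |>.left.property
    have sq : ∀ k, IsPullback (L k i) (pullback.fst (p k ≫ a) (c.ι.app i).left.hom)
        (pullback.fst a (c.ι.app i).left.hom) (p k) := fun k => by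
      refine IsPullback.of_right (h₁₂ := pullback.snd a (c.ι.app i).left.hom) ?_ (pullback.lift_fst _ _ _)
        (IsPullback.of_hasPullback a (c.ι.app i).left.hom).flip
      rw [pullback.lift_snd]
      exact (IsPullback.of_hasPullback _ _).flip
    have hLe : ∀ k, LocP @Etale (L k i) := fun k =>
      locP_of_isPullback (sq k) (IsAlgSpace.yon_obj _) hU hP (locP_of_repWith (hp k))
    refine hom_ext_family (a := fun k => L k i) hP
      (fun k => isAlgSpace_pullback c.pt.left.property.diag (IsAlgSpace.yon_obj _) (D.obj i).left.property _ _)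
      (fun k => flat_of_etaleP (hLe k)) (fun k => lfp_of_etaleP (hLe k)) (fun x => ?_) fun k => ?_
    · obtain ⟨k, y, hy⟩ := hps (Points.map (pullback.fst a _) x)
      obtain ⟨r, hr, -⟩ := points_exists_of_isPullback (sq k) x y hy.symm
      exact ⟨k, r, hr⟩
    · rw [(sq k).w_assoc, hG, hg₂]
  rw [← key, pullback.lift_fst_assoc]

end Groth.Agent.ASpColim
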