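import Groth.Agent.ASpColim.EtaleEquivColimMain
import Groth.Prelude.Def_AlgSpEt
/-!
Colimits detected by étale spaces and affine targets: descent of a cocone of maps.
-/

set_option autoImplicit false
set_option backward.isDefEq.respectTransparency false
set_option backward.isDefEq.respectTransparency.types false

universe w v u

open CategoryTheory CategoryTheory.Limits AlgebraicGeometry Opposite

noncomputable section

namespace Groth.Agent.ASpColim

open _root_.AlgSp Groth.Agent.ASp

variable {S : Scheme.{u}} {B : AlgSp.Space S} {I : Type v} [Category.{w} I] {D : I ⥤ Over B} (c : Cocone D)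

/-- Pairs of an affine chart of the base and an affine chart of a space over it. -/
theorem exists_double_family {Y : Sp S} (hY : IsAlgSpace Y) (πY : Y ⟶ B.obj) :
    ∃ (κ : Type u) (B' Zs : κ → Over S) (b : ∀ k, (yon S).obj (B' k) ⟶ B.obj) (z : ∀ k, Zs k ⟶ B' k)
      (p : ∀ k, (yon S).obj (Zs k) ⟶ Y), (∀ k, IsAffine (B' k).left) ∧ (∀ k, IsAffine (Zs k).left) ∧
      (∀ k, RepWith @Etale (b k)) ∧ (∀ k, RepWith @Etale (p k)) ∧
      (∀ k, p k ≫ πY = (yon S).map (z k) ≫ b k) ∧ ∀ y : Points Y, ∃ k, y ∈ Set.range (Points.map (p k)) := by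
  obtain ⟨κ₀, B', b, hB, hb, hbs⟩ := exists_affine_family B.property
  have hYl : ∀ l, IsAlgSpace (pullback πY (b l)) := fun l =>
    isAlgSpace_pullback B.property.diag hY (IsAlgSpace.yon_obj _) _ _
  choose κ₁ V q hV hq hqs using fun l => exists_affine_family (hYl l)
  choose z hz using fun (k : Σ l, κ₁ l) => (yon S).map_surjective (q k.1 k.2 ≫ pullback.snd πY (b k.1))
  have hpe : ∀ l, LocP @Etale (pullback.fst πY (b l)) := fun l =>
    locP_of_isPullback (IsPullback.of_hasPullback _ _) (IsAlgSpace.yon_obj _) B.property hY (locP_of_repWith (hb l))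
  refine ⟨Σ l, κ₁ l, fun k => B' k.1, fun k => V k.1 k.2, fun k => b k.1, z,
    fun k => q k.1 k.2 ≫ pullback.fst _ _, fun k => hB _, fun k => hV _ _, fun k => hb _,
    fun k => repWith_of_locP hY (hY.representable_from_yon _) (locP_comp (hYl _) (locP_of_repWith (hq _ _)) (hpe _)),
    fun k => by rw [hz, Category.assoc, Category.assoc, pullback.condition], fun y => ?_⟩
  obtain ⟨l, t, ht⟩ := hbs (Points.map πY y)
  obtain ⟨x, hx, -⟩ := points_exists_of_isPullback (IsPullback.of_hasPullback πY (b l)) y t ht.symm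
  obtain ⟨m, s, hs⟩ := hqs l x
  exact ⟨⟨l, m⟩, s, by rw [Points.map_comp, hs, hx]⟩

variable
    (h₁ : ∀ (D' : I ⥤ Over B) (α : D' ⟶ D),
      (∀ ⦃i j : I⦄ (g : i ⟶ j), IsPullback (D'.map g).left.hom (α.app i).left.hom (α.app j).left.hom (D.map g).left.hom) →
      (∀ i, AlgSp.IsEtaleMor (α.app i).left.hom) →
        ∃ (c' : Cocone D') (a : c'.pt ⟶ c.pt), AlgSp.IsEtaleMor a.left.hom ∧
          ∀ i, IsPullback (c'.ι.app i).left.hom (α.app i).left.hom a.left.hom (c.ι.app i).left.hom)
    (h₁' : ∀ (U U' : Over B) (u : U ⟶ c.pt) (u' : U' ⟶ c.pt), AlgSp.IsEtaleMor u.left.hom → AlgSp.IsEtaleMor u'.left.hom →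
      ∀ (DU DU' : I ⥤ Over B) (αU : DU ⟶ D) (αU' : DU' ⟶ D) (ιU : DU ⟶ (Functor.const I).obj U)
        (ιU' : DU' ⟶ (Functor.const I).obj U'),
        (∀ i, IsPullback (ιU.app i).left.hom (αU.app i).left.hom u.left.hom (c.ι.app i).left.hom) →
        (∀ i, IsPullback (ιU'.app i).left.hom (αU'.app i).left.hom u'.left.hom (c.ι.app i).left.hom) →
        ∀ (β : DU ⟶ DU'), β ≫ αU' = αU →
          ∃! m : U ⟶ U', m ≫ u' = u ∧ ∀ i, ιU.app i ≫ m = β.app i ≫ ιU'.app i)
    (h₂ : ∀ (B' Zs Us : Over S) (b : (AlgSp.yon S).obj B' ⟶ B.obj) (z : Zs ⟶ B') {XB : AlgSp.Space S}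
      (x₁ : XB ⟶ c.pt.left) (x₂ : XB.obj ⟶ (AlgSp.yon S).obj B') (uu : (AlgSp.yon S).obj Us ⟶ XB.obj)
      (DU : I ⥤ AlgSp.Space S) (αU : DU ⟶ D ⋙ Over.forget B)
      (ιU : DU ⟶ (Functor.const I).obj ((AlgSp.ofScheme S).obj Us))
      (φ : DU ⟶ (Functor.const I).obj ((AlgSp.ofScheme S).obj Zs)),
      IsAffine B'.left → IsAffine Zs.left → IsAffine Us.left → AlgSp.RepWith @Etale b →
      IsPullback x₁.hom x₂ c.pt.hom.hom b → AlgSp.RepWith @Etale uu →
      (∀ i, IsPullback (ιU.app i).hom (αU.app i).hom (uu ≫ x₁.hom) (c.ι.app i).left.hom) →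
      (∀ i, (φ.app i).hom ≫ (AlgSp.yon S).map z = (ιU.app i).hom ≫ uu ≫ x₂) →
        ∃! fz : Us ⟶ Zs, (AlgSp.yon S).map fz ≫ (AlgSp.yon S).map z = uu ≫ x₂ ∧
          ∀ i, (ιU.app i).hom ≫ (AlgSp.yon S).map fz = (φ.app i).hom)

include h₁' h₂ in
/-- Maps from an étale space over the point to any space over the base are determined by the systems. -/
theorem hom_ext_target {Y : Sp S} (hY : IsAlgSpace Y) (πY : Y ⟶ B.obj) {U : Sp S} (hU : IsAlgSpace U)
    {a : U ⟶ c.pt.left.obj} (ha : LocP @Etale a) {f₁ f₂ : U ⟶ Y} (e₁ : f₁ ≫ πY = a ≫ c.pt.hom.hom)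
    (e₂ : f₂ ≫ πY = a ≫ c.pt.hom.hom)
    (h : ∀ (i : I) (T : Sp S) (t : T ⟶ (D.obj i).left.obj) (s : T ⟶ U),
      s ≫ a = t ≫ (c.ι.app i).left.hom → s ≫ f₁ = s ≫ f₂) : f₁ = f₂ := by
  obtain ⟨κ, B', Zs, b, z, p, hB, hZ, hb, hp, hpz, hps⟩ := exists_double_family hY πY
  have hP : ∀ (f : U ⟶ Y) k, IsAlgSpace (pullback (p k) f) ∧ LocP @Etale (pullback.snd (p k) f) := fun f k =>
    ⟨isAlgSpace_pullback hY.diag (IsAlgSpace.yon_obj _) hU _ _,
      locP_of_isPullback (IsPullback.of_hasPullback _ _).flip (IsAlgSpace.yon_obj _) hY hU (locP_of_repWith (hp k))⟩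
  refine hom_ext_family (a := fun k => pullback.snd (p k) f₁) hU (fun k => (hP f₁ k).1)
    (fun k => flat_of_etaleP (hP f₁ k).2) (fun k => lfp_of_etaleP (hP f₁ k).2) (fun x => ?_) fun k => ?_
  · obtain ⟨k, v, hv⟩ := hps (Points.map f₁ x)
    obtain ⟨r, -, hr⟩ := points_exists_of_isPullback (IsPullback.of_hasPullback (p k) f₁) v x hv
    exact ⟨k, r, hr⟩
  haveI := hB k
  haveI := hZ k
  have ha₁ : LocP @Etale (pullback.snd (p k) f₁ ≫ a) := locP_comp hU (hP f₁ k).2 ha
  have ha₂ : LocP @Etale (pullback.snd (p k) f₂ ≫ a) := locP_comp hU (hP f₂ k).2 ha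
  let β : ∀ i, pullback (pullback.snd (p k) f₁ ≫ a) (c.ι.app i).left.hom ⟶ pullback (p k) f₂ := fun i =>
    pullback.lift (pullback.fst _ _ ≫ pullback.fst _ _) (pullback.fst _ _ ≫ pullback.snd _ _) (by
      rw [Category.assoc, pullback.condition, ← Category.assoc]
      exact (h i _ (pullback.snd _ _) _ (by rw [Category.assoc]; exact pullback.condition)).trans rfl)
  obtain ⟨m, hm, hmi⟩ := exists_hom_etale c h₁' (hP f₁ k).1 (hP f₂ k).1 ha₁ ha₂ β
    (fun i => by simp only [β, pullback.lift_snd_assoc, Category.assoc]; exact pullback.condition)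
    (fun {i j} g => by
      change pullback.lift _ _ _ ≫ β j = β i
      apply pullback.hom_ext <;> simp [β])
  have hmT : ∀ (i : I) (T : Sp S) (t : T ⟶ (D.obj i).left.obj) (s : T ⟶ pullback (p k) f₁)
      (w : s ≫ pullback.snd (p k) f₁ ≫ a = t ≫ (c.ι.app i).left.hom),
      s ≫ m = pullback.lift s t w ≫ β i := fun i T t s w => by
    rw [← hmi i, pullback.lift_fst_assoc]
  have hmU : m ≫ pullback.snd (p k) f₂ = pullback.snd (p k) f₁ := by
    refine hom_ext_etale c h₁' (hP f₁ k).1 hU ha₁ ha (by rw [Category.assoc, hm]) rfl fun i T t s w => ?_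
    rw [← Category.assoc, hmT i T t s w]
    simp [β]
  have hρ : ∀ (f : U ⟶ Y), f ≫ πY = a ≫ c.pt.hom.hom →
      (pullback.fst (p k) f ≫ (yon S).map (z k)) ≫ b k = (pullback.snd (p k) f ≫ a) ≫ c.pt.hom.hom := fun f e => by
    rw [Category.assoc, ← hpz, pullback.condition_assoc, e, Category.assoc]
  have hXB : IsAlgSpace (pullback c.pt.hom.hom (b k)) :=
    isAlgSpace_pullback B.property.diag c.pt.left.property (IsAlgSpace.yon_obj _) _ _
  have hx : LocP @Etale (pullback.fst c.pt.hom.hom (b k)) :=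
    locP_of_isPullback (IsPullback.of_hasPullback c.pt.hom.hom (b k)) (IsAlgSpace.yon_obj _) B.property
      c.pt.left.property (locP_of_repWith (hb k))
  have hrho : pullback.fst (p k) f₁ ≫ (yon S).map (z k) =
      (m ≫ pullback.fst (p k) f₂) ≫ (yon S).map (z k) := by
    have := hom_ext_etale c h₁' (hP f₁ k).1 hXB ha₁ hx
      (m₁ := pullback.lift _ _ (hρ f₁ e₁).symm)
      (m₂ := pullback.lift (pullback.snd (p k) f₁ ≫ a) ((m ≫ pullback.fst (p k) f₂) ≫ (yon S).map (z k))
        (by
          rw [Category.assoc _ _ (b k), Category.assoc m, ← Category.assoc (pullback.fst (p k) f₂), hρ f₂ e₂,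
            ← Category.assoc m, hm]))
      (pullback.lift_fst _ _ _) (pullback.lift_fst _ _ _) fun i T t s w => by
        apply pullback.hom_ext
        · simp only [Category.assoc, pullback.lift_fst]
        · simp only [Category.assoc, pullback.lift_snd]
          rw [reassoc_of% (hmT i T t s w)]
          simp [β]
    simpa only [pullback.lift_snd] using congrArg (· ≫ pullback.snd _ _) this
  have hg : pullback.fst (p k) f₁ = m ≫ pullback.fst (p k) f₂ :=
    hom_ext_affineTarget c h₂ (hb k) (z k) (hP f₁ k).1 ha₁ (hρ f₁ e₁) rfl hrho.symm fun i T t s w => by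
      rw [← Category.assoc, hmT i T t s w]
      simp [β]
  rw [← pullback.condition, hg, Category.assoc, pullback.condition, reassoc_of% hmU]

include h₁ h₁' h₂ in
/-- A compatible system of maps descends to the point. -/
theorem existsUnique_descTarget {Y : Sp S} (hY : IsAlgSpace Y) (πY : Y ⟶ B.obj)
    (y : ∀ i, (D.obj i).left.obj ⟶ Y) (hy : ∀ {i j} (g : i ⟶ j), (D.map g).left.hom ≫ y j = y i)
    (hπ : ∀ i, y i ≫ πY = (D.obj i).hom.hom) :
    ∃! f : c.pt.left.obj ⟶ Y, f ≫ πY = c.pt.hom.hom ∧ ∀ i, (c.ι.app i).left.hom ≫ f = y i := by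
  obtain ⟨κ, B', Zs, b, z, p, hB, hZ, hb, hp, hpz, hps⟩ := exists_double_family hY πY
  have hid : LocP @Etale (𝟙 c.pt.left.obj) := fun U V s t h hs ht e => by
    rw [Category.comp_id] at e
    exact EtOver.etale_left (EtOver.homMk h e.symm : EtOver.mk s hs ⟶ EtOver.mk t ht)
  -- local lifts
  have hloc : ∀ k, ∃ (U : Sp S) (a : U ⟶ c.pt.left.obj) (β : U ⟶ Y), IsAlgSpace U ∧ LocP @Etale a ∧
      β ≫ πY = a ≫ c.pt.hom.hom ∧
      (∀ (i : I) (T : Sp S) (t : T ⟶ (D.obj i).left.obj) (s : T ⟶ U),
        s ≫ a = t ≫ (c.ι.app i).left.hom → s ≫ β = t ≫ y i) ∧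
      (∀ (i : I) (T : Sp S) (t : T ⟶ (D.obj i).left.obj) (q : T ⟶ (yon S).obj (Zs k)), q ≫ p k = t ≫ y i →
        ∃ s : T ⟶ U, s ≫ a = t ≫ (c.ι.app i).left.hom) := fun k => by
    haveI := hB k
    haveI := hZ k
    have hW : ∀ i, IsAlgSpace (pullback (p k) (y i)) := fun i =>
      isAlgSpace_pullback hY.diag (IsAlgSpace.yon_obj _) (D.obj i).left.property _ _
    let φ : ∀ {i j : I} (g : i ⟶ j), pullback (p k) (y i) ⟶ pullback (p k) (y j) := fun {i j} g =>
      pullback.lift (pullback.fst _ _) (pullback.snd _ _ ≫ (D.map g).left.hom)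
        (by rw [Category.assoc, hy g]; exact pullback.condition)
    let D' : I ⥤ Over B :=
      { obj := fun i => ov _ (hW i) (pullback.snd (p k) (y i) ≫ (D.obj i).hom.hom)
        map := fun {i j} g => ovHom (φ g) (by
          change φ g ≫ pullback.snd _ _ ≫ _ = pullback.snd _ _ ≫ _
          rw [← Category.assoc, pullback.lift_snd, Category.assoc]
          exact congrArg _ (ov_w (D.map g)))
        map_id := fun i => ov_ext (pullback.hom_ext
          ((pullback.lift_fst _ _ _).trans (Category.id_comp _).symm)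
          (((pullback.lift_snd _ _ _).trans (by rw [D.map_id]; exact Category.comp_id _)).trans (Category.id_comp _).symm))
        map_comp := fun {i j l} m n => ov_ext (pullback.hom_ext
          (by change φ (m ≫ n) ≫ _ = (φ m ≫ φ n) ≫ _; simp [φ])
          (by
            change φ (m ≫ n) ≫ _ = (φ m ≫ φ n) ≫ _
            simp only [φ, Category.assoc, pullback.lift_snd, pullback.lift_snd_assoc, D.map_comp]
            rfl)) }
    let α : D' ⟶ D :=
      { app := fun i => ovHom (pullback.snd _ _) rfl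
        naturality := fun i j g => ov_ext (pullback.lift_snd _ _ _) }
    have hsq : ∀ ⦃i j : I⦄ (g : i ⟶ j), IsPullback (D'.map g).left.hom (α.app i).left.hom
        (α.app j).left.hom (D.map g).left.hom := fun i j g => by
      refine IsPullback.of_right ?_ (pullback.lift_snd _ _ _) (IsPullback.of_hasPullback (p k) (y j))
      change IsPullback (φ g ≫ pullback.fst (p k) (y j)) _ _ _
      rw [pullback.lift_fst, hy g]
      exact IsPullback.of_hasPullback (p k) (y i)
    obtain ⟨c', aa, haa, hpb⟩ := h₁ D' α hsq fun i => (isEtaleMor_iff_locP (D.obj i).left.property).2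
      (locP_of_isPullback (IsPullback.of_hasPullback (p k) (y i)).flip (IsAlgSpace.yon_obj _) hY
        (D.obj i).left.property (locP_of_repWith (hp k)))
    have ha : LocP @Etale aa.left.hom := (isEtaleMor_iff_locP c.pt.left.property).1 haa
    have hU := c'.pt.left.property
    let γ : ∀ i, pullback aa.left.hom (c.ι.app i).left.hom ⟶ pullback (p k) (y i) := fun i =>
      (hpb i).isoPullback.inv
    have hγ₁ : ∀ i, γ i ≫ (c'.ι.app i).left.hom = pullback.fst _ _ := fun i => (hpb i).isoPullback_inv_fst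
    have hγ₂ : ∀ i, γ i ≫ pullback.snd (p k) (y i) = pullback.snd _ _ := fun i => (hpb i).isoPullback_inv_snd
    have hγn : ∀ {i j : I} (g : i ⟶ j), ((sys c hU aa.left.hom).map g).left.hom ≫ γ j = γ i ≫ φ g := fun {i j} g => by
      apply (hpb j).hom_ext
      · rw [Category.assoc, hγ₁, Category.assoc,
          show φ g ≫ (c'.ι.app j).left.hom = (c'.ι.app i).left.hom from ov_cw c' g, hγ₁]
        exact pullback.lift_fst _ _ _
      · change (pullback.lift _ _ _ ≫ γ j) ≫ pullback.snd _ _ = (γ i ≫ φ g) ≫ pullback.snd _ _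
        simp only [Category.assoc, hγ₂, pullback.lift_snd, φ, reassoc_of% (hγ₂ i)]
    have hXB : IsAlgSpace (pullback c.pt.hom.hom (b k)) :=
      isAlgSpace_pullback B.property.diag c.pt.left.property (IsAlgSpace.yon_obj _) _ _
    have hx : LocP @Etale (pullback.fst c.pt.hom.hom (b k)) :=
      locP_of_isPullback (IsPullback.of_hasPullback c.pt.hom.hom (b k)) (IsAlgSpace.yon_obj _) B.property
        c.pt.left.property (locP_of_repWith (hb k))
    have hwB : ∀ i, (pullback.snd aa.left.hom (c.ι.app i).left.hom ≫ (c.ι.app i).left.hom) ≫ c.pt.hom.hom =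
        (γ i ≫ pullback.fst (p k) (y i) ≫ (yon S).map (z k)) ≫ b k := fun i => by
      rw [Category.assoc, Category.assoc, Category.assoc, ← hpz, pullback.condition_assoc, hπ,
        reassoc_of% (hγ₂ i)]
      exact congrArg _ (ov_w (c.ι.app i))
    obtain ⟨L, hL₁, hL₂⟩ := exists_hom_etale c h₁' hU hXB ha hx
      (fun i => pullback.lift _ _ (hwB i)) (fun i => pullback.lift_fst _ _ _)
      (fun {i j} g => by
        apply pullback.hom_ext
        · rw [Category.assoc, pullback.lift_fst, pullback.lift_fst, ← Category.assoc]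
          change (pullback.lift _ _ _ ≫ pullback.snd _ _) ≫ _ = _
          rw [pullback.lift_snd, Category.assoc, ov_cw c g]
        · rw [Category.assoc, pullback.lift_snd, pullback.lift_snd, ← Category.assoc, hγn g, Category.assoc]
          simp [φ])
    obtain ⟨g, hg₁, hg₂⟩ := exists_affineTarget c h₂ (hb k) (z k) hU ha
      (ρ := L ≫ pullback.snd _ _) (by rw [Category.assoc, ← pullback.condition, reassoc_of% hL₁])
      (fun i => γ i ≫ pullback.fst (p k) (y i))
      (fun i => by rw [Category.assoc, reassoc_of% (hL₂ i), pullback.lift_snd])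
      (fun {i j} g => by rw [← Category.assoc, hγn g, Category.assoc]; simp [φ])
    refine ⟨_, aa.left.hom, g ≫ p k, hU, ha, ?_, fun i T t s w => ?_, fun i T t q hq => ?_⟩
    · rw [Category.assoc, hpz, reassoc_of% hg₁, ← pullback.condition, reassoc_of% hL₁]
    · rw [← Category.assoc, hg₂ i T t s w, Category.assoc, Category.assoc, pullback.condition,
        reassoc_of% (hγ₂ i), pullback.lift_snd_assoc]
    · refine ⟨pullback.lift q t hq ≫ (c'.ι.app i).left.hom, ?_⟩
      rw [Category.assoc, (hpb i).w]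
      exact pullback.lift_snd_assoc _ _ _ _
  choose U a β hUa hae hπβ hcompat hlift using hloc
  -- the charts cover the point
  have hs : ∀ x : Points c.pt.left.obj, ∃ k, x ∈ Set.range (Points.map (a k)) := by
    let W : Set (Points c.pt.left.obj) := ⋃ k, Set.range (Points.map (a k))
    have hWo : IsOpen W := isOpen_iUnion fun k =>
      (isOpenMap_map_of_fppf c.pt.left.property (hUa k) (a k) (flat_of_etaleP (hae k))
        (lfp_of_etaleP (hae k))).isOpen_range
    have hWa := isAlgSpace_subSp c.pt.left.property hWo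
    have hjm : Mono (subι c.pt.left.obj W) := mono_of_repWith (P := @IsOpenImmersion)
      (fun g hg => haveI : IsOpenImmersion g := hg; inferInstance) (repWith_subι _ W hWo)
    have hje : LocP @Etale (subι c.pt.left.obj W) :=
      locP_of_repWith (repWith_mono (fun _ _ g (hg : IsOpenImmersion g) => inferInstanceAs (Etale g))
        (repWith_subι _ W hWo))
    have hfac : ∀ i, ∃ l : (D.obj i).left.obj ⟶ subSp c.pt.left.obj W,
        l ≫ subι c.pt.left.obj W = (c.ι.app i).left.hom := fun i => by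
      refine exists_fac_subι _ ?_
      rintro _ ⟨x, rfl⟩
      obtain ⟨k, v, hv⟩ := hps (Points.map (y i) x)
      obtain ⟨r, -, hr⟩ := points_exists_of_isPullback (IsPullback.of_hasPullback (p k) (y i)) v x hv
      obtain ⟨s, hs⟩ := hlift k i _ (pullback.snd _ (y i)) (pullback.fst _ _) pullback.condition
      exact Set.mem_iUnion.2 ⟨k, Points.map s r, by rw [← Points.map_comp, hs, Points.map_comp, hr]⟩
    choose l hl using hfac
    obtain ⟨m, hm, -⟩ := exists_hom_etale c h₁' c.pt.left.property hWa hid hje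
      (fun i => pullback.snd _ _ ≫ l i) (fun i => by rw [Category.assoc, hl])
      (fun {i j} g => by
        rw [← cancel_mono (subι c.pt.left.obj W), Category.assoc, Category.assoc, Category.assoc, hl, hl,
          ← Category.assoc]
        change (pullback.lift _ _ _ ≫ pullback.snd _ _) ≫ _ = _
        rw [pullback.lift_snd, Category.assoc, ov_cw c g])
    intro x
    have hx : x ∈ W := by
      rw [← range_map_subι c.pt.left.obj W]
      exact ⟨Points.map m x, by rw [← Points.map_comp, hm, Points.map_id]⟩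
    exact Set.mem_iUnion.1 hx
  obtain ⟨f, hf, -⟩ := existsUnique_hom_of_family c.pt.left.property hUa (fun k => flat_of_etaleP (hae k))
    (fun k => lfp_of_etaleP (hae k)) hs β fun k l Q qk ql hQ => by
      have hQa : IsAlgSpace Q := isAlgSpace_of_isPullback c.pt.left.property.diag (hUa k) (hUa l) hQ
      refine hom_ext_target c h₁' h₂ hY πY hQa (a := qk ≫ a k)
        (locP_comp (hUa k) (locP_of_isPullback hQ (hUa l) c.pt.left.property (hUa k) (hae l)) (hae k))
        (by simp only [Category.assoc, hπβ]) (by simp only [Category.assoc, hπβ]; rw [← reassoc_of% hQ.w])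
        fun i T t s w => ?_
      rw [← Category.assoc, ← Category.assoc, hcompat k i T t _ (by rw [Category.assoc]; exact w),
        hcompat l i T t _ (by rw [Category.assoc, ← hQ.w]; exact w)]
  have hfπ : f ≫ πY = c.pt.hom.hom :=
    hom_ext_family c.pt.left.property hUa (fun k => flat_of_etaleP (hae k)) (fun k => lfp_of_etaleP (hae k)) hs
      fun k => by rw [reassoc_of% (hf k), hπβ]
  have hfi : ∀ i, (c.ι.app i).left.hom ≫ f = y i := fun i => by
    have hX := (D.obj i).left.property
    have het : ∀ k, LocP @Etale (pullback.snd (p k) (y i)) := fun k =>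
      locP_of_isPullback (IsPullback.of_hasPullback _ _).flip (IsAlgSpace.yon_obj _) hY hX (locP_of_repWith (hp k))
    refine hom_ext_family (a := fun k => pullback.snd (p k) (y i)) hX
      (fun k => isAlgSpace_pullback hY.diag (IsAlgSpace.yon_obj _) hX _ _)
      (fun k => flat_of_etaleP (het k)) (fun k => lfp_of_etaleP (het k)) (fun x => ?_) fun k => ?_
    · obtain ⟨k, v, hv⟩ := hps (Points.map (y i) x)
      obtain ⟨r, -, hr⟩ := points_exists_of_isPullback (IsPullback.of_hasPullback (p k) (y i)) v x hv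
      exact ⟨k, r, hr⟩
    · obtain ⟨s, hs'⟩ := hlift k i _ (pullback.snd _ (y i)) (pullback.fst _ _) pullback.condition
      rw [← Category.assoc, ← hs', Category.assoc, hf]
      exact hcompat k i _ _ _ hs'
  refine ⟨f, ⟨hfπ, hfi⟩, fun f' ⟨h₀, hi⟩ => ?_⟩
  refine hom_ext_target c h₁' h₂ hY πY c.pt.left.property hid (by rw [h₀, Category.id_comp])
    (by rw [hfπ, Category.id_comp]) fun i T t s w => ?_
  rw [Category.comp_id] at w
  rw [w, Category.assoc, Category.assoc, hi, hfi]

end Groth.Agent.ASpColim
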