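import Groth.Agent.ASp.Sheaf
import Groth.Agent.ASp.Affine
import Groth.Agent.ASp.FppfGlue
import Groth.Agent.ASp.GsectReduced
/-!
Maps from an algebraic space to an affine scheme are ring maps into global functions.
-/

set_option autoImplicit false
set_option backward.isDefEq.respectTransparency false
set_option backward.isDefEq.respectTransparency.types false

universe u

open CategoryTheory CategoryTheory.Limits AlgebraicGeometry

namespace Groth.Agent.ASpColim

open _root_.AlgSp Groth.Agent.ASp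

variable {S : Scheme.{u}}

theorem exists_hom_of_appTop {W T : Scheme.{u}} [IsAffine T] (φ : Γ(T, ⊤) ⟶ Γ(W, ⊤)) :
    ∃ f : W ⟶ T, f.appTop = φ := by
  refine ⟨W.toSpecΓ ≫ Spec.map φ ≫ T.isoSpec.inv, ?_⟩
  have h : (W.toSpecΓ ≫ Spec.map φ ≫ T.isoSpec.inv) ≫ T.toSpecΓ = W.toSpecΓ ≫ Spec.map φ := by
    simp [Scheme.isoSpec, Category.assoc]
  have key : ∀ ψ : Γ(T, ⊤) ⟶ Γ(W, ⊤),
      (W.toSpecΓ ≫ Spec.map ψ).appTop = (Scheme.ΓSpecIso Γ(T, ⊤)).hom ≫ ψ := fun ψ => by
    rw [Scheme.Hom.comp_appTop, Scheme.toSpecΓ_appTop, Scheme.ΓSpecIso_naturality]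
  set f := W.toSpecΓ ≫ Spec.map φ ≫ T.isoSpec.inv
  rw [Scheme.toSpecΓ_naturality] at h
  have h2 := congrArg Scheme.Hom.appTop h
  rw [key, key] at h2
  exact (cancel_epi (Scheme.ΓSpecIso Γ(T, ⊤)).hom).1 h2

theorem existsUnique_hom_to_affine (hS : IsTerminal S) {X : Sp S} (hX : IsAlgSpace X)
    (T : Over S) [IsAffine T.left] (φ : Γ(T.left, ⊤) →+* ↥(gsectEt (OEt X))) :
    ∃! f : X ⟶ (yon S).obj T, ∀ (E : EtOver X) (r : Γ(T.left, ⊤)),
      gsectAt E (φ r) = ((yon S).preimage (E.obj.hom ≫ f)).left.appTop r := by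
  have hmk : ∀ E : EtOver X, ∃ u : E.obj.left ⟶ T, ∀ r, u.left.appTop r = gsectAt E (φ r) := fun E => by
    obtain ⟨g, hg⟩ := exists_hom_of_appTop (W := E.obj.left.left) (T := T.left)
      (CommRingCat.ofHom ((gsectAt E).comp φ))
    exact ⟨Over.homMk g (hS.hom_ext _ _), fun r => by
      change g.appTop r = _
      rw [hg]
      rfl⟩
  choose u hu using hmk
  have hcomp : ∀ {E E' : EtOver X} (g : E ⟶ E'), g.hom.left ≫ u E' = u E := fun {E E'} g => by
    apply Over.OverMorphism.ext
    apply AlgebraicGeometry.ext_of_isAffine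
    ext r
    rw [Over.comp_left, Scheme.Hom.comp_appTop, CommRingCat.comp_apply, hu, hu]
    exact (gsectAt_map g (φ r)).symm
  obtain ⟨U, p, hpe, hps⟩ := hX.atlas
  have hl : Sheaf.IsLocallySurjective p := isLocallySurjective_of_repWith
    (repWith_mono (fun _ _ g (hg : Etale g) => inferInstanceAs (Flat g)) hpe)
    (repWith_mono (fun _ _ g (hg : Etale g) => inferInstanceAs (LocallyOfFinitePresentation g)) hpe) hps
  haveI : Epi p := inferInstance
  let E₀ : EtOver X := EtOver.mk p hpe
  have hker : (yon S).map (EtOver.prodSnd E₀ E₀).hom.left ≫ (yon S).map (u E₀) =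
      (yon S).map (EtOver.prodFst E₀ E₀).hom.left ≫ (yon S).map (u E₀) := by
    rw [← Functor.map_comp, ← Functor.map_comp, hcomp, hcomp]
  have hR : IsPullback ((yon S).map (EtOver.prodSnd E₀ E₀).hom.left)
      ((yon S).map (EtOver.prodFst E₀ E₀).hom.left) p p := hpe.1.isPullback' p
  obtain ⟨f, hf⟩ := exists_desc_of_epi p hR ((yon S).map (u E₀)) hker
  have hE : ∀ E : EtOver X, E.obj.hom ≫ f = (yon S).map (u E) := fun E => by
    let P : EtOver X := EtOver.prodObj E E₀
    have sq : IsPullback (E₀.property.1.fst E.obj.hom) ((yon S).map (E₀.property.1.snd E.obj.hom))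
      p E.obj.hom := E₀.property.1.isPullback E.obj.hom
    have he : Etale (EtOver.prodFst E E₀).hom.left.left := hpe.2 _ _ _ sq
    have hs : Surjective (EtOver.prodFst E E₀).hom.left.left := hps.2 _ _ _ sq
    refine hom_ext_fppf (ι := PUnit.{u + 1}) (U := fun _ => P.obj.left)
      (c := fun _ => (EtOver.prodFst E E₀).hom.left)
      (fun _ => inferInstance) (fun _ => inferInstance) (fun t => ⟨PUnit.unit, hs.surj t⟩) fun _ => ?_
    rw [← Category.assoc, EtOver.w, ← EtOver.w (EtOver.prodSnd E E₀), Category.assoc, ← Functor.map_comp,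
      hcomp, ← hcomp (EtOver.prodSnd E E₀), Functor.map_comp]
    exact congrArg _ hf
  refine ⟨f, fun E r => ?_, fun f' hf' => ?_⟩
  · rw [hE]
    have e : (yon S).preimage ((yon S).map (u E)) = u E := (yon S).preimage_map _
    rw [e, hu]
  · refine (cancel_epi p).1 ?_
    obtain ⟨v, hv⟩ := (yon S).map_surjective (p ≫ f')
    have e : (yon S).preimage (E₀.obj.hom ≫ f') = v := by
      apply (yon S).map_injective
      rw [Functor.map_preimage]
      exact hv.symm
    rw [← hv, hf]
    congr 1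
    apply Over.OverMorphism.ext
    apply AlgebraicGeometry.ext_of_isAffine
    ext r
    have h1 := hf' E₀ r
    rw [e] at h1
    exact h1.symm.trans (hu E₀ r).symm

end Groth.Agent.ASpColim
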