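import Groth.Agent.ASp.Univ
import Groth.Agent.ASp.FppfGlue
import Groth.Agent.ASp.YonExt
/-!
Morphisms out of an algebraic space glue along jointly surjective fppf families of algebraic spaces.
-/

set_option autoImplicit false
set_option backward.isDefEq.respectTransparency false
set_option backward.isDefEq.respectTransparency.types false

universe u

open CategoryTheory CategoryTheory.Limits AlgebraicGeometry Opposite

namespace Groth.Agent.ASpColim

open _root_.AlgSp Groth.Agent.ASp

variable {S : Scheme.{u}} {κ : Type u} {X : Sp S} {U : κ → Sp S} {a : ∀ k, U k ⟶ X}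

/-- An fppf family over an algebraic space pulls back to fppf families of schemes over schemes. -/
theorem exists_scheme_refinement (hX : IsAlgSpace X) (hU : ∀ k, IsAlgSpace (U k))
    (hfl : ∀ k, LocP @Flat (a k)) (hfp : ∀ k, LocP @LocallyOfFinitePresentation (a k))
    (hs : ∀ x : Points X, ∃ k, x ∈ Set.range (Points.map (a k))) {T : Over S}
    (x : (yon S).obj T ⟶ X) :
    ∃ (W : κ → Over S) (c : ∀ k, W k ⟶ T) (l : ∀ k, (yon S).obj (W k) ⟶ U k),
      (∀ k, Flat (c k).left) ∧ (∀ k, LocallyOfFinitePresentation (c k).left) ∧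
      (∀ t : ↥T.left, ∃ k, t ∈ Set.range (c k).left) ∧
      ∀ k, l k ≫ a k = (yon S).map (c k) ≫ x := by
  have sq : ∀ k, IsPullback (pullback.fst (a k) x) (pullback.snd (a k) x) (a k) x :=
    fun k => IsPullback.of_hasPullback _ _
  have hP : ∀ k, IsAlgSpace (pullback (a k) x) :=
    fun k => isAlgSpace_pullback hX.diag (hU k) (IsAlgSpace.yon_obj T) _ _
  choose A p hpe hps using fun k => (hP k).atlas
  choose c hc using fun k => (yon S).map_surjective (p k ≫ pullback.snd (a k) x)
  refine ⟨A, c, fun k => p k ≫ pullback.fst (a k) x, fun k => ?_, fun k => ?_, fun t => ?_, fun k => ?_⟩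
  · exact locP_of_isPullback (sq k).flip (hU k) hX (IsAlgSpace.yon_obj T) (hfl k) (p k) (𝟙 _) (c k) (hpe k)
      (repWith_id _ T) (by rw [hc, Category.comp_id])
  · exact locP_of_isPullback (sq k).flip (hU k) hX (IsAlgSpace.yon_obj T) (hfp k) (p k) (𝟙 _) (c k) (hpe k)
      (repWith_id _ T) (by rw [hc, Category.comp_id])
  · obtain ⟨k, y, hy⟩ := hs (Points.ofPt x t)
    obtain ⟨z, -, hz⟩ := points_exists_of_isPullback (sq k) y (Points.ofPt (𝟙 _) t)
      (by rw [hy, Points.map_ofPt, Category.id_comp])
    obtain ⟨v, rfl⟩ := surjective_ofPt (hps k) z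
    refine ⟨k, v, (Points.schemeHomeo T).injective ?_⟩
    rw [Points.map_ofPt, ← hc, ← Category.comp_id ((yon S).map (c k)), ofPt_yon_map_comp] at hz
    exact hz
  · rw [Category.assoc, (sq k).w, hc, Category.assoc]

variable (hX : IsAlgSpace X) (hU : ∀ k, IsAlgSpace (U k))
    (hfl : ∀ k, LocP @Flat (a k)) (hfp : ∀ k, LocP @LocallyOfFinitePresentation (a k))
    (hs : ∀ x : Points X, ∃ k, x ∈ Set.range (Points.map (a k)))

include hX hU hfl hfp hs

theorem hom_ext_family {Y : Sp S} {f g : X ⟶ Y} (h : ∀ k, a k ≫ f = a k ≫ g) : f = g :=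
  hom_ext_of_yon fun T b => by
    obtain ⟨W, c, l, h1, h2, h3, h4⟩ := exists_scheme_refinement hX hU hfl hfp hs b
    refine hom_ext_fppf h1 h2 h3 fun k => ?_
    rw [← Category.assoc, ← Category.assoc, ← h4, Category.assoc, Category.assoc, h]

theorem existsUnique_hom_of_family {Y : Sp S} (β : ∀ k, U k ⟶ Y)
    (hβ : ∀ (k l : κ) (P : Sp S) (pk : P ⟶ U k) (pl : P ⟶ U l), IsPullback pk pl (a k) (a l) →
      pk ≫ β k = pl ≫ β l) :
    ∃! b : X ⟶ Y, ∀ k, a k ≫ b = β k := by
  have hcomp : ∀ (k l : κ) (W : Sp S) (s : W ⟶ U k) (t : W ⟶ U l), s ≫ a k = t ≫ a l →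
      s ≫ β k = t ≫ β l := fun k l W s t e => by
    have h := congrArg (pullback.lift s t e ≫ ·) (hβ k l _ _ _ (IsPullback.of_hasPullback (a k) (a l)))
    simpa only [← Category.assoc, pullback.lift_fst, pullback.lift_snd] using h
  have key : ∀ {T : Over S} (x : (yon S).obj T ⟶ X), ∃! v : (yon S).obj T ⟶ Y,
      ∀ (k : κ) (T' : Over S) (g : T' ⟶ T) (s : (yon S).obj T' ⟶ U k), s ≫ a k = (yon S).map g ≫ x →
        (yon S).map g ≫ v = s ≫ β k := fun {T} x => by
    obtain ⟨W, c, l, h1, h2, h3, h4⟩ := exists_scheme_refinement hX hU hfl hfp hs x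
    obtain ⟨v, hv, -⟩ := existsUnique_glue h1 h2 h3 (fun k => l k ≫ β k) fun i j Z gi gj e => by
      rw [← Category.assoc, ← Category.assoc]
      apply hcomp
      rw [Category.assoc, Category.assoc, h4, h4, ← Category.assoc, ← Category.assoc, ← Functor.map_comp,
        ← Functor.map_comp, e]
    refine ⟨v, fun k T' g s e => ?_, fun v' hv' => hom_ext_fppf h1 h2 h3 fun k => ?_⟩
    · have hc1 : ∀ i, Flat (pullback.fst g (c i)).left := fun i =>
        MorphismProperty.of_isPullback (P := @Flat) (isPullback_left (IsPullback.of_hasPullback g (c i))).flip (h1 i)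
      have hc2 : ∀ i, LocallyOfFinitePresentation (pullback.fst g (c i)).left := fun i =>
        MorphismProperty.of_isPullback (P := @LocallyOfFinitePresentation)
          (isPullback_left (IsPullback.of_hasPullback g (c i))).flip (h2 i)
      refine hom_ext_fppf (c := fun i => pullback.fst g (c i)) hc1 hc2 (fun t => ?_) fun i => ?_
      · obtain ⟨i, w, hw⟩ := h3 (g.left t)
        have sqi := isPullback_left (IsPullback.of_hasPullback g (c i))
        obtain ⟨z, hz, -⟩ := Scheme.Pullback.exists_preimage_pullback (f := g.left) (g := (c i).left) t w hw.symm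
        refine ⟨i, sqi.isoPullback.inv z, ?_⟩
        rw [← Scheme.Hom.comp_apply, sqi.isoPullback_inv_fst]
        exact hz
      · rw [← Category.assoc, ← Functor.map_comp, pullback.condition, Functor.map_comp, Category.assoc, hv,
          ← Category.assoc, ← Category.assoc]
        apply hcomp
        rw [Category.assoc, Category.assoc, h4, e, ← Category.assoc, ← Category.assoc, ← Functor.map_comp,
          ← Functor.map_comp, pullback.condition]
    · rw [hv]
      exact hv' k (W k) (c k) (l k) (h4 k)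
  choose v hv hvu using fun (T : Over S) (x : (yon S).obj T ⟶ X) => key x
  have hnat : ∀ {T T' : Over S} (g : T' ⟶ T) (x : (yon S).obj T ⟶ X),
      v T' ((yon S).map g ≫ x) = (yon S).map g ≫ v T x := fun {T T'} g x =>
    (hvu T' _ _ fun k T'' g' s e => by
      rw [← Category.assoc, ← Functor.map_comp]
      exact hv T x k T'' (g' ≫ g) s (by rw [e, Functor.map_comp, Category.assoc])).symm
  let Φ : X.obj ⟶ Y.obj :=
    { app := fun T => ↾fun z => (J S).uliftYonedaEquiv.{u+1} (v T.unop ((J S).uliftYonedaEquiv.{u+1}.symm z))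
      naturality := fun T T' g => by
        ext z
        change (J S).uliftYonedaEquiv.{u+1} (v T'.unop ((J S).uliftYonedaEquiv.{u+1}.symm (X.obj.map g z))) =
          Y.obj.map g ((J S).uliftYonedaEquiv.{u+1} (v T.unop _))
        refine Eq.trans ?_ (GrothendieckTopology.uliftYonedaEquiv_naturality.{u+1} (J S)
          (v T.unop ((J S).uliftYonedaEquiv.{u+1}.symm z)) g.unop).symm
        congr 1
        rw [← hnat]
        congr 1
        apply (J S).uliftYonedaEquiv.{u+1}.injective
        rw [Equiv.apply_symm_apply]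
        refine Eq.trans ?_ (GrothendieckTopology.uliftYonedaEquiv_naturality.{u+1} (J S)
          ((J S).uliftYonedaEquiv.{u+1}.symm z) g.unop)
        rw [Equiv.apply_symm_apply]
        rfl }
  let b : X ⟶ Y := ⟨Φ⟩
  have hb : ∀ (T : Over S) (x : (yon S).obj T ⟶ X), x ≫ b = v T x := fun T x => by
    apply (J S).uliftYonedaEquiv.{u+1}.injective
    rw [GrothendieckTopology.uliftYonedaEquiv_comp]
    change (J S).uliftYonedaEquiv.{u+1} (v T ((J S).uliftYonedaEquiv.{u+1}.symm _)) = _
    rw [Equiv.symm_apply_apply]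
  have hb' : ∀ k, a k ≫ b = β k := fun k => hom_ext_of_yon fun T s => by
    rw [← Category.assoc, hb]
    have h := hv T (s ≫ a k) k T (𝟙 T) s (by rw [(yon S).map_id, Category.id_comp])
    rw [(yon S).map_id, Category.id_comp] at h
    exact h
  exact ⟨b, hb', fun b' hb'' => hom_ext_family hX hU hfl hfp hs fun k => (hb'' k).trans (hb' k).symm⟩

end Groth.Agent.ASpColim
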