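import Groth.Agent.ASpColim.PushoutThick
import Groth.Agent.FerrandPush.Two
import Groth.Agent.S1465
import Groth.Agent.S7183
import Groth.Agent.ASp.EtLocal
/-!
Pushouts of two closed immersions satisfy the criterion for colimits of schemes among algebraic spaces.
-/

set_option autoImplicit false
set_option backward.isDefEq.respectTransparency false
set_option backward.isDefEq.respectTransparency.types false

universe u

open CategoryTheory CategoryTheory.Limits AlgebraicGeometry

noncomputable section

namespace Groth.Agent.ASpColim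

variable {S : Scheme.{u}} {X X' Y Y' : Over S} {t : X ⟶ X'} {a : X ⟶ Y} {a' : X' ⟶ Y'} {b : Y ⟶ Y'}

/-- A monomorphism has fibres inside affine opens. -/
theorem exists_affine_fibre_of_mono {Z A B : Scheme.{u}} (i : Z ⟶ A) (j : Z ⟶ B) [IsClosedImmersion j] (y : B) :
    ∃ U : A.Opens, IsAffineOpen U ∧ j ⁻¹' {y} ⊆ (i ⁻¹ᵁ U : Set ↑Z) := by
  by_cases hy : ∃ z, j z = y
  · obtain ⟨z, hz⟩ := hy
    obtain ⟨U, hU, hmem, -⟩ := exists_isAffineOpen_mem_and_subset (U := ⊤) (show i z ∈ (⊤ : A.Opens) from trivial)
    refine ⟨U, hU, fun z' hz' => ?_⟩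
    obtain rfl := j.isClosedEmbedding.injective (hz.trans (hz' : j z' = y).symm)
    exact hmem
  · exact ⟨⊥, isAffineOpen_bot A, fun z hz => (hy ⟨z, hz⟩).elim⟩

/-- Equifibered separated étale systems over two closed immersions come from the pushout. -/
theorem exists_etale_model_closed [IsClosedImmersion t.left] [IsClosedImmersion a.left]
    (hpo : IsPushout t a a' b) (D' : WalkingSpan ⥤ Over S) (α : D' ⟶ span t a)
    (hα : NatTrans.Equifibered α) (he : ∀ i, Etale (α.app i).left) (hsep : ∀ i, IsSeparated (α.app i).left) :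
    ∃ (c' : Cocone D') (w : c'.pt ⟶ Y'), Etale w.left ∧
      ∀ i, IsPullback (c'.ι.app i) (α.app i) w ((PushoutCocone.mk a' b hpo.w).ι.app i) := by
  have hP : IsPushout t.left a.left a'.left b.left := hpo.map (Over.forget S)
  have := he WalkingSpan.left
  have := he WalkingSpan.right
  have := he WalkingSpan.zero
  have := hsep WalkingSpan.left
  have := hsep WalkingSpan.right
  have := hsep WalkingSpan.zero
  have hu : IsPullback (D'.map WalkingSpan.Hom.fst).left (α.app WalkingSpan.zero).left
      (α.app WalkingSpan.left).left t.left :=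
    Groth.Agent.ASp.isPullback_left (hα WalkingSpan.Hom.fst)
  have hv : IsPullback (D'.map WalkingSpan.Hom.snd).left (α.app WalkingSpan.zero).left
      (α.app WalkingSpan.right).left a.left :=
    Groth.Agent.ASp.isPullback_left (hα WalkingSpan.Hom.snd)
  have q : ∀ i, LocallyQuasiFinite (α.app i).left := fun i =>
    Groth.Agent.ASp.IsEtLocal.etale_le (P := @LocallyQuasiFinite) _ (he i)
  have := q WalkingSpan.left
  have := q WalkingSpan.right
  have := q WalkingSpan.zero
  obtain ⟨W, W', a₀, b₀, aW, bW, k, hW, hW', ha₀, hb₀, _, _, _, hga, hfb⟩ :=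
    Groth.Agent.S1465.result t.left a.left (fun y => exists_affine_fibre_of_mono _ _ y)
      (D'.map WalkingSpan.Hom.fst).left (D'.map WalkingSpan.Hom.snd).left (α.app WalkingSpan.left).left
      (α.app WalkingSpan.right).left (α.app WalkingSpan.zero).left hu.flip hv.flip
  let e := hW.flip.isoIsPushout _ _ hP
  have e₁ : b₀ ≫ e.hom = a'.left := hW.flip.inl_isoIsPushout_hom _ _ hP
  have e₂ : a₀ ≫ e.hom = b.left := hW.flip.inr_isoIsPushout_hom _ _ hP
  have hk : Etale k := ((Groth.Agent.S7183.result t.left a.left b₀ a₀ hW.flip (α.app WalkingSpan.left).left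
    (α.app WalkingSpan.right).left _ _ (α.app WalkingSpan.zero).left hu hv bW aW hW'.flip k hb₀ ha₀).2.2.2.2).2
    ⟨inferInstance, inferInstance⟩
  have hl : IsPullback bW (α.app WalkingSpan.left).left (k ≫ e.hom) a'.left :=
    hfb.flip.of_iso (Iso.refl _) (Iso.refl _) (Iso.refl _) e (by simp) (by simp) (by simp) (by simpa using e₁)
  have hr : IsPullback aW (α.app WalkingSpan.right).left (k ≫ e.hom) b.left :=
    hga.flip.of_iso (Iso.refl _) (Iso.refl _) (Iso.refl _) e (by simp) (by simp) (by simp) (by simpa using e₂)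
  have hz : IsPullback ((D'.map WalkingSpan.Hom.fst).left ≫ bW) (α.app WalkingSpan.zero).left (k ≫ e.hom)
      (t.left ≫ a'.left) := hu.paste_horiz hl
  let Wo : Over S := Over.mk ((k ≫ e.hom) ≫ Y'.hom)
  let w : Wo ⟶ Y' := Over.homMk (k ≫ e.hom) rfl
  let r : D'.obj WalkingSpan.right ⟶ Wo := Over.homMk aW
    ((Category.assoc _ _ _).symm.trans ((congrArg (· ≫ Y'.hom) hr.w).trans ((Category.assoc _ _ _).trans
      ((congrArg (_ ≫ ·) (Over.w b)).trans (Over.w (α.app WalkingSpan.right))))))
  let l : D'.obj WalkingSpan.left ⟶ Wo := Over.homMk bW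
    ((Category.assoc _ _ _).symm.trans ((congrArg (· ≫ Y'.hom) hl.w).trans ((Category.assoc _ _ _).trans
      ((congrArg (_ ≫ ·) (Over.w a')).trans (Over.w (α.app WalkingSpan.left))))))
  have hlr : D'.map WalkingSpan.Hom.fst ≫ l = D'.map WalkingSpan.Hom.snd ≫ r := Over.OverMorphism.ext hW'.w.symm
  let c' : Cocone D' :=
    { pt := Wo
      ι :=
        { app := fun i => match i with
            | WalkingSpan.zero => D'.map WalkingSpan.Hom.fst ≫ l
            | WalkingSpan.left => l
            | WalkingSpan.right => r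
          naturality := fun i j m => by
            rcases m with _ | _ | _
            · simp
            · simp
            · simpa using hlr.symm } }
  have : Etale w.left := by
    change Etale (k ≫ e.hom)
    infer_instance
  refine ⟨c', w, this, fun i => IsPullback.of_map (Over.forget S) ?_ ?_⟩
  · rcases i with _ | _ | _
    · exact Over.OverMorphism.ext hz.w
    · exact Over.OverMorphism.ext hl.w
    · exact Over.OverMorphism.ext hr.w
  · rcases i with _ | _ | _
    · exact hz
    · exact hl
    · exact hr

/-- The criterion for a pushout of two closed immersions. -/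
theorem existsUnique_pushout_closed (ht : IsClosedImmersion t.left) (ha : IsClosedImmersion a.left)
    (hpo : IsPushout t a a' b) {Z : AlgSp.Sp S} (hZ : AlgSp.IsAlgSpace Z) (y : (AlgSp.yon S).obj X' ⟶ Z)
    (z : (AlgSp.yon S).obj Y ⟶ Z) (e : (AlgSp.yon S).map t ≫ y = (AlgSp.yon S).map a ≫ z) :
    ∃! d : (AlgSp.yon S).obj Y' ⟶ Z, (AlgSp.yon S).map a' ≫ d = y ∧ (AlgSp.yon S).map b ≫ d = z := by
  have hP : IsPushout t.left a.left a'.left b.left := hpo.map (Over.forget S)
  obtain ⟨_, _, -, hs⟩ := FerrandPush.props_two hP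
  exact existsUnique_pushout_desc hpo hs
    (fun D' α hα he hsep => exists_etale_model_closed hpo D' α hα he hsep) hZ y z e

end Groth.Agent.ASpColim
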