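import Groth.Agent.ASpColim.Basic
import Groth.Agent.FerrandPush.BaseChange
import Groth.Agent.S0431
import Groth.Agent.S0075
/-!
Pushouts along thickenings satisfy the criterion for colimits of schemes among algebraic spaces.
-/

set_option autoImplicit false
set_option backward.isDefEq.respectTransparency false
set_option backward.isDefEq.respectTransparency.types false

universe u

open CategoryTheory CategoryTheory.Limits AlgebraicGeometry

noncomputable section

namespace Groth.Agent.ASpColim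

/-- A morphism which becomes affine after restriction along a thickening of the source and target. -/
theorem isAffineHom_of_thickening {X X' Y Y' : Scheme.{u}} (t : X ⟶ X') [IsClosedImmersion t] [Surjective t]
    (a : X ⟶ Y) [IsAffineHom a] (a' : X' ⟶ Y') (b : Y ⟶ Y') [IsAffineHom b]
    (w : t ≫ a' = a ≫ b) : IsAffineHom a' := by
  refine ⟨fun W hW => ?_⟩
  haveI : IsClosedImmersion (t ∣_ a' ⁻¹ᵁ W) := IsZariskiLocalAtTarget.restrict ‹_› _
  have h : IsAffineOpen (t ⁻¹ᵁ (a' ⁻¹ᵁ W)) := by
    rw [← Scheme.Hom.comp_preimage, w, Scheme.Hom.comp_preimage]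
    exact (hW.preimage b).preimage a
  haveI : IsAffine (t ⁻¹ᵁ (a' ⁻¹ᵁ W)).toScheme := h
  exact Thicken.isAffine (t ∣_ a' ⁻¹ᵁ W) fun x => by
    obtain ⟨z, hz⟩ := t.surjective x.1
    exact ⟨⟨z, show t z ∈ a' ⁻¹ᵁ W from hz ▸ x.2⟩,
      Subtype.ext ((morphismRestrict_base_coe t _ ⟨z, _⟩).trans hz)⟩

/-- Properties of a pushout of a thickening along an affine morphism. -/
theorem pushout_thickening_props {X X' Y Y' : Scheme.{u}} {t : X ⟶ X'} [IsClosedImmersion t] [Surjective t]
    {a : X ⟶ Y} [IsAffineHom a] {a' : X' ⟶ Y'} {b : Y ⟶ Y'} (h : IsPushout t a a' b) :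
    IsPullback t a a' b ∧ IsClosedImmersion b ∧ Surjective b ∧ IsAffineHom a' := by
  obtain ⟨P, f', b₀, hP, hpb, hb, hs⟩ := Groth.Agent.S0431.result t t.surjective a
  have e₁ : f' ≫ (hP.isoIsPushout _ _ h).hom = a' := hP.inl_isoIsPushout_hom _ _ h
  have e₂ : b₀ ≫ (hP.isoIsPushout _ _ h).hom = b := hP.inr_isoIsPushout_hom _ _ h
  have : IsClosedImmersion b := e₂ ▸ inferInstance
  have : Surjective b₀ := ⟨hs⟩
  have : Surjective b := e₂ ▸ inferInstance
  exact ⟨hpb.of_iso (Iso.refl _) (Iso.refl _) (Iso.refl _) (hP.isoIsPushout _ _ h) (by simp) (by simp)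
    (by simpa using e₁) (by simpa using e₂), ‹_›, ‹_›, isAffineHom_of_thickening t a a' b h.w⟩

/-- Two étale schemes over a scheme with the same restriction to a universal homeomorphism are
isomorphic, compatibly. -/
theorem exists_iso_of_restrict {X X' U P₁ P₂ : Scheme.{u}} {t : X ⟶ X'} [IsIntegralHom t]
    [UniversallyInjective t] [Surjective t] {p₁ : P₁ ⟶ X'} [Etale p₁] {p₂ : P₂ ⟶ X'} [Etale p₂]
    {ux : U ⟶ X} {g₁ : U ⟶ P₁} {g₂ : U ⟶ P₂} (h₁ : IsPullback g₁ ux p₁ t) (h₂ : IsPullback g₂ ux p₂ t) :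
    ∃ φ : P₁ ≅ P₂, φ.hom ≫ p₂ = p₁ ∧ g₁ ≫ φ.hom = g₂ := by
  have := Groth.Agent.S0075.result t
  let O₁ : X'.Etale := Scheme.Etale.mk p₁
  let O₂ : X'.Etale := Scheme.Etale.mk p₂
  let ψ : (EtCoh.bc t).obj O₁ ≅ (EtCoh.bc t).obj O₂ :=
    MorphismProperty.Over.isoMk (h₁.isoPullback.symm ≪≫ h₂.isoPullback) (by
      change (h₁.isoPullback.symm ≪≫ h₂.isoPullback).hom ≫ pullback.snd p₂ t = pullback.snd p₁ t
      rw [Iso.trans_hom, Iso.symm_hom, Category.assoc, h₂.isoPullback_hom_snd, h₁.isoPullback_inv_snd])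
  let φ : O₁ ≅ O₂ := (EtCoh.bc t).preimageIso ψ
  refine ⟨(Scheme.Etale.forget X' ⋙ Over.forget X').mapIso φ, Over.w φ.hom.hom, ?_⟩
  have e : ((EtCoh.bc t).map φ.hom).left = (h₁.isoPullback.symm ≪≫ h₂.isoPullback).hom := by
    simp only [φ, Functor.preimageIso_hom, Functor.map_preimage]
    rfl
  have e' : ((EtCoh.bc t).map φ.hom).left ≫ pullback.fst p₂ t = pullback.fst p₁ t ≫ φ.hom.left :=
    (EtCoh.isPullback_bc_map t φ.hom).w
  rw [e, Iso.trans_hom, Iso.symm_hom, Category.assoc, h₂.isoPullback_hom_fst] at e'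
  change g₁ ≫ φ.hom.left = g₂
  rw [← h₁.isoPullback_hom_fst, Category.assoc, ← e', Iso.hom_inv_id_assoc]

variable {S : Scheme.{u}} {X X' Y Y' : Over S} {t : X ⟶ X'} {a : X ⟶ Y} {a' : X' ⟶ Y'} {b : Y ⟶ Y'}

/-- Stability under étale base change. -/
theorem isColimit_baseChange [IsClosedImmersion t.left] [IsAffineHom a.left] [IsAffineHom a'.left]
    [IsAffineHom b.left] (hpo : IsPushout t a a' b) (D' : WalkingSpan ⥤ Over S) (α : D' ⟶ span t a) (c' : Cocone D')
    (w : c'.pt ⟶ Y') [Etale w.left]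
    (h : ∀ i, IsPullback (c'.ι.app i) (α.app i) w ((PushoutCocone.mk a' b hpo.w).ι.app i)) :
    Nonempty (IsColimit ((Over.forget S).mapCocone c')) := by
  have hP : IsPushout t.left a.left a'.left b.left := hpo.map (Over.forget S)
  let iT := (D'.map WalkingSpan.Hom.fst).left
  let jT := (D'.map WalkingSpan.Hom.snd).left
  let aT := (c'.ι.app WalkingSpan.left).left
  let bT := (c'.ι.app WalkingSpan.right).left
  have hX : IsPullback (α.app WalkingSpan.left).left aT a'.left w.left :=
    (Groth.Agent.ASp.isPullback_left (h WalkingSpan.left)).flip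
  have hY : IsPullback (α.app WalkingSpan.right).left bT b.left w.left :=
    (Groth.Agent.ASp.isPullback_left (h WalkingSpan.right)).flip
  have e₁ : iT ≫ aT = (c'.ι.app WalkingSpan.zero).left :=
    congrArg CommaMorphism.left (c'.w WalkingSpan.Hom.fst)
  have e₂ : jT ≫ bT = (c'.ι.app WalkingSpan.zero).left :=
    congrArg CommaMorphism.left (c'.w WalkingSpan.Hom.snd)
  have hZ' : IsPullback (iT ≫ aT) (α.app WalkingSpan.zero).left w.left (t.left ≫ a'.left) := by
    rw [e₁]
    exact Groth.Agent.ASp.isPullback_left (h WalkingSpan.zero)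
  have hn : iT ≫ (α.app WalkingSpan.left).left = (α.app WalkingSpan.zero).left ≫ t.left :=
    congrArg CommaMorphism.left (α.naturality WalkingSpan.Hom.fst)
  have hZ : IsPullback (α.app WalkingSpan.zero).left iT t.left (α.app WalkingSpan.left).left :=
    (IsPullback.of_right hZ' hn hX.flip).flip
  have hT : IsPushout iT jT aT bT :=
    Groth.Agent.FerrandPush.isPushout_baseChange hP (𝟙 Y'.left) w.left (.inl inferInstance)
      (sPT := 𝟙 _) (IsPullback.of_vert_isIso ⟨by simp⟩) hX hY hZ
      (congrArg CommaMorphism.left (α.naturality WalkingSpan.Hom.snd)) (e₂.trans e₁.symm)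
  exact ⟨{
    desc := fun s => hT.desc (s.ι.app WalkingSpan.left) (s.ι.app WalkingSpan.right)
      ((s.w WalkingSpan.Hom.fst).trans (s.w WalkingSpan.Hom.snd).symm)
    fac := fun s i => by
      rcases i with _ | _ | _
      · change (c'.ι.app WalkingSpan.zero).left ≫ _ = _
        rw [← e₁, Category.assoc, hT.inl_desc]
        exact s.w WalkingSpan.Hom.fst
      · exact hT.inl_desc _ _ _
      · exact hT.inr_desc _ _ _
    uniq := fun s m hm => hT.hom_ext ((hm WalkingSpan.left).trans (hT.inl_desc _ _ _).symm)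
      ((hm WalkingSpan.right).trans (hT.inr_desc _ _ _).symm) }⟩

/-- Equifibered étale systems over the span come from the pushout. -/
theorem exists_etale_model [IsClosedImmersion t.left] [Surjective t.left] [IsAffineHom a.left]
    (hpo : IsPushout t a a' b) (D' : WalkingSpan ⥤ Over S) (α : D' ⟶ span t a)
    (hα : NatTrans.Equifibered α) (he : ∀ i, Etale (α.app i).left) :
    ∃ (c' : Cocone D') (w : c'.pt ⟶ Y'), Etale w.left ∧
      ∀ i, IsPullback (c'.ι.app i) (α.app i) w ((PushoutCocone.mk a' b hpo.w).ι.app i) := by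
  have hP : IsPushout t.left a.left a'.left b.left := hpo.map (Over.forget S)
  obtain ⟨-, _, _, -⟩ := pushout_thickening_props hP
  have := Groth.Agent.S0075.result b.left
  have := he WalkingSpan.right
  have := he WalkingSpan.left
  let O : Y.left.Etale := Scheme.Etale.mk (α.app WalkingSpan.right).left
  let P := (EtCoh.bc b.left).objPreimage O
  have : Etale P.hom := P.prop
  let e := (Scheme.Etale.forget Y.left).mapIso ((EtCoh.bc b.left).objObjPreimageIso O)
  have hV : IsPullback (e.inv.left ≫ pullback.fst P.hom b.left) (α.app WalkingSpan.right).left P.hom b.left :=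
    (IsPullback.of_hasPullback P.hom b.left).of_iso ((Over.forget _).mapIso e) (Iso.refl _) (Iso.refl _)
      (Iso.refl _) (by simp [← Over.comp_left_assoc]) (by
        simp only [Iso.refl_hom, Category.comp_id]
        exact (Over.w e.hom).symm) (by simp) (by simp)
  generalize hπ : e.inv.left ≫ pullback.fst P.hom b.left = πV at hV
  have hu : IsPullback (D'.map WalkingSpan.Hom.fst).left (α.app WalkingSpan.zero).left
      (α.app WalkingSpan.left).left t.left :=
    Groth.Agent.ASp.isPullback_left (hα WalkingSpan.Hom.fst)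
  have hv : IsPullback (D'.map WalkingSpan.Hom.snd).left (α.app WalkingSpan.zero).left
      (α.app WalkingSpan.right).left a.left :=
    Groth.Agent.ASp.isPullback_left (hα WalkingSpan.Hom.snd)
  have hW := IsPullback.of_hasPullback P.hom a'.left
  have hg : IsPullback ((D'.map WalkingSpan.Hom.snd).left ≫ πV) (α.app WalkingSpan.zero).left P.hom
      (t.left ≫ a'.left) := by
    rw [hP.w]
    exact hv.paste_horiz hV
  let g : (D'.obj WalkingSpan.zero).left ⟶ pullback P.hom a'.left :=
    hW.lift ((D'.map WalkingSpan.Hom.snd).left ≫ πV) ((α.app WalkingSpan.zero).left ≫ t.left)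
      (by rw [Category.assoc]; exact hg.w)
  have hgU : IsPullback g (α.app WalkingSpan.zero).left (pullback.snd P.hom a'.left) t.left :=
    IsPullback.of_right (by rw [hW.lift_fst]; exact hg) (hW.lift_snd _ _ _) hW
  have : Etale (pullback.snd P.hom a'.left) := MorphismProperty.pullback_snd _ _ P.prop
  obtain ⟨φ, hφ₁, hφ₂⟩ := exists_iso_of_restrict hu hgU
  have hU' : IsPullback (φ.hom ≫ pullback.fst P.hom a'.left) (α.app WalkingSpan.left).left P.hom a'.left :=
    hW.of_iso φ.symm (Iso.refl _) (Iso.refl _) (Iso.refl _) (by simp) (by simp [← hφ₁]) (by simp) (by simp)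
  let W : Over S := Over.mk (P.hom ≫ Y'.hom)
  let w : W ⟶ Y' := Over.homMk P.hom rfl
  let r : D'.obj WalkingSpan.right ⟶ W := Over.homMk πV (by
    change πV ≫ P.hom ≫ Y'.hom = _
    rw [reassoc_of% hV.w, Over.w b]
    exact Over.w (α.app WalkingSpan.right))
  let l : D'.obj WalkingSpan.left ⟶ W := Over.homMk (φ.hom ≫ pullback.fst P.hom a'.left) (by
    change (φ.hom ≫ _) ≫ P.hom ≫ Y'.hom = _
    exact (Category.assoc _ _ _).symm.trans ((congrArg (· ≫ Y'.hom) hU'.w).trans ((Category.assoc _ _ _).trans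
      ((congrArg (_ ≫ ·) (Over.w a')).trans (Over.w (α.app WalkingSpan.left))))))
  have hlr : D'.map WalkingSpan.Hom.fst ≫ l = D'.map WalkingSpan.Hom.snd ≫ r := by
    ext
    change (D'.map WalkingSpan.Hom.fst).left ≫ φ.hom ≫ pullback.fst P.hom a'.left =
      (D'.map WalkingSpan.Hom.snd).left ≫ πV
    rw [reassoc_of% hφ₂]
    exact hW.lift_fst _ _ _
  let c' : Cocone D' :=
    { pt := W
      ι :=
        { app := fun i => match i with
            | WalkingSpan.zero => D'.map WalkingSpan.Hom.snd ≫ r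
            | WalkingSpan.left => l
            | WalkingSpan.right => r
          naturality := fun i j m => by
            rcases m with _ | _ | _
            · simp
            · simpa using hlr
            · simp } }
  refine ⟨c', w, P.prop, fun i => IsPullback.of_map (Over.forget S) ?_ ?_⟩
  · rcases i with _ | _ | _
    · ext
      exact hg.w
    · exact Over.OverMorphism.ext hU'.w
    · exact Over.OverMorphism.ext hV.w
  · rcases i with _ | _ | _
    · exact hg
    · exact hU'
    · exact hV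

/-- The criterion for pushouts of schemes to stay pushouts among algebraic spaces. -/
theorem existsUnique_pushout_desc [IsClosedImmersion t.left] [IsAffineHom a.left] [IsAffineHom a'.left]
    [IsAffineHom b.left] (hpo : IsPushout t a a' b)
    (hs : ∀ x : ↥Y'.left, (∃ x', a'.left x' = x) ∨ ∃ y, b.left y = x)
    (h₄ : ∀ (D' : WalkingSpan ⥤ Over S) (α : D' ⟶ span t a), NatTrans.Equifibered α →
      (∀ i, Etale (α.app i).left) → (∀ i, IsSeparated (α.app i).left) →
      ∃ (c' : Cocone D') (w : c'.pt ⟶ Y'), Etale w.left ∧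
        ∀ i, IsPullback (c'.ι.app i) (α.app i) w ((PushoutCocone.mk a' b hpo.w).ι.app i))
    {Z : AlgSp.Sp S} (hZ : AlgSp.IsAlgSpace Z) (y : (AlgSp.yon S).obj X' ⟶ Z)
    (z : (AlgSp.yon S).obj Y ⟶ Z) (e : (AlgSp.yon S).map t ≫ y = (AlgSp.yon S).map a ≫ z) :
    ∃! d : (AlgSp.yon S).obj Y' ⟶ Z, (AlgSp.yon S).map a' ≫ d = y ∧ (AlgSp.yon S).map b ≫ d = z := by
  let yy : ∀ i : WalkingSpan, (AlgSp.yon S).obj ((span t a).obj i) ⟶ Z
    | WalkingSpan.zero => (AlgSp.yon S).map a ≫ z
    | WalkingSpan.left => y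
    | WalkingSpan.right => z
  obtain ⟨d, hd, hu⟩ := existsUnique_desc (c := PushoutCocone.mk a' b hpo.w)
    (isColimitOfPreserves (Over.forget S) hpo.isColimit)
    (fun x => by
      rcases hs x with ⟨x', hx⟩ | ⟨y₀, hy₀⟩
      · exact ⟨WalkingSpan.left, x', hx⟩
      · exact ⟨WalkingSpan.right, y₀, hy₀⟩)
    (fun D' α c' w hw h => haveI := hw; isColimit_baseChange hpo D' α c' w h) h₄ hZ yy
    (fun {i j} m => by
      rcases m with _ | _ | _
      · change (AlgSp.yon S).map ((span t a).map (𝟙 i)) ≫ yy i = yy i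
        simp
      · exact e
      · rfl)
  refine ⟨d, ⟨hd WalkingSpan.left, hd WalkingSpan.right⟩, fun d' hd' => hu d' fun i => ?_⟩
  rcases i with _ | _ | _
  · change (AlgSp.yon S).map (t ≫ a') ≫ d' = (AlgSp.yon S).map a ≫ z
    rw [Functor.map_comp, Category.assoc, hd'.1, e]
  · exact hd'.1
  · exact hd'.2

/-- The criterion for a pushout along a thickening. -/
theorem nonempty_isColimit_pushout (ht : IsClosedImmersion t.left ∧ Surjective t.left) [IsAffineHom a.left]
    (hpo : IsPushout t a a' b) {Z : AlgSp.Sp S} (hZ : AlgSp.IsAlgSpace Z) (y : (AlgSp.yon S).obj X' ⟶ Z)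
    (z : (AlgSp.yon S).obj Y ⟶ Z) (e : (AlgSp.yon S).map t ≫ y = (AlgSp.yon S).map a ≫ z) :
    ∃! d : (AlgSp.yon S).obj Y' ⟶ Z, (AlgSp.yon S).map a' ≫ d = y ∧ (AlgSp.yon S).map b ≫ d = z := by
  obtain ⟨_, _⟩ := ht
  have hP : IsPushout t.left a.left a'.left b.left := hpo.map (Over.forget S)
  obtain ⟨-, _, hsb, _⟩ := pushout_thickening_props hP
  exact existsUnique_pushout_desc hpo (fun x => Or.inr (hsb.surj x))
    (fun D' α hα he _ => exists_etale_model hpo D' α hα he) hZ y z e

end Groth.Agent.ASpColim
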