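import Groth.Agent.ASpColim.PushoutClosed
import Groth.Agent.ASpColim.Glue
import Groth.Agent.ASp.CutOut
import Groth.Agent.ASp.EffCartier
import Groth.Agent.S9383
/-!
The scheme theoretic union of two closed subspaces is their pushout among algebraic spaces.
-/

set_option autoImplicit false
set_option backward.isDefEq.respectTransparency false
set_option backward.isDefEq.respectTransparency.types false

universe u

open CategoryTheory CategoryTheory.Limits AlgebraicGeometry

noncomputable section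

namespace Groth.Agent.ASpColim

open _root_.AlgSp Groth.Agent.ASp

variable {S : Scheme.{u}} {X Y Z W V : Sp S} {iY : Y ⟶ X} {iZ : Z ⟶ X} {w : W ⟶ X} {v : V ⟶ X}
  {I J K : IdealEt X}

/-- The represented pullback of a closed subspace to an affine chart. -/
theorem isSubIdeal_ofIdealTop {D : Sp S} {i : D ⟶ X} {𝓘 : IdealEt X} (h : IsCutOutBy 𝓘 i) (E : EtOver X)
    (hE : IsAffine E.obj.left.left) :
    haveI := hE
    IsSubIdeal i E.obj.hom (Scheme.IdealSheafData.ofIdealTop (𝓘.ideal E hE)) := by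
  haveI := hE
  obtain ⟨J, hJ⟩ := exists_isSubIdeal h.choose E.obj.hom
  have e : J.ideal ⟨⊤, isAffineOpen_top E.obj.left.left⟩ = 𝓘.ideal E hE :=
    ideal_top_of_isCutOutBy h hE E.property hJ
  rwa [← e, ← eq_ofIdealTop_top]

/-- The inclusion of a smaller closed subscheme. -/
def subMap {U : Over S} {P Q : U.left.IdealSheafData} (h : P ≤ Q) : subOver Q ⟶ subOver P :=
  Over.homMk (Scheme.IdealSheafData.inclusion h)
    (Scheme.IdealSheafData.inclusion_subschemeι_assoc h U.hom)

theorem subMap_subInc {U : Over S} {P Q : U.left.IdealSheafData} (h : P ≤ Q) :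
    subMap h ≫ subInc P = subInc Q :=
  Over.OverMorphism.ext (Scheme.IdealSheafData.inclusion_subschemeι h)

theorem mono_of_isClosedImmersion {A B : Sp S} {i : A ⟶ B} (h : RepWith @IsClosedImmersion i) : Mono i :=
  mono_of_repWith (P := @IsClosedImmersion) (fun g (hg : IsClosedImmersion g) => inferInstance) h

theorem mono_yon_subInc {U : Over S} (P : U.left.IdealSheafData) : Mono ((yon S).map (subInc P)) := by
  haveI : IsClosedImmersion (subInc P).left := inferInstanceAs (IsClosedImmersion P.subschemeι)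
  exact mono_of_isClosedImmersion ((repWith_yon_map_iff _ _).2 this)

variable {T : Sp S} {a : Y ⟶ W} {b : Z ⟶ W} {c : V ⟶ Y} {d : V ⟶ Z}

/-- A map on a scheme over the union restricting to given maps on the two parts. -/
def Good (a : Y ⟶ W) (b : Z ⟶ W) (y : Y ⟶ T) (z : Z ⟶ T) {Q : Over S} (q : (yon S).obj Q ⟶ W)
    (β : (yon S).obj Q ⟶ T) : Prop :=
  (∀ (R : Over S) (r : R ⟶ Q) (y₀ : (yon S).obj R ⟶ Y), y₀ ≫ a = (yon S).map r ≫ q →
      (yon S).map r ≫ β = y₀ ≫ y) ∧
    ∀ (R : Over S) (r : R ⟶ Q) (z₀ : (yon S).obj R ⟶ Z), z₀ ≫ b = (yon S).map r ≫ q →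
      (yon S).map r ≫ β = z₀ ≫ z

variable {y : Y ⟶ T} {z : Z ⟶ T}

theorem Good.comp {Q Q' : Over S} {q : (yon S).obj Q ⟶ W} {β : (yon S).obj Q ⟶ T} (h : Good a b y z q β)
    (m : Q' ⟶ Q) : Good a b y z ((yon S).map m ≫ q) ((yon S).map m ≫ β) := by
  refine ⟨fun R r y₀ e => ?_, fun R r z₀ e => ?_⟩
  · rw [← Category.assoc, ← Functor.map_comp, h.1 R (r ≫ m) y₀ (by rw [e, Functor.map_comp, Category.assoc])]
  · rw [← Category.assoc, ← Functor.map_comp, h.2 R (r ≫ m) z₀ (by rw [e, Functor.map_comp, Category.assoc])]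

variable (hI : IsCutOutBy I iY) (hJ : IsCutOutBy J iZ) (hW : IsCutOutBy K w) (hV : IsCutOutBy (I ⊔ J) v)
  (hK : ∀ (E : EtOver X) (hE : IsAffine E.obj.left.left), K.ideal E hE = I.ideal E hE ⊓ J.ideal E hE)
  (hT : IsAlgSpace T) (ha : a ≫ w = iY) (hb : b ≫ w = iZ) (hc : c ≫ iY = v) (hd : d ≫ iZ = v)
  (hyz : c ≫ y = d ≫ z)

include hI hJ hW hV hK hT ha hb hc hd hyz

/-- Over an affine chart the union is the pushout. -/
theorem exists_good (E : EtOver X) (hE : IsAffine E.obj.left.left) :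
    ∃ (Q : E.obj.left.left.IdealSheafData) (q : (yon S).obj (subOver Q) ⟶ W),
      IsPullback q ((yon S).map (subInc Q)) w E.obj.hom ∧ ∃! β, Good a b y z q β := by
  haveI := hE
  let e := (Scheme.IdealSheafData.equivOfIsAffine (X := E.obj.left.left)).symm
  obtain ⟨fI, sI⟩ := isSubIdeal_ofIdealTop hI E hE
  obtain ⟨fJ, sJ⟩ := isSubIdeal_ofIdealTop hJ E hE
  have h₁ := isSubIdeal_ofIdealTop hW E hE
  have h₂ := isSubIdeal_ofIdealTop hV E hE
  rw [hK E hE, show Scheme.IdealSheafData.ofIdealTop (I.ideal E hE ⊓ J.ideal E hE) =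
    Scheme.IdealSheafData.ofIdealTop (I.ideal E hE) ⊓ Scheme.IdealSheafData.ofIdealTop (J.ideal E hE)
    from map_inf e _ _] at h₁
  rw [show Scheme.IdealSheafData.ofIdealTop ((I ⊔ J).ideal E hE) =
    Scheme.IdealSheafData.ofIdealTop (I.ideal E hE) ⊔ Scheme.IdealSheafData.ofIdealTop (J.ideal E hE)
    from map_sup e _ _] at h₂
  generalize Scheme.IdealSheafData.ofIdealTop (I.ideal E hE) = P at fI sI h₁ h₂
  generalize Scheme.IdealSheafData.ofIdealTop (J.ideal E hE) = Q at fJ sJ h₁ h₂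
  obtain ⟨fK, sK⟩ := h₁
  obtain ⟨fV, sV⟩ := h₂
  haveI := mono_of_isClosedImmersion hW.choose
  haveI := mono_of_isClosedImmersion hI.choose
  haveI := mono_of_isClosedImmersion hJ.choose
  haveI := mono_yon_subInc (P ⊓ Q)
  let mP := subMap (inf_le_left : P ⊓ Q ≤ P)
  let mQ := subMap (inf_le_right : P ⊓ Q ≤ Q)
  let nP := subMap (le_sup_left : P ≤ P ⊔ Q)
  let nQ := subMap (le_sup_right : Q ≤ P ⊔ Q)
  have eP : fI ≫ a = (yon S).map mP ≫ fK := by
    rw [← cancel_mono w, Category.assoc, ha, sI.w, Category.assoc, sK.w, ← Functor.map_comp_assoc, subMap_subInc]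
  have eQ : fJ ≫ b = (yon S).map mQ ≫ fK := by
    rw [← cancel_mono w, Category.assoc, hb, sJ.w, Category.assoc, sK.w, ← Functor.map_comp_assoc, subMap_subInc]
  have fP : (yon S).map nP ≫ fI = fV ≫ c := by
    rw [← cancel_mono iY, Category.assoc, Category.assoc, hc, sI.w, sV.w, ← Functor.map_comp_assoc, subMap_subInc]
  have fQ : (yon S).map nQ ≫ fJ = fV ≫ d := by
    rw [← cancel_mono iZ, Category.assoc, Category.assoc, hd, sJ.w, sV.w, ← Functor.map_comp_assoc, subMap_subInc]
  have hpo : IsPushout nP nQ mP mQ := by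
    refine IsPushout.of_map (Over.forget S) (Over.OverMorphism.ext ?_) (Groth.Agent.S9383.result _ P Q)
    exact (Groth.Agent.S9383.result _ P Q).w
  obtain ⟨β, ⟨hβP, hβQ⟩, huniq⟩ := existsUnique_pushout_closed
    (inferInstanceAs (IsClosedImmersion (Scheme.IdealSheafData.inclusion (le_sup_left : P ≤ P ⊔ Q))))
    (inferInstanceAs (IsClosedImmersion (Scheme.IdealSheafData.inclusion (le_sup_right : Q ≤ P ⊔ Q))))
    hpo hT (fI ≫ y) (fJ ≫ z) (by rw [← Category.assoc, fP, ← Category.assoc, fQ, Category.assoc, Category.assoc, hyz])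
  refine ⟨P ⊓ Q, fK, sK, β, ⟨fun R r y₀ e => ?_, fun R r z₀ e => ?_⟩, fun β' hβ' => huniq β' ⟨?_, ?_⟩⟩
  · obtain ⟨l, hl⟩ := (yon S).map_surjective (sI.lift y₀ ((yon S).map (r ≫ subInc (P ⊓ Q))) (by
      rw [← ha, ← Category.assoc, e, Category.assoc, sK.w, Functor.map_comp, Category.assoc]))
    have hl' : (yon S).map l ≫ (yon S).map mP = (yon S).map r := by
      rw [← cancel_mono ((yon S).map (subInc (P ⊓ Q))), Category.assoc, ← Functor.map_comp, subMap_subInc, hl,
        sI.lift_snd, Functor.map_comp]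
    rw [← hl', Category.assoc, hβP, hl, sI.lift_fst_assoc]
  · obtain ⟨l, hl⟩ := (yon S).map_surjective (sJ.lift z₀ ((yon S).map (r ≫ subInc (P ⊓ Q))) (by
      rw [← hb, ← Category.assoc, e, Category.assoc, sK.w, Functor.map_comp, Category.assoc]))
    have hl' : (yon S).map l ≫ (yon S).map mQ = (yon S).map r := by
      rw [← cancel_mono ((yon S).map (subInc (P ⊓ Q))), Category.assoc, ← Functor.map_comp, subMap_subInc, hl,
        sJ.lift_snd, Functor.map_comp]
    rw [← hl', Category.assoc, hβQ, hl, sJ.lift_fst_assoc]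
  · exact hβ'.1 _ mP fI eP
  · exact hβ'.2 _ mQ fJ eQ

/-- The union is the pushout of the two subspaces. -/
theorem existsUnique_union_desc (hX : IsAlgSpace X) (hWs : IsAlgSpace W) :
    ∃! m : W ⟶ T, a ≫ m = y ∧ b ≫ m = z := by
  obtain ⟨U, p, hp, hps⟩ := hX.atlas
  have key := fun k : U.left.affineOpens =>
    exists_good hI hJ hW hV hK hT ha hb hc hd hyz (openEt hp k.1) k.2
  choose Q q hsq hQ using key
  choose β hβ hβu using hQ
  have hq : ∀ k, RepWith @Etale (q k) := fun k =>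
    repWith_of_isPullback (hsq k).flip (openEt hp k.1).property
  have hfl : ∀ k, LocP @Flat (q k) := fun k =>
    locP_of_repWith (repWith_mono (fun _ _ g (hg : Etale g) => (inferInstance : Flat g)) (hq k))
  have hfp : ∀ k, LocP @LocallyOfFinitePresentation (q k) := fun k =>
    locP_of_repWith (repWith_mono (fun _ _ g (hg : Etale g) => (inferInstance : LocallyOfFinitePresentation g)) (hq k))
  have hYon : ∀ k, IsAlgSpace ((yon S).obj (subOver (Q k))) := fun k => IsAlgSpace.yon_obj _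
  have hs : ∀ x : Points W, ∃ k, x ∈ Set.range (Points.map (q k)) := fun x => by
    obtain ⟨u, hu⟩ := surjective_ofPt hps (Points.map w x)
    obtain ⟨A, hA, huA, -⟩ := exists_isAffineOpen_mem_and_subset (U := ⊤) (show u ∈ (⊤ : U.left.Opens) from trivial)
    obtain ⟨t, ht, -⟩ := points_exists_of_isPullback (hsq ⟨A, hA⟩) x (Points.ofPt (𝟙 _) (⟨u, huA⟩ : A)) (by
      rw [Points.map_ofPt, Category.id_comp, ← hu]
      exact (ofPt_yon_map_comp (openInc A) p ⟨u, huA⟩).symm)
    exact ⟨_, t, ht⟩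
  have hglue : ∀ (k l : U.left.affineOpens) (P₀ : Sp S) (pk : P₀ ⟶ (yon S).obj (subOver (Q k)))
      (pl : P₀ ⟶ (yon S).obj (subOver (Q l))), IsPullback pk pl (q k) (q l) → pk ≫ β k = pl ≫ β l := by
    intro k l P₀ pk pl sq
    refine hom_ext_of_yon fun R t => ?_
    obtain ⟨rk, hrk⟩ := (yon S).map_surjective (t ≫ pk)
    obtain ⟨rl, hrl⟩ := (yon S).map_surjective (t ≫ pl)
    rw [← Category.assoc, ← hrk, ← Category.assoc, ← hrl]
    have e0 : (yon S).map rk ≫ q k = (yon S).map rl ≫ q l := by rw [hrk, hrl, Category.assoc, sq.w, ← Category.assoc]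
    obtain ⟨RR, r₁, r₂, hRR⟩ := exists_isPullback_yon (openEt hp k.1).property.1 (openEt hp l.1).obj.hom
    have hr₂ : Etale r₂.left := etale_snd (openEt hp k.1).property hRR
    obtain ⟨ρ, hρ⟩ := (yon S).map_surjective (hRR.lift ((yon S).map (rk ≫ subInc (Q k)))
      ((yon S).map (rl ≫ subInc (Q l))) (by
        rw [Functor.map_comp, Category.assoc, ← (hsq k).w, Functor.map_comp, Category.assoc, ← (hsq l).w,
          ← Category.assoc, e0, Category.assoc]))
    have hρ₁ : ρ ≫ r₁ = rk ≫ subInc (Q k) := (yon S).map_injective (by rw [Functor.map_comp, hρ, hRR.lift_fst])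
    have hρ₂ : ρ ≫ r₂ = rl ≫ subInc (Q l) := (yon S).map_injective (by rw [Functor.map_comp, hρ, hRR.lift_snd])
    have hr : RepWith @Etale ((yon S).map r₂ ≫ (openEt hp l.1).obj.hom) :=
      repWith_comp (repWith_yon_map hr₂) (openEt hp l.1).property
    let cR : ∀ x : ↥R.left, Over S := fun x =>
      openOver (ρ.left ⁻¹ᵁ (exists_isAffineOpen_mem_and_subset (U := ⊤)
        (show ρ.left x ∈ (⊤ : RR.left.Opens) from trivial)).choose)
    refine hom_ext_fppf (ι := ↥R.left) (c := fun x => (openInc _ : cR x ⟶ R))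
      (fun x => inferInstanceAs (Flat (Scheme.Opens.ι _)))
      (fun x => inferInstanceAs (LocallyOfFinitePresentation (Scheme.Opens.ι _)))
      (fun x => ⟨x, ⟨x, (exists_isAffineOpen_mem_and_subset (U := ⊤)
        (show ρ.left x ∈ (⊤ : RR.left.Opens) from trivial)).choose_spec.2.1⟩, rfl⟩) fun x => ?_
    obtain ⟨hC, -, -⟩ := (exists_isAffineOpen_mem_and_subset (U := ⊤)
        (show ρ.left x ∈ (⊤ : RR.left.Opens) from trivial)).choose_spec
    generalize hCdef : (exists_isAffineOpen_mem_and_subset (U := ⊤)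
        (show ρ.left x ∈ (⊤ : RR.left.Opens) from trivial)).choose = C at hC ⊢
    let E : EtOver X := openEt hr C
    obtain ⟨Q', q', sq', β', hβ', hβu'⟩ := exists_good hI hJ hW hV hK hT ha hb hc hd hyz E hC
    let inc : openOver (ρ.left ⁻¹ᵁ C) ⟶ R := openInc _
    let ρC : openOver (ρ.left ⁻¹ᵁ C) ⟶ openOver C := Over.homMk (ρ.left ∣_ C) (by
      change (ρ.left ∣_ C) ≫ C.ι ≫ RR.hom = (ρ.left ⁻¹ᵁ C).ι ≫ R.hom
      rw [morphismRestrict_ι_assoc, Over.w])
    have hρC : ρC ≫ openInc C = inc ≫ ρ := Over.OverMorphism.ext (morphismRestrict_ι _ _)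
    have mk : ∀ (i : U.left.affineOpens) (r : RR ⟶ (openEt hp i.1).obj.left) (ri : R ⟶ subOver (Q i)),
        (yon S).map r ≫ (openEt hp i.1).obj.hom = (yon S).map r₂ ≫ (openEt hp l.1).obj.hom →
        ρ ≫ r = ri ≫ subInc (Q i) →
        ∀ (σ : openOver (ρ.left ⁻¹ᵁ C) ⟶ subOver Q'),
          (yon S).map σ ≫ q' = (yon S).map (inc ≫ ri) ≫ q i → σ ≫ subInc Q' = ρC →
        (yon S).map inc ≫ (yon S).map ri ≫ β i = (yon S).map σ ≫ β' := by
      intro i r ri hr' hri σ hσ₁ hσ₂
      obtain ⟨m, hm⟩ := (yon S).map_surjective ((hsq i).lift q' ((yon S).map (subInc Q' ≫ openInc C ≫ r)) (by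
        rw [sq'.w, Functor.map_comp, Functor.map_comp, Category.assoc, Category.assoc, hr']
        rfl))
      have hm₁ : (yon S).map m ≫ q i = q' := by rw [hm, (hsq i).lift_fst]
      have hm₂ : m ≫ subInc (Q i) = subInc Q' ≫ openInc C ≫ r :=
        (yon S).map_injective (by rw [Functor.map_comp, hm, (hsq i).lift_snd])
      have e1 : β' = (yon S).map m ≫ β i := (hβu' _ (hm₁ ▸ (hβ i).comp m)).symm
      have e2 : σ ≫ m = inc ≫ ri := by
        haveI := mono_yon_subInc (Q i)
        refine (yon S).map_injective ?_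
        rw [← cancel_mono ((yon S).map (subInc (Q i))), ← Functor.map_comp, ← Functor.map_comp, Category.assoc,
          hm₂, reassoc_of% hσ₂, reassoc_of% hρC, hri, Category.assoc]
      rw [e1, ← Category.assoc, ← Category.assoc, ← Functor.map_comp, ← Functor.map_comp, e2]
    obtain ⟨σ, hσ⟩ := (yon S).map_surjective (sq'.lift ((yon S).map (inc ≫ rk) ≫ q k) ((yon S).map ρC) (by
      change _ = (yon S).map ρC ≫ (yon S).map (openInc C) ≫ (yon S).map r₂ ≫ (openEt hp l.1).obj.hom
      rw [← hRR.w, ← Functor.map_comp_assoc, hρC, Category.assoc, (hsq k).w]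
      simp only [← Functor.map_comp_assoc, Category.assoc, hρ₁]))
    have hσ₁ : (yon S).map σ ≫ q' = (yon S).map (inc ≫ rk) ≫ q k := by rw [hσ, sq'.lift_fst]
    have hσ₂ : σ ≫ subInc Q' = ρC := (yon S).map_injective (by rw [Functor.map_comp, hσ, sq'.lift_snd])
    change (yon S).map inc ≫ _ = (yon S).map inc ≫ _
    rw [mk k r₁ rk hRR.w hρ₁ σ hσ₁ hσ₂,
      mk l r₂ rl rfl hρ₂ σ (by rw [hσ₁, Functor.map_comp, Category.assoc, e0, Functor.map_comp, Category.assoc]) hσ₂]
  obtain ⟨m, hm, -⟩ := existsUnique_hom_of_family hWs hYon hfl hfp hs β hglue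
  refine ⟨m, ⟨hom_ext_of_yon fun R y₀ => ?_, hom_ext_of_yon fun R z₀ => ?_⟩,
    fun m' hm' => hom_ext_family hWs hYon hfl hfp hs fun k => ?_⟩
  · obtain ⟨Wr, cr, lr, f1, f2, f3, f4⟩ := exists_scheme_refinement hWs hYon hfl hfp hs (y₀ ≫ a)
    refine hom_ext_fppf f1 f2 f3 fun k => ?_
    obtain ⟨r, hr⟩ := (yon S).map_surjective (lr k)
    have e := (hβ k).1 _ r ((yon S).map (cr k) ≫ y₀) (by rw [hr, f4, Category.assoc])
    rw [← hm k, ← Category.assoc, hr, f4] at e
    simpa only [Category.assoc] using e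
  · obtain ⟨Wr, cr, lr, f1, f2, f3, f4⟩ := exists_scheme_refinement hWs hYon hfl hfp hs (z₀ ≫ b)
    refine hom_ext_fppf f1 f2 f3 fun k => ?_
    obtain ⟨r, hr⟩ := (yon S).map_surjective (lr k)
    have e := (hβ k).2 _ r ((yon S).map (cr k) ≫ z₀) (by rw [hr, f4, Category.assoc])
    rw [← hm k, ← Category.assoc, hr, f4] at e
    simpa only [Category.assoc] using e
  · rw [hm]
    refine hβu k _ ⟨fun R r y₀ e => ?_, fun R r z₀ e => ?_⟩
    · rw [← Category.assoc, ← e, Category.assoc, hm'.1]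
    · rw [← Category.assoc, ← e, Category.assoc, hm'.2]

omit hI hJ hW hV hK hT ha hb hc hd hyz in
/-- A map between closed subspaces is a closed immersion. -/
theorem repWith_of_comp_mono {A B : Sp S} {i : A ⟶ X} {j : B ⟶ X} {f : A ⟶ B}
    (hi : RepWith @IsClosedImmersion i) (hj : RepWith @IsClosedImmersion j) (h : f ≫ j = i) :
    RepWith @IsClosedImmersion f := by
  haveI := mono_of_isClosedImmersion hj
  have sq : IsPullback (𝟙 A) f i j :=
    ⟨⟨by rw [Category.id_comp, h]⟩, ⟨PullbackCone.IsLimit.mk _ (fun s => s.fst) (fun s => Category.comp_id _)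
      (fun s => by rw [← cancel_mono j, Category.assoc, h, s.condition])
      (fun s m h₁ _ => (Category.comp_id m).symm.trans h₁)⟩⟩
  exact repWith_of_isPullback sq hi

end Groth.Agent.ASpColim
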