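import Groth.Agent.ASpColim.Glue
import Groth.Agent.ASp.Quot
import Groth.Agent.ASp.Morph
import Groth.Agent.ASp.Diag
/-!
Separated morphisms: basic closure properties, and equalizers in algebraic spaces.
-/

set_option autoImplicit false
set_option backward.isDefEq.respectTransparency false
set_option backward.isDefEq.respectTransparency.types false

universe u

open CategoryTheory CategoryTheory.Limits AlgebraicGeometry Opposite

namespace Groth.Agent.ASpColim

open _root_.AlgSp Groth.Agent.ASp

variable {S : Scheme.{u}}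

/-- A morphism out of a separated scheme is separated. -/
theorem isSeparatedMor_of_separated_source {V : Over S} [V.left.IsSeparated] {Y : Sp S}
    (f : (yon S).obj V ⟶ Y) : IsSeparatedMor f := by
  let m : pullback f f ⟶ (yon S).obj V ⨯ (yon S).obj V := prod.lift (pullback.fst f f) (pullback.snd f f)
  have : Mono m := ⟨fun a b hab => pullback.hom_ext
    (by simpa [m] using congrArg (· ≫ prod.fst) hab) (by simpa [m] using congrArg (· ≫ prod.snd) hab)⟩
  have e : pullback.diagonal f ≫ m = Limits.diag _ := by apply prod.hom_ext <;> simp [m]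
  have hd : RepWith @IsClosedImmersion (Limits.diag ((yon S).obj V)) := by
    rw [repWith_diag_yon_iff]
    have : IsSeparated V.hom := inferInstance
    exact (isSeparated_iff V.hom).1 this
  have sq : IsPullback (𝟙 _) (pullback.diagonal f) (Limits.diag ((yon S).obj V)) m := by
    refine IsPullback.of_isLimit' ⟨by rw [Category.id_comp, e]⟩ (PullbackCone.IsLimit.mk _ (fun k => k.fst)
      (fun k => Category.comp_id _) (fun k => ?_) (fun k l h _ => (Category.comp_id l).symm.trans h))
    rw [← cancel_mono m, Category.assoc, e, k.condition]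
  exact repWith_of_isPullback sq hd

theorem isSeparatedMor_of_isPullback {F G F' G' : Sp S} {f : F ⟶ G} {g : G' ⟶ G} {p : F' ⟶ G'}
    {q : F' ⟶ F} (h : IsPullback q p f g) (hf : IsSeparatedMor f) : IsSeparatedMor p := by
  obtain ⟨s, hs, -⟩ := isPullback_diagonal_baseChange h
  exact repWith_of_isPullback hs hf

theorem isSeparatedMor_of_mono' {X Y : Sp S} (f : X ⟶ Y) [Mono f] : IsSeparatedMor f :=
  repWith_diagonal_of_mono (P := @IsClosedImmersion) f

theorem isSeparatedMor_comp {X Y Z : Sp S} {f : X ⟶ Y} {g : Y ⟶ Z} (hf : IsSeparatedMor f)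
    (hg : IsSeparatedMor g) : IsSeparatedMor (f ≫ g) := by
  change RepWith @IsClosedImmersion (pullback.diagonal (f ≫ g))
  rw [pullback.diagonal_comp]
  exact repWith_comp hf (repWith_comp (repWith_of_isIso _)
    (repWith_of_isPullback (IsPullback.of_hasPullback _ _) hg))

/-- Maps to an algebraic space which agree after composition with a family factor through their
equalizer, an algebraic space mapping monomorphically. -/
theorem exists_equalizer {X Y : Sp S} (hX : IsAlgSpace X) (hY : IsAlgSpace Y) (a b : X ⟶ Y) :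
    ∃ (K : Sp S) (e : K ⟶ X), IsAlgSpace K ∧ Mono e ∧ e ≫ a = e ≫ b ∧
      ∀ (Z : Sp S) (t : Z ⟶ X), t ≫ a = t ≫ b → ∃ l, l ≫ e = t := by
  obtain ⟨K, d, e, hK⟩ : ∃ (K : Sp S) (d : K ⟶ Y) (e : K ⟶ X),
      IsPullback d e (Limits.diag Y) (prod.lift a b) := ⟨_, _, _, IsPullback.of_hasPullback _ _⟩
  have h3 := congrArg (· ≫ prod.fst) hK.w
  have h4 := congrArg (· ≫ prod.snd) hK.w
  simp only [Category.assoc, prod.lift_fst, prod.lift_snd, Category.comp_id] at h3 h4
  refine ⟨K, e, isAlgSpace_of_isPullback (isAlgSpace_prod hY hY).diag hY hX hK, hK.mono_snd_of_mono,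
    h3.symm.trans h4, fun Z t ht => ⟨hK.lift (t ≫ a) t ?_, hK.lift_snd _ _ _⟩⟩
  apply prod.hom_ext
  · simp only [Category.assoc, prod.lift_fst, Category.comp_id]
  · simp only [Category.assoc, prod.lift_snd, Category.comp_id]; exact ht

end Groth.Agent.ASpColim
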