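import Groth.Agent.ASpColim.SepColim
/-!
Colimits among separated spaces over a base which are colimits among all spaces.
-/

set_option autoImplicit false
set_option backward.isDefEq.respectTransparency false
set_option backward.isDefEq.respectTransparency.types false

universe w v u

open CategoryTheory CategoryTheory.Limits AlgebraicGeometry Opposite

namespace Groth.Agent.ASpColim

open _root_.AlgSp Groth.Agent.ASp

variable {S : Scheme.{u}} {B : AlgSp.Space S} {P : ObjectProperty (Over B)}

section mk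

variable (hP : ∀ T : Over B, P T ↔ AlgSp.IsSeparatedMor T.hom.hom)

/-- A separated space over `B` as an object of the full subcategory. -/
def mkObj (W : Sp S) (hW : IsAlgSpace W) (π : W ⟶ B.obj) (hs : IsSeparatedMor π) : P.FullSubcategory :=
  ⟨Over.mk (ObjectProperty.homMk π : (⟨W, hW⟩ : AlgSp.Space S) ⟶ B), (hP _).2 hs⟩

/-- A morphism of the full subcategory from a morphism of sheaves. -/
def mkHom {A A' : P.FullSubcategory} (f : A.obj.left.obj ⟶ A'.obj.left.obj)
    (w : f ≫ A'.obj.hom.hom = A.obj.hom.hom) : A ⟶ A' :=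
  ObjectProperty.homMk (Over.homMk (ObjectProperty.homMk f) (InducedCategory.hom_ext w))

theorem full_hom_ext {A A' : P.FullSubcategory} {f g : A ⟶ A'} (h : f.hom.left.hom = g.hom.left.hom) :
    f = g :=
  InducedCategory.hom_ext (Over.OverMorphism.ext (InducedCategory.hom_ext h))

theorem full_w {A A' : P.FullSubcategory} (f : A ⟶ A') :
    f.hom.left.hom ≫ A'.obj.hom.hom = A.obj.hom.hom :=
  congrArg InducedCategory.Hom.hom (Over.w f.hom)

end mk

variable (hP : ∀ T : Over B, P T ↔ AlgSp.IsSeparatedMor T.hom.hom)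
  {I : Type v} [Category.{w} I] {D : I ⥤ P.FullSubcategory}

theorem cocone_w (c : Cocone D) {i j : I} (m : i ⟶ j) :
    (D.map m).hom.left.hom ≫ (c.ι.app j).hom.left.hom = (c.ι.app i).hom.left.hom :=
  congrArg (fun k => k.hom.left.hom) (c.w m)

include hP in
/-- Maps out of a colimit of separated spaces into any algebraic space are determined on the
coprojections. -/
theorem hom_ext_sepColimit {c : Cocone D} (hc : IsColimit c) {Y : Sp S} (hY : IsAlgSpace Y)
    {a b : c.pt.obj.left.obj ⟶ Y}
    (h : ∀ i, (c.ι.app i).hom.left.hom ≫ a = (c.ι.app i).hom.left.hom ≫ b) : a = b := by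
  obtain ⟨K, e, hK, he, heq, hlift⟩ := exists_equalizer c.pt.obj.left.property hY a b
  choose l hl using fun i => hlift _ _ (h i)
  let KB : P.FullSubcategory := mkObj hP K hK (e ≫ c.pt.obj.hom.hom)
    (isSeparatedMor_comp (isSeparatedMor_of_mono' e) ((hP _).1 c.pt.property))
  let cK : Cocone D :=
    { pt := KB
      ι :=
        { app := fun i => mkHom (l i) (by
            change l i ≫ e ≫ c.pt.obj.hom.hom = _
            rw [reassoc_of% (hl i)]
            exact full_w (c.ι.app i))
          naturality := fun i j m => full_hom_ext (by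
            change (D.map m).hom.left.hom ≫ l j = l i ≫ 𝟙 _
            rw [Category.comp_id, ← cancel_mono e, Category.assoc, hl, hl, cocone_w c m]) } }
  let eB : KB ⟶ c.pt := mkHom e rfl
  have hs : hc.desc cK ≫ eB = 𝟙 c.pt := hc.hom_ext fun i => by
    rw [hc.fac_assoc, Category.comp_id]
    exact full_hom_ext (hl i)
  have hs' : (hc.desc cK).hom.left.hom ≫ e = 𝟙 _ := congrArg (fun k => k.hom.left.hom) hs
  have := congrArg ((hc.desc cK).hom.left.hom ≫ ·) heq
  simpa only [← Category.assoc, hs', Category.id_comp] using this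

variable (c : Cocone D)
    (h₄ : ∀ (D' : I ⥤ P.FullSubcategory) (α : D' ⟶ D) (c' : Cocone D') (a : c'.pt ⟶ c.pt),
      AlgSp.IsEtaleMor a.hom.left.hom → AlgSp.IsSeparatedMor a.hom.left.hom →
      (∀ i, IsPullback (c'.ι.app i).hom.left.hom (α.app i).hom.left.hom a.hom.left.hom (c.ι.app i).hom.left.hom) →
        Nonempty (IsColimit c'))
    (h₅ : ∀ (D' : I ⥤ P.FullSubcategory) (α : D' ⟶ D),
      (∀ ⦃i j : I⦄ (g : i ⟶ j), IsPullback (D'.map g).hom.left.hom (α.app i).hom.left.hom (α.app j).hom.left.hom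
        (D.map g).hom.left.hom) →
      (∀ i, AlgSp.IsEtaleMor (α.app i).hom.left.hom) → (∀ i, AlgSp.IsSeparatedMor (α.app i).hom.left.hom) →
        ∃ (c' : Cocone D') (a : c'.pt ⟶ c.pt), AlgSp.IsEtaleMor a.hom.left.hom ∧ AlgSp.IsSeparatedMor a.hom.left.hom ∧
          ∀ i, IsPullback (c'.ι.app i).hom.left.hom (α.app i).hom.left.hom a.hom.left.hom (c.ι.app i).hom.left.hom)

include hP in
/-- Pullback of the diagram along a separated map into the point of the cocone. -/
theorem exists_sep_system {W : Sp S} (hW : IsAlgSpace W) (a : W ⟶ c.pt.obj.left.obj)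
    (ha : IsSeparatedMor a) :
    ∃ (D' : I ⥤ P.FullSubcategory) (α : D' ⟶ D) (c' : Cocone D') (a' : c'.pt ⟶ c.pt)
      (e : c'.pt.obj.left.obj = W), a'.hom.left.hom = eqToHom e ≫ a ∧
      ∀ i, IsPullback (c'.ι.app i).hom.left.hom (α.app i).hom.left.hom a'.hom.left.hom (c.ι.app i).hom.left.hom := by
  let W' : I → P.FullSubcategory := fun i =>
    mkObj hP (pullback a (c.ι.app i).hom.left.hom)
      (isAlgSpace_pullback c.pt.obj.left.property.diag hW (D.obj i).obj.left.property _ _)
      (pullback.snd a _ ≫ (D.obj i).obj.hom.hom)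
      (isSeparatedMor_comp (isSeparatedMor_of_isPullback (IsPullback.of_hasPullback _ _) ha)
        ((hP _).1 (D.obj i).property))
  let φ : ∀ {i j : I} (m : i ⟶ j), (W' i).obj.left.obj ⟶ (W' j).obj.left.obj := fun {i j} m =>
    pullback.lift (pullback.fst _ _) (pullback.snd _ _ ≫ (D.map m).hom.left.hom)
      (by rw [Category.assoc, cocone_w c m]; exact pullback.condition)
  let D' : I ⥤ P.FullSubcategory :=
    { obj := W'
      map := fun {i j} m => mkHom (φ m) (by
        change φ m ≫ pullback.snd _ _ ≫ _ = pullback.snd _ _ ≫ _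
        rw [← Category.assoc, pullback.lift_snd, Category.assoc, full_w])
      map_id := fun i => full_hom_ext (pullback.hom_ext
        ((pullback.lift_fst _ _ _).trans (Category.id_comp _).symm)
        (((pullback.lift_snd _ _ _).trans (by rw [D.map_id]; exact Category.comp_id _)).trans (Category.id_comp _).symm))
      map_comp := fun {i j k} m n => full_hom_ext (pullback.hom_ext
        (by change φ (m ≫ n) ≫ _ = (φ m ≫ φ n) ≫ _; simp [φ])
        (by
          change φ (m ≫ n) ≫ _ = (φ m ≫ φ n) ≫ _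
          simp only [φ, Category.assoc, pullback.lift_snd, pullback.lift_snd_assoc, D.map_comp]
          rfl)) }
  let α : D' ⟶ D :=
    { app := fun i => mkHom (pullback.snd _ _) rfl
      naturality := fun i j m => full_hom_ext (pullback.lift_snd _ _ _) }
  let WB : P.FullSubcategory := mkObj hP W hW (a ≫ c.pt.obj.hom.hom)
    (isSeparatedMor_comp ha ((hP _).1 c.pt.property))
  let c' : Cocone D' :=
    { pt := WB
      ι :=
        { app := fun i => mkHom (pullback.fst _ _) (by
            change pullback.fst a (c.ι.app i).hom.left.hom ≫ a ≫ _ = pullback.snd _ _ ≫ _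
            rw [pullback.condition_assoc]
            exact congrArg (pullback.snd a (c.ι.app i).hom.left.hom ≫ ·) (full_w (c.ι.app i)))
          naturality := fun i j m => full_hom_ext ((pullback.lift_fst _ _ _).trans (Category.comp_id _).symm) } }
  exact ⟨D', α, c', mkHom a rfl, rfl, (Category.id_comp a).symm, fun i => IsPullback.of_hasPullback _ _⟩

include hP h₄ h₅ in
/-- A compatible system of maps lifts to a separated chart over an étale neighbourhood. -/
theorem exists_local_sepDesc {Y : Sp S} (hY : IsAlgSpace Y) (πY : Y ⟶ B.obj) {V : Over S} [V.left.IsSeparated]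
    (p : (yon S).obj V ⟶ Y) (hp : RepWith @Etale p) (y : ∀ i, (D.obj i).obj.left.obj ⟶ Y)
    (hy : ∀ {i j} (m : i ⟶ j), (D.map m).hom.left.hom ≫ y j = y i)
    (hπ : ∀ i, y i ≫ πY = (D.obj i).obj.hom.hom) :
    ∃ (U : Sp S) (a : U ⟶ c.pt.obj.left.obj) (β : U ⟶ Y), IsAlgSpace U ∧ LocP @Etale a ∧ IsSeparatedMor a ∧
      (∀ (i : I) (T : Sp S) (t : T ⟶ (D.obj i).obj.left.obj) (s : T ⟶ U),
        s ≫ a = t ≫ (c.ι.app i).hom.left.hom → s ≫ β = t ≫ y i) ∧
      (∀ (i : I) (T : Sp S) (t : T ⟶ (D.obj i).obj.left.obj) (q : T ⟶ (yon S).obj V), q ≫ p = t ≫ y i →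
        ∃ s : T ⟶ U, s ≫ a = t ≫ (c.ι.app i).hom.left.hom) := by
  have hW : ∀ i, IsAlgSpace (pullback p (y i)) := fun i =>
    isAlgSpace_pullback hY.diag (IsAlgSpace.yon_obj V) (D.obj i).obj.left.property _ _
  have hr : ∀ i, IsSeparatedMor (pullback.snd p (y i)) := fun i =>
    isSeparatedMor_of_isPullback (IsPullback.of_hasPullback _ _) (isSeparatedMor_of_separated_source p)
  let W : I → P.FullSubcategory := fun i => mkObj hP _ (hW i) (pullback.snd p (y i) ≫ (D.obj i).obj.hom.hom)
    (isSeparatedMor_comp (hr i) ((hP _).1 (D.obj i).property))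
  let φ : ∀ {i j : I} (m : i ⟶ j), pullback p (y i) ⟶ pullback p (y j) := fun {i j} m =>
    pullback.lift (pullback.fst _ _) (pullback.snd _ _ ≫ (D.map m).hom.left.hom)
      (by rw [Category.assoc, hy m]; exact pullback.condition)
  let D' : I ⥤ P.FullSubcategory :=
    { obj := W
      map := fun {i j} m => mkHom (φ m) (by
        change φ m ≫ pullback.snd _ _ ≫ _ = pullback.snd _ _ ≫ _
        rw [← Category.assoc, pullback.lift_snd, Category.assoc, full_w])
      map_id := fun i => full_hom_ext (pullback.hom_ext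
        ((pullback.lift_fst _ _ _).trans (Category.id_comp _).symm)
        (((pullback.lift_snd _ _ _).trans (by rw [D.map_id]; exact Category.comp_id _)).trans (Category.id_comp _).symm))
      map_comp := fun {i j k} m n => full_hom_ext (pullback.hom_ext
        (by change φ (m ≫ n) ≫ _ = (φ m ≫ φ n) ≫ _; simp [φ])
        (by
          change φ (m ≫ n) ≫ _ = (φ m ≫ φ n) ≫ _
          simp only [φ, Category.assoc, pullback.lift_snd, pullback.lift_snd_assoc, D.map_comp]
          rfl)) }
  let α : D' ⟶ D :=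
    { app := fun i => mkHom (pullback.snd _ _) rfl
      naturality := fun i j m => full_hom_ext (pullback.lift_snd _ _ _) }
  have hsq : ∀ ⦃i j : I⦄ (g : i ⟶ j), IsPullback (D'.map g).hom.left.hom (α.app i).hom.left.hom
      (α.app j).hom.left.hom (D.map g).hom.left.hom := fun i j g => by
    refine IsPullback.of_right ?_ (pullback.lift_snd _ _ _) (IsPullback.of_hasPullback p (y j))
    change IsPullback (φ g ≫ pullback.fst p (y j)) _ _ _
    rw [pullback.lift_fst, hy g]
    exact IsPullback.of_hasPullback p (y i)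
  have hae : ∀ i, AlgSp.IsEtaleMor (α.app i).hom.left.hom := fun i =>
    (isEtaleMor_iff_locP (D.obj i).obj.left.property).2
      (locP_of_isPullback (IsPullback.of_hasPullback p (y i)).flip (IsAlgSpace.yon_obj V) hY
        (D.obj i).obj.left.property (locP_of_repWith hp))
  obtain ⟨c', a, ha, has, hpb⟩ := h₅ D' α hsq hae hr
  obtain ⟨hc'⟩ := h₄ D' α c' a ha has hpb
  let cV : Cocone D' :=
    { pt := mkObj hP _ (IsAlgSpace.yon_obj V) (p ≫ πY) (isSeparatedMor_of_separated_source _)
      ι :=
        { app := fun i => mkHom (pullback.fst p (y i)) (by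
            change pullback.fst p (y i) ≫ p ≫ πY = pullback.snd p (y i) ≫ _
            rw [pullback.condition_assoc, hπ])
          naturality := fun i j m => full_hom_ext ((pullback.lift_fst _ _ _).trans (Category.comp_id _).symm) } }
  let β : c'.pt.obj.left.obj ⟶ (yon S).obj V := (hc'.desc cV).hom.left.hom
  have hβ : ∀ i, (c'.ι.app i).hom.left.hom ≫ β = pullback.fst p (y i) := fun i =>
    congrArg (fun k => k.hom.left.hom) (hc'.fac cV i)
  refine ⟨c'.pt.obj.left.obj, a.hom.left.hom, β ≫ p, c'.pt.obj.left.property,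
    (isEtaleMor_iff_locP c.pt.obj.left.property).1 ha, has, fun i T t s hts => ?_, fun i T t q hq => ?_⟩
  · obtain ⟨l, hl₁, hl₂⟩ : ∃ l : T ⟶ pullback p (y i),
        l ≫ (c'.ι.app i).hom.left.hom = s ∧ l ≫ pullback.snd p (y i) = t :=
      ⟨(hpb i).lift s t hts, (hpb i).lift_fst _ _ _, (hpb i).lift_snd _ _ _⟩
    rw [← hl₁, ← hl₂, Category.assoc, reassoc_of% (hβ i), Category.assoc, pullback.condition]
  · refine ⟨pullback.lift q t hq ≫ (c'.ι.app i).hom.left.hom, ?_⟩
    rw [Category.assoc, (hpb i).w]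
    exact pullback.lift_snd_assoc _ _ _ _

variable (h₂ : IsColimit c)
    (h₃ : ∀ x : AlgSp.Points c.pt.obj.left.obj, ∃ (i : I) (y : AlgSp.Points (D.obj i).obj.left.obj),
      AlgSp.Points.map (c.ι.app i).hom.left.hom y = x)

include hP h₂ h₃ h₄ h₅ in
theorem existsUnique_sepDesc {Y : Sp S} (hY : IsAlgSpace Y) (πY : Y ⟶ B.obj)
    (y : ∀ i, (D.obj i).obj.left.obj ⟶ Y)
    (hy : ∀ {i j} (m : i ⟶ j), (D.map m).hom.left.hom ≫ y j = y i)
    (hπ : ∀ i, y i ≫ πY = (D.obj i).obj.hom.hom) :
    ∃! b : c.pt.obj.left.obj ⟶ Y, ∀ i, (c.ι.app i).hom.left.hom ≫ b = y i := by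
  obtain ⟨V, p, hpe, hps⟩ := hY.atlas
  let K := V.left.affineCover
  let Vk : K.I₀ → Over S := fun k => Over.mk (K.f k ≫ V.hom)
  let j : ∀ k, Vk k ⟶ V := fun k => Over.homMk (K.f k) rfl
  have hpk : ∀ k, RepWith @Etale ((yon S).map (j k) ≫ p) := fun k =>
    repWith_comp ((repWith_yon_map_iff _ _).2 (inferInstanceAs (Etale (K.f k)))) hpe
  have hsep : ∀ k, (Vk k).left.IsSeparated := fun k => inferInstanceAs ((K.X k).IsSeparated)
  have hloc := fun k => haveI := hsep k; exists_local_sepDesc hP c h₄ h₅ hY πY _ (hpk k) y hy hπ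
  choose U a β hUa hae has hcompat hlift using hloc
  have hfl : ∀ k, LocP @Flat (a k) := fun k A C s t h hs ht e => by
    have := hae k s t h hs ht e; infer_instance
  have hfp : ∀ k, LocP @LocallyOfFinitePresentation (a k) := fun k A C s t h hs ht e => by
    have := hae k s t h hs ht e; infer_instance
  -- the charts cover each piece
  have hpts : ∀ (i : I) (z : Points (D.obj i).obj.left.obj), ∃ k,
      z ∈ Set.range (Points.map (pullback.snd ((yon S).map (j k) ≫ p) (y i))) := fun i z => by
    obtain ⟨v, hv⟩ := surjective_ofPt hps (Points.map (y i) z)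
    obtain ⟨w, hw⟩ := K.covers v
    obtain ⟨τ, -, hτ⟩ := points_exists_of_isPullback (IsPullback.of_hasPullback ((yon S).map (j (K.idx v)) ≫ p) (y i))
      (Points.ofPt (𝟙 _) w) z (by
        rw [Points.map_ofPt, Category.id_comp, ofPt_yon_map_comp, ← hv]
        exact congrArg (Points.ofPt p) hw)
    exact ⟨_, τ, hτ⟩
  have hs : ∀ x : Points c.pt.obj.left.obj, ∃ k, x ∈ Set.range (Points.map (a k)) := fun x => by
    obtain ⟨i, z, rfl⟩ := h₃ x
    obtain ⟨k, τ, rfl⟩ := hpts i z
    obtain ⟨s, hs⟩ := hlift k i _ (pullback.snd _ (y i)) (pullback.fst _ _) pullback.condition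
    exact ⟨k, Points.map s τ, by rw [← Points.map_comp, ← Points.map_comp, hs]⟩
  have hglue : ∀ (k l : K.I₀) (Q : Sp S) (pk : Q ⟶ U k) (pl : Q ⟶ U l), IsPullback pk pl (a k) (a l) →
      pk ≫ β k = pl ≫ β l := by
    intro k l Q pk pl hQ
    have hQa : IsAlgSpace Q := isAlgSpace_of_isPullback c.pt.obj.left.property.diag (hUa k) (hUa l) hQ
    obtain ⟨D', α, c', a', e, ha', hpb⟩ := exists_sep_system hP c hQa (pk ≫ a k)
      (isSeparatedMor_comp (isSeparatedMor_of_isPullback hQ.flip (has l)) (has k))
    subst e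
    rw [eqToHom_refl, Category.id_comp] at ha'
    have he : AlgSp.IsEtaleMor a'.hom.left.hom := by
      rw [ha', isEtaleMor_iff_locP c.pt.obj.left.property]
      exact locP_comp (hUa k) (locP_of_isPullback hQ (hUa l) c.pt.obj.left.property (hUa k) (hae l)) (hae k)
    obtain ⟨hc'⟩ := h₄ D' α c' a' he (ha' ▸ isSeparatedMor_comp (isSeparatedMor_of_isPullback hQ.flip (has l)) (has k)) hpb
    refine hom_ext_sepColimit hP hc' hY fun i => ?_
    rw [← Category.assoc, ← Category.assoc,
      hcompat k i _ (α.app i).hom.left.hom ((c'.ι.app i).hom.left.hom ≫ pk)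
        (by rw [Category.assoc, ← ha']; exact (hpb i).w),
      hcompat l i _ (α.app i).hom.left.hom ((c'.ι.app i).hom.left.hom ≫ pl)
        (by rw [Category.assoc, ← hQ.w, ← ha']; exact (hpb i).w)]
  obtain ⟨b, hb, -⟩ := existsUnique_hom_of_family c.pt.obj.left.property hUa hfl hfp hs β hglue
  have hb' : ∀ i, (c.ι.app i).hom.left.hom ≫ b = y i := fun i => by
    have hX := (D.obj i).obj.left.property
    have het : ∀ k, LocP @Etale (pullback.snd ((yon S).map (j k) ≫ p) (y i)) := fun k =>
      locP_of_isPullback (IsPullback.of_hasPullback _ _).flip (IsAlgSpace.yon_obj _) hY hX (locP_of_repWith (hpk k))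
    refine hom_ext_family (a := fun k => pullback.snd ((yon S).map (j k) ≫ p) (y i)) hX
      (fun k => isAlgSpace_pullback hY.diag (IsAlgSpace.yon_obj _) hX _ _)
      (fun k A C s t h hs ht e => by have := het k s t h hs ht e; infer_instance)
      (fun k A C s t h hs ht e => by have := het k s t h hs ht e; infer_instance) (hpts i) fun k => ?_
    obtain ⟨s, hs'⟩ := hlift k i _ (pullback.snd _ (y i)) (pullback.fst _ _) pullback.condition
    rw [← Category.assoc, ← hs', Category.assoc, hb]
    exact hcompat k i _ _ _ hs'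
  exact ⟨b, hb', fun b' hb'' => hom_ext_sepColimit hP h₂ hY fun i => (hb'' i).trans (hb' i).symm⟩

end Groth.Agent.ASpColim
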