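import Groth.Agent.ASpColim.Glue
import Groth.Agent.ASp.ClosedIdeal
/-!
Descent of pushout and pullback squares along etale charts.
-/

set_option autoImplicit false
set_option backward.isDefEq.respectTransparency false
set_option backward.isDefEq.respectTransparency.types false

universe u

open CategoryTheory CategoryTheory.Limits AlgebraicGeometry

noncomputable section

namespace Groth.Agent.ASpColim

open _root_.AlgSp Groth.Agent.ASp

/-- An unramified universally injective morphism is a monomorphism. -/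
theorem mono_of_unramified_univInjective {A B : Scheme.{u}} (m : A ⟶ B) [FormallyUnramified m]
    [LocallyOfFiniteType m] [UniversallyInjective m] : Mono m := by
  haveI : Surjective (pullback.diagonal m) := (UniversallyInjective.iff_diagonal m).1 inferInstance
  rw [← pullback.isIso_diagonal_iff]
  exact isIso_iff_isOpenImmersion_and_epi_base (pullback.diagonal m) |>.2
    ⟨inferInstance, (TopCat.epi_iff_surjective _).2 (pullback.diagonal m).surjective⟩

/-- Universal injectivity is inherited from a composite with a surjection. -/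
theorem univInjective_of_surjective_comp {A A' B : Scheme.{u}} (g : A ⟶ A') [Surjective g] (m : A' ⟶ B)
    [UniversallyInjective (g ≫ m)] : UniversallyInjective m := by
  haveI : Surjective (pullback.diagonal (g ≫ m)) := (UniversallyInjective.iff_diagonal _).1 inferInstance
  let μ : pullback (g ≫ m) (g ≫ m) ⟶ pullback m m :=
    pullback.map _ _ _ _ g g (𝟙 B) (by simp) (by simp)
  haveI : Surjective μ := MorphismProperty.pullback_map (P := @Surjective) ‹Surjective g› ‹Surjective g› rfl rfl
  have e : g ≫ pullback.diagonal m = pullback.diagonal (g ≫ m) ≫ μ := by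
    apply pullback.hom_ext <;> simp [μ]
  haveI : Surjective (g ≫ pullback.diagonal m) := by rw [e]; infer_instance
  exact (UniversallyInjective.iff_diagonal m).2 (Surjective.of_comp g (pullback.diagonal m))

variable {S : Scheme.{u}}

/-- Maps out of a sheaf with an etale surjective map from another are determined there. -/
theorem epi_cancel {A B T : Sp S} {q : A ⟶ B} (hq : RepWith @Etale q) (hqs : RepWith @Surjective q)
    {a b : B ⟶ T} (h : q ≫ a = q ≫ b) : a = b := by
  haveI := epi_of_etale_surjective hq hqs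
  exact (cancel_epi q).1 h

/-- A square which is cartesian after base change along an etale surjection is cartesian. -/
theorem isPullback_of_descent {A B C D A' C' : Sp S} {fst : A ⟶ B} {snd : A ⟶ C} {f : B ⟶ D} {g : C ⟶ D}
    (hw : fst ≫ f = snd ≫ g) {q : C' ⟶ C} (hq : RepWith @Etale q) (hqs : RepWith @Surjective q)
    {a' : A' ⟶ A} {snd' : A' ⟶ C'} (h₁ : IsPullback a' snd' snd q)
    (h₂ : IsPullback (a' ≫ fst) snd' f (q ≫ g)) : IsPullback fst snd f g := by
  let h : A ⟶ pullback f g := pullback.lift fst snd hw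
  suffices IsIso h from (IsPullback.of_hasPullback f g).of_iso (asIso h).symm (Iso.refl _) (Iso.refl _)
    (Iso.refl _) (by simp [h]) (by simp [h]) (by simp) (by simp)
  have : Mono h := ⟨fun {T} a b hab => hom_ext_of_yon fun R ρ => by
    have e1 : (ρ ≫ a) ≫ fst = (ρ ≫ b) ≫ fst := by
      have := congrArg (fun k => ρ ≫ k ≫ pullback.fst f g) hab
      simpa [h] using this
    have e2 : (ρ ≫ a) ≫ snd = (ρ ≫ b) ≫ snd := by
      have := congrArg (fun k => ρ ≫ k ≫ pullback.snd f g) hab
      simpa [h] using this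
    obtain ⟨R', c, v, hc, hcs, -, hR'⟩ := exists_etale_cover' hq hqs ((ρ ≫ a) ≫ snd)
    haveI := hc
    haveI := hcs
    refine hom_ext_fppf (ι := PUnit.{u + 1}) (c := fun _ => c) (fun _ => inferInstance)
      (fun _ => inferInstance) (fun z => ⟨⟨⟩, c.left.surjective z⟩) fun _ => ?_
    let la := h₁.lift ((yon S).map c ≫ ρ ≫ a) v (by
      rw [Category.assoc, hR'.w])
    let lb := h₁.lift ((yon S).map c ≫ ρ ≫ b) v (by
      rw [Category.assoc, ← e2, hR'.w])
    have : la = lb := h₂.hom_ext
      (by simp only [Category.assoc] at e1; simp only [h₁.lift_fst_assoc, Category.assoc, la, lb, e1])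
      (by rw [h₁.lift_snd, h₁.lift_snd])
    simpa [la, lb] using congrArg (· ≫ a') this⟩
  have : Epi h := by
    have sq := IsPullback.of_hasPullback f g
    have hP : IsPullback (pullback.fst (pullback.snd f g) q ≫ pullback.fst f g)
        (pullback.snd (pullback.snd f g) q) f (q ≫ g) :=
      (IsPullback.of_hasPullback (pullback.snd f g) q).paste_horiz sq
    have e : a' ≫ h = (hP.isoIsPullback _ _ h₂).inv ≫ pullback.fst (pullback.snd f g) q := by
      apply sq.hom_ext
      · simp only [h, Category.assoc, pullback.lift_fst]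
        exact (hP.isoIsPullback_inv_fst _ _ h₂).symm
      · simp only [h, Category.assoc, pullback.lift_snd, pullback.condition]
        rw [← Category.assoc, hP.isoIsPullback_inv_snd _ _ h₂, h₁.w]
    haveI : Epi (pullback.fst (pullback.snd f g) q) :=
      epi_of_etale_surjective (repWith_of_isPullback (IsPullback.of_hasPullback (pullback.snd f g) q).flip hq)
        (repWith_of_isPullback (IsPullback.of_hasPullback (pullback.snd f g) q).flip hqs)
    haveI : Epi (a' ≫ h) := by rw [e]; infer_instance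
    exact epi_of_epi a' h
  exact isIso_of_mono_of_epi h
where
  exists_etale_cover' {F G : Sp S} {q : F ⟶ G} {U : Over S} (hq : RepWith @Etale q) (hqs : RepWith @Surjective q)
      (g : (yon S).obj U ⟶ G) :
      ∃ (W : Over S) (w : W ⟶ U) (v : (yon S).obj W ⟶ F), Etale w.left ∧ Surjective w.left ∧
        v ≫ q = (yon S).map w ≫ g ∧ IsPullback ((yon S).map w) v g q := by
    obtain ⟨W, v, w, hW⟩ : ∃ (W : Over S) (v : (yon S).obj W ⟶ F) (w : W ⟶ U),
        IsPullback v ((yon S).map w) q g := ⟨_, _, _, hq.1.isPullback g⟩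
    exact ⟨W, w, v, hq.2 g _ _ hW, hqs.2 g _ _ hW, hW.w, hW.flip⟩

/-- A square of spaces over a space with an etale chart on which it is a pushout, whose kernel pair is
separated by the two parts, has the universal property of a pushout. -/
theorem existsUnique_desc_of_chart {W WX' WY WX : Sp S} (hW : IsAlgSpace W) (hWX' : IsAlgSpace WX')
    (hWY : IsAlgSpace WY) {aX : WX' ⟶ W} {aY : WY ⟶ W} {cX : WX ⟶ WX'} {cY : WX ⟶ WY}
    {V' P Q : Over S} {p : (yon S).obj V' ⟶ W} (hp : RepWith @Etale p) (hps : RepWith @Surjective p)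
    {iP : P ⟶ V'} {qP : (yon S).obj P ⟶ WX'} (hP : IsPullback ((yon S).map iP) qP p aX)
    {iQ : Q ⟶ V'} {qQ : (yon S).obj Q ⟶ WY} (hQ : IsPullback ((yon S).map iQ) qQ p aY)
    {R RP RQ : Over S} {r₁ r₂ : R ⟶ V'} (hR : IsPullback ((yon S).map r₁) ((yon S).map r₂) p p)
    {jP : RP ⟶ R} {eP : (yon S).obj RP ⟶ WX'} (heP : eP ≫ aX = (yon S).map (jP ≫ r₁) ≫ p)
    {jQ : RQ ⟶ R} {eQ : (yon S).obj RQ ⟶ WY} (heQ : eQ ≫ aY = (yon S).map (jQ ≫ r₁) ≫ p)
    {T : Sp S}
    (H : ∀ (y : WX' ⟶ T) (z : WY ⟶ T), cX ≫ y = cY ≫ z →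
      ∃! d : (yon S).obj V' ⟶ T, (yon S).map iP ≫ d = qP ≫ y ∧ (yon S).map iQ ≫ d = qQ ≫ z)
    (H' : ∀ d₁ d₂ : (yon S).obj R ⟶ T, (yon S).map jP ≫ d₁ = (yon S).map jP ≫ d₂ →
      (yon S).map jQ ≫ d₁ = (yon S).map jQ ≫ d₂ → d₁ = d₂)
    (y : WX' ⟶ T) (z : WY ⟶ T) (e : cX ≫ y = cY ≫ z) :
    ∃! m : W ⟶ T, aX ≫ m = y ∧ aY ≫ m = z := by
  obtain ⟨d, ⟨hdP, hdQ⟩, hu⟩ := H y z e
  have hfl : ∀ _ : PUnit.{u + 1}, LocP @Flat p := fun _ =>
    locP_of_repWith (repWith_mono (fun _ _ g (hg : Etale g) => (inferInstance : Flat g)) hp)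
  have hfp : ∀ _ : PUnit.{u + 1}, LocP @LocallyOfFinitePresentation p := fun _ =>
    locP_of_repWith (repWith_mono (fun _ _ g (hg : Etale g) => (inferInstance : LocallyOfFinitePresentation g)) hp)
  have hs : ∀ x : Points W, ∃ _k : PUnit.{u + 1}, x ∈ Set.range (Points.map p) := fun x => by
    obtain ⟨v, rfl⟩ := surjective_ofPt hps x
    exact ⟨⟨⟩, Points.ofPt (𝟙 _) v, by rw [Points.map_ofPt, Category.id_comp]⟩
  -- points of the two parts
  have ptP : ∀ {T₁ : Over S} (ρ : T₁ ⟶ V') (x : (yon S).obj T₁ ⟶ WX'), x ≫ aX = (yon S).map ρ ≫ p →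
      (yon S).map ρ ≫ d = x ≫ y := fun {T₁} ρ x hx => by
    rw [← hP.lift_fst ((yon S).map ρ) x hx.symm, Category.assoc, hdP, hP.lift_snd_assoc]
  have ptQ : ∀ {T₁ : Over S} (ρ : T₁ ⟶ V') (x : (yon S).obj T₁ ⟶ WY), x ≫ aY = (yon S).map ρ ≫ p →
      (yon S).map ρ ≫ d = x ≫ z := fun {T₁} ρ x hx => by
    rw [← hQ.lift_fst ((yon S).map ρ) x hx.symm, Category.assoc, hdQ, hQ.lift_snd_assoc]
  have hrel : (yon S).map r₁ ≫ d = (yon S).map r₂ ≫ d := by
    refine H' _ _ ?_ ?_
    · rw [← Functor.map_comp_assoc, ← Functor.map_comp_assoc, ptP _ eP heP, ptP _ eP]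
      rw [heP, Functor.map_comp, Functor.map_comp, Category.assoc, Category.assoc, hR.w]
    · rw [← Functor.map_comp_assoc, ← Functor.map_comp_assoc, ptQ _ eQ heQ, ptQ _ eQ]
      rw [heQ, Functor.map_comp, Functor.map_comp, Category.assoc, Category.assoc, hR.w]
  obtain ⟨m, hm, hmu⟩ := existsUnique_hom_of_family (U := fun _ : PUnit.{u + 1} => (yon S).obj V')
    (a := fun _ => p) hW (fun _ => IsAlgSpace.yon_obj V') hfl hfp hs (fun _ => d) (fun _ _ P₀ pk pl sq => by
      obtain ⟨l, l₁, l₂⟩ := hR.exists_lift pk pl sq.w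
      rw [← l₁, ← l₂, Category.assoc, Category.assoc, hrel])
  have hm' : p ≫ m = d := hm ⟨⟩
  refine ⟨m, ⟨?_, ?_⟩, fun m' hm₁ => hmu m' fun _ => hu _ ⟨?_, ?_⟩⟩
  · refine epi_cancel (repWith_of_isPullback hP hp) (repWith_of_isPullback hP hps) ?_
    rw [← Category.assoc, ← hP.w, Category.assoc, hm', hdP]
  · refine epi_cancel (repWith_of_isPullback hQ hp) (repWith_of_isPullback hQ hps) ?_
    rw [← Category.assoc, ← hQ.w, Category.assoc, hm', hdQ]
  · rw [← Category.assoc, hP.w, Category.assoc, hm₁.1]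
  · rw [← Category.assoc, hQ.w, Category.assoc, hm₁.2]

end Groth.Agent.ASpColim
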