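import Groth.Agent.ASpColim.ThickDesc
import Groth.Agent.ASpColim.PushoutThick
import Groth.Agent.FerrandPush.MorProps
import Groth.Agent.ASp.EqvQuot
import Groth.Agent.ASp.AffMor
import Groth.Agent.ASp.ThickTop
import Groth.Agent.ASp.BaseDesc
import Groth.Agent.S10586
import Groth.Agent.S10605
/-!
Pushouts of algebraic spaces along thickenings and affine morphisms.
-/

set_option autoImplicit false
set_option backward.isDefEq.respectTransparency false
set_option backward.isDefEq.respectTransparency.types false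

universe u

open CategoryTheory CategoryTheory.Limits AlgebraicGeometry

noncomputable section

namespace Groth.Agent.ASpColim

open _root_.AlgSp Groth.Agent.ASp

variable {S : Scheme.{u}}

/-- An etale chart on which a square of algebraic spaces is a pushout of schemes. -/
structure PushChart {X X' Y Y' : AlgSp.Space S} (t : X ⟶ X') (f : X ⟶ Y) (f' : X' ⟶ Y') (t' : Y ⟶ Y') where
  V' : Over S
  U' : Over S
  V : Over S
  U : Over S
  p : (yon S).obj V' ⟶ Y'.obj
  q' : (yon S).obj U' ⟶ X'.obj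
  q : (yon S).obj V ⟶ Y.obj
  qX : (yon S).obj U ⟶ X.obj
  iU' : U' ⟶ V'
  iV : V ⟶ V'
  uU' : U ⟶ U'
  uV : U ⟶ V
  etale : RepWith @Etale p
  surjective : RepWith @Surjective p
  sqU' : IsPullback ((yon S).map iU') q' p f'.hom
  sqV : IsPullback ((yon S).map iV) q p t'.hom
  sqX' : IsPullback ((yon S).map uU') qX q' t.hom
  sqY : IsPullback ((yon S).map uV) qX q f.hom
  closed : IsClosedImmersion uU'.left
  surj : Surjective uU'.left
  affine : IsAffineHom uV.left
  isPushout : IsPushout uU' uV iU' iV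

/-- Pushouts along thickenings exist over a fixed base scheme. -/
theorem exists_pushout_over {Z A B : Over S} (t : Z ⟶ A) (a : Z ⟶ B) [IsClosedImmersion t.left]
    [Surjective t.left] [IsAffineHom a.left] :
    ∃ (P : Over S) (iA : A ⟶ P) (iB : B ⟶ P), IsPushout t a iA iB := by
  obtain ⟨P, f', b, hP, -, -, -⟩ := Groth.Agent.S0431.result t.left t.left.surjective a.left
  have e : t.left ≫ A.hom = a.left ≫ B.hom := by rw [Over.w, Over.w]
  refine ⟨Over.mk (hP.desc A.hom B.hom e), Over.homMk f' (hP.inl_desc _ _ _),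
    Over.homMk b (hP.inr_desc _ _ _), IsPushout.of_map (Over.forget S) (Over.OverMorphism.ext hP.w) hP⟩

/-- A map surjective after restriction along a thickening is surjective. -/
theorem repWith_surjective_of_thick {A B A₀ B₀ : Sp S} {q : A ⟶ B} {q₀ : A₀ ⟶ B₀} {t : B₀ ⟶ B} {u : A₀ ⟶ A}
    (hq : Representable q) (ht : IsThickMor t) (w : u ≫ q = q₀ ≫ t) (h₀ : RepWith @Surjective q₀) :
    RepWith @Surjective q := by
  refine ⟨hq, fun T P g fst snd sq => ⟨fun z => ?_⟩⟩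
  obtain ⟨T₀, gT, c, hT⟩ : ∃ (T₀ : Over S) (gT : (yon S).obj T₀ ⟶ B₀) (c : T₀ ⟶ T),
      IsPullback gT ((yon S).map c) t g := ⟨_, _, _, ht.1.isPullback g⟩
  have hcs : Surjective c.left := (ht.2 g _ _ hT).2
  obtain ⟨z₁, rfl⟩ := hcs.surj z
  obtain ⟨P₀, fst₀, snd₀, hP₀⟩ : ∃ (P₀ : Over S) (fst₀ : (yon S).obj P₀ ⟶ A₀) (snd₀ : P₀ ⟶ T₀),
      IsPullback fst₀ ((yon S).map snd₀) q₀ gT := ⟨_, _, _, h₀.1.isPullback gT⟩
  obtain ⟨w₀, rfl⟩ := (h₀.2 gT _ _ hP₀).surj z₁
  obtain ⟨l, hl⟩ := (yon S).map_surjective (sq.lift (fst₀ ≫ u) ((yon S).map (snd₀ ≫ c)) (by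
    rw [Category.assoc, w, ← Category.assoc, hP₀.w, Functor.map_comp, Category.assoc, Category.assoc, hT.w]))
  have : l ≫ snd = snd₀ ≫ c := (yon S).map_injective (by rw [Functor.map_comp, hl, sq.lift_snd])
  refine ⟨l.left w₀, ?_⟩
  show snd.left (l.left w₀) = c.left (snd₀.left w₀)
  rw [← Scheme.Hom.comp_apply, ← Over.comp_left, this]
  rfl

/-- Kernel pairs of a base change. -/
theorem isPullback_kernel {A B U V R W : Sp S} {q : V ⟶ B} {q₀ : U ⟶ A} {f : A ⟶ B} {u : U ⟶ V}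
    (hU : IsPullback u q₀ q f) {r₁ r₂ : R ⟶ V} (hR : IsPullback r₁ r₂ q q) {b₁ b₂ : W ⟶ U}
    (hW : IsPullback b₁ b₂ q₀ q₀) {j : W ⟶ R} (e₁ : j ≫ r₁ = b₁ ≫ u) (e₂ : j ≫ r₂ = b₂ ≫ u) :
    IsPullback j b₂ r₂ u := by
  have h := hW.paste_horiz hU
  rw [← hU.w, ← e₁] at h
  exact IsPullback.of_right h e₂ hR

/-- The composition on one part of a glued relation. -/
theorem exists_comp_part {F : Sp S} {V' U R RU P : Over S} {s₁ s₂ : R ⟶ V'} {i : U ⟶ V'} {k : RU ⟶ R}
    {a₁ a₂ : RU ⟶ U} {q : (yon S).obj U ⟶ F} (hRU : IsPullback ((yon S).map a₁) ((yon S).map a₂) q q)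
    (L₁ : IsPullback k a₁ s₁ i) (L₂ : IsPullback k a₂ s₂ i) (φ ψ : P ⟶ R) (π : P ⟶ U)
    (e : φ ≫ s₂ = π ≫ i) (e' : ψ ≫ s₁ = π ≫ i) :
    ∃ c : P ⟶ RU, (c ≫ k) ≫ s₁ = φ ≫ s₁ ∧ (c ≫ k) ≫ s₂ = ψ ≫ s₂ := by
  obtain ⟨ρ₁, h₁, h₁'⟩ := L₂.exists_lift φ π e
  obtain ⟨ρ₂, h₂, h₂'⟩ := L₁.exists_lift ψ π e'
  obtain ⟨c, hc⟩ := (yon S).map_surjective (hRU.lift ((yon S).map (ρ₁ ≫ a₁)) ((yon S).map (ρ₂ ≫ a₂)) (by
    rw [Functor.map_comp, Category.assoc, hRU.w, ← Functor.map_comp_assoc, h₁', ← h₂', Functor.map_comp_assoc,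
      hRU.w, ← Functor.map_comp_assoc]))
  have hc₁ : c ≫ a₁ = ρ₁ ≫ a₁ := (yon S).map_injective (by rw [Functor.map_comp, hc, hRU.lift_fst])
  have hc₂ : c ≫ a₂ = ρ₂ ≫ a₂ := (yon S).map_injective (by rw [Functor.map_comp, hc, hRU.lift_snd])
  refine ⟨c, ?_, ?_⟩
  · rw [Category.assoc, L₁.w, reassoc_of% hc₁, ← L₁.w, reassoc_of% h₁]
  · rw [Category.assoc, L₂.w, reassoc_of% hc₂, ← L₂.w, reassoc_of% h₂]

/-- Maps out of a space with an etale chart descend. -/
theorem exists_desc_kernel {A F : Sp S} (hA : IsAlgSpace A) {B R : Over S} {p : (yon S).obj B ⟶ A}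
    (hp : RepWith @Etale p) (hps : RepWith @Surjective p) {r₁ r₂ : R ⟶ B}
    (hR : IsPullback ((yon S).map r₁) ((yon S).map r₂) p p) (g : (yon S).obj B ⟶ F)
    (hg : (yon S).map r₁ ≫ g = (yon S).map r₂ ≫ g) : ∃ m : A ⟶ F, p ≫ m = g := by
  obtain ⟨m, hm, -⟩ := existsUnique_hom_of_family (U := fun _ : PUnit.{u + 1} => (yon S).obj B)
    (a := fun _ => p) hA (fun _ => IsAlgSpace.yon_obj B)
    (fun _ => locP_of_repWith (repWith_mono (fun _ _ k (hk : Etale k) => (inferInstance : Flat k)) hp))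
    (fun _ => locP_of_repWith
      (repWith_mono (fun _ _ k (hk : Etale k) => (inferInstance : LocallyOfFinitePresentation k)) hp))
    (fun x => ⟨⟨⟩, surjective_map_of_repWith hps x⟩) (fun _ => g) (fun _ _ P pk pl sq => by
      obtain ⟨l, l₁, l₂⟩ := hR.exists_lift pk pl sq.w
      rw [← l₁, ← l₂, Category.assoc, Category.assoc, hg])
  exact ⟨m, hm ⟨⟩⟩

/-- A glued pair of maps is a monomorphism into the product. -/
theorem glued_pair_injective {F : Sp S} {V' V R' R : Over S} {s₁ s₂ : R' ⟶ V'} [Etale s₁.left] [Etale s₂.left]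
    {i : V ⟶ V'} [IsClosedImmersion i.left] {k : R ⟶ R'} [Surjective k.left] {r₁ r₂ : R ⟶ V}
    {q : (yon S).obj V ⟶ F} (hR : IsPullback ((yon S).map r₁) ((yon S).map r₂) q q)
    (e₁ : k ≫ s₁ = r₁ ≫ i) (e₂ : k ≫ s₂ = r₂ ≫ i) {T : Over S} {ρ ρ' : T ⟶ R'}
    (h₁ : ρ ≫ s₁ = ρ' ≫ s₁) (h₂ : ρ ≫ s₂ = ρ' ≫ s₂) : ρ = ρ' := by
  let M : R'.left ⟶ pullback V'.hom V'.hom := pullback.lift s₁.left s₂.left (by rw [Over.w, Over.w])
  haveI : LocallyOfFiniteType (M ≫ pullback.fst V'.hom V'.hom) := by rw [pullback.lift_fst]; infer_instance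
  haveI : FormallyUnramified (M ≫ pullback.fst V'.hom V'.hom) := by rw [pullback.lift_fst]; infer_instance
  haveI : LocallyOfFiniteType M := locallyOfFiniteType_of_comp M (pullback.fst V'.hom V'.hom)
  haveI : FormallyUnramified M := FormallyUnramified.of_comp M (pullback.fst V'.hom V'.hom)
  haveI : Mono (k.left ≫ M) := ⟨fun {Z} g g' hg => by
    have a1 : g ≫ r₁.left ≫ i.left = g' ≫ r₁.left ≫ i.left := by
      rw [← Over.comp_left, ← e₁]
      simpa [M] using congrArg (· ≫ pullback.fst V'.hom V'.hom) hg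
    have a2 : g ≫ r₂.left ≫ i.left = g' ≫ r₂.left ≫ i.left := by
      rw [← Over.comp_left, ← e₂]
      simpa [M] using congrArg (· ≫ pullback.snd V'.hom V'.hom) hg
    rw [← Category.assoc, ← Category.assoc, cancel_mono] at a1 a2
    have hS : g ≫ R.hom = g' ≫ R.hom := by rw [← Over.w r₁, reassoc_of% a1]
    let G : Over.mk (g ≫ R.hom) ⟶ R := Over.homMk g rfl
    let G' : Over.mk (g ≫ R.hom) ⟶ R := Over.homMk g' hS.symm
    have e : (yon S).map G = (yon S).map G' := by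
      apply hR.hom_ext
      · rw [← Functor.map_comp, ← Functor.map_comp]
        exact congrArg _ (Over.OverMorphism.ext a1)
      · rw [← Functor.map_comp, ← Functor.map_comp]
        exact congrArg _ (Over.OverMorphism.ext a2)
    exact congrArg CommaMorphism.left ((yon S).map_injective e)⟩
  haveI : UniversallyInjective (k.left ≫ M) := inferInstance
  haveI := univInjective_of_surjective_comp k.left M
  haveI := mono_of_unramified_univInjective M
  refine Over.OverMorphism.ext ((cancel_mono M).1 ?_)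
  apply pullback.hom_ext
  · simpa [M] using congrArg CommaMorphism.left h₁
  · simpa [M] using congrArg CommaMorphism.left h₂

/-- Pushouts along thickenings and affine morphisms exist among algebraic spaces, with charts. -/
theorem exists_pushout_chart {X X' Y : AlgSp.Space S} (t : X ⟶ X') (ht : IsThickMor t.hom) (f : X ⟶ Y)
    (hf : IsAffineMor f.hom) :
    ∃ (Y' : AlgSp.Space S) (f' : X' ⟶ Y') (t' : Y ⟶ Y'),
      IsPushout t f f' t' ∧ IsThickMor t'.hom ∧ Nonempty (PushChart t f f' t') := by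
  have hfA := repWith_isAffineHom_of_isAffineMor X.property Y.property hf
  obtain ⟨V, q, hqe, hqs⟩ := Y.property.atlas
  -- restriction to `X` and its lift to `X'`
  obtain ⟨U₀, qX₀, uV₀, hU₀⟩ : ∃ (U : Over S) (qX : (yon S).obj U ⟶ X.obj) (uV : U ⟶ V),
      IsPullback qX ((yon S).map uV) f.hom q := ⟨_, _, _, hfA.1.isPullback q⟩
  have hqX₀ : RepWith @Etale qX₀ := repWith_of_isPullback hU₀.flip hqe
  have hqX₀s : RepWith @Surjective qX₀ := repWith_of_isPullback hU₀.flip hqs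
  haveI : IsAffineHom uV₀.left := hfA.2 q _ _ hU₀
  haveI := Groth.Agent.S10586.result t ht
  let E' := (EtOver.bc ht.1).objPreimage (EtOver.mk qX₀ hqX₀)
  let eI := (EtOver.bc ht.1).objObjPreimageIso (EtOver.mk qX₀ hqX₀)
  obtain ⟨U', q', hq'e, U, qX, uU', sqX', φ, hφ⟩ :
      ∃ (U' : Over S) (q' : (yon S).obj U' ⟶ X'.obj) (_ : RepWith @Etale q') (U : Over S)
        (qX : (yon S).obj U ⟶ X.obj) (uU' : U ⟶ U') (_ : IsPullback ((yon S).map uU') qX q' t.hom)
        (φ : U ≅ U₀), (yon S).map φ.hom ≫ qX₀ = qX :=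
    ⟨E'.obj.left, E'.obj.hom, E'.property, (EtOver.bcObj ht.1 E').obj.left, (EtOver.bcObj ht.1 E').obj.hom,
      EtOver.bcπ ht.1 E', (EtOver.isPullback_bcObj ht.1 E').flip.of_iso (Iso.refl _) (Iso.refl _)
      (Iso.refl _) (Iso.refl _) (by simp) (by simp) (by simp) (by simp),
      ⟨eI.hom.hom.left, eI.inv.hom.left,
        by rw [← CostructuredArrow.comp_left]; exact congrArg (fun k => k.hom.left) eI.hom_inv_id,
        by rw [← CostructuredArrow.comp_left]; exact congrArg (fun k => k.hom.left) eI.inv_hom_id⟩,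
      EtOver.w eI.hom⟩
  haveI : IsAffineHom φ.hom.left := inferInstance
  obtain ⟨uV, _, sqY⟩ : ∃ uV : U ⟶ V, IsAffineHom uV.left ∧ IsPullback ((yon S).map uV) qX q f.hom := by
    refine ⟨φ.hom ≫ uV₀, by rw [Over.comp_left]; infer_instance, ?_⟩
    refine hU₀.flip.of_iso ((yon S).mapIso φ).symm (Iso.refl _) (Iso.refl _) (Iso.refl _) ?_ ?_ (by simp) (by simp)
    · simp
    · simp [← hφ]
  have hqXs : RepWith @Surjective qX := repWith_of_isPullback sqY hqs
  have hqXe : RepWith @Etale qX := repWith_of_isPullback sqY hqe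
  have hq's : RepWith @Surjective q' := repWith_surjective_of_thick hq'e.1 ht sqX'.w hqXs
  obtain ⟨_, _⟩ : thick uU'.left := (isThickMor_yon_map_iff _).1 (isThickMor_of_isPullback sqX'.flip ht)
  obtain ⟨V', iU', iV, hpo⟩ := exists_pushout_over uU' uV
  have hP : IsPushout uU'.left uV.left iU'.left iV.left := hpo.map (Over.forget S)
  obtain ⟨-, _, _, _⟩ := pushout_thickening_props hP
  -- kernel pairs
  obtain ⟨R, r₁, r₂, hR⟩ := exists_isPullback_yon hqe.1 q
  obtain ⟨RU, a₁, a₂, hRU⟩ := exists_isPullback_yon hq'e.1 q'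
  obtain ⟨RX, b₁, b₂, hRX⟩ := exists_isPullback_yon hqXe.1 qX
  obtain ⟨jR, hjR₁, hjR₂⟩ : ∃ j : RX ⟶ R, j ≫ r₁ = b₁ ≫ uV ∧ j ≫ r₂ = b₂ ≫ uV := by
    obtain ⟨j, hj⟩ := (yon S).map_surjective (hR.lift ((yon S).map (b₁ ≫ uV)) ((yon S).map (b₂ ≫ uV)) (by
      rw [Functor.map_comp, Functor.map_comp, Category.assoc, Category.assoc, sqY.w, reassoc_of% hRX.w]))
    exact ⟨j, (yon S).map_injective (by rw [Functor.map_comp, hj, hR.lift_fst]),
      (yon S).map_injective (by rw [Functor.map_comp, hj, hR.lift_snd])⟩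
  obtain ⟨jX, hjX₁, hjX₂⟩ : ∃ j : RX ⟶ RU, j ≫ a₁ = b₁ ≫ uU' ∧ j ≫ a₂ = b₂ ≫ uU' := by
    obtain ⟨j, hj⟩ := (yon S).map_surjective (hRU.lift ((yon S).map (b₁ ≫ uU')) ((yon S).map (b₂ ≫ uU')) (by
      rw [Functor.map_comp, Functor.map_comp, Category.assoc, Category.assoc, sqX'.w, reassoc_of% hRX.w]))
    exact ⟨j, (yon S).map_injective (by rw [Functor.map_comp, hj, hRU.lift_fst]),
      (yon S).map_injective (by rw [Functor.map_comp, hj, hRU.lift_snd])⟩
  have kR₂ : IsPullback jR b₂ r₂ uV := isPullback_of_yon_map (isPullback_kernel sqY hR hRX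
    (by rw [← Functor.map_comp, hjR₁, Functor.map_comp]) (by rw [← Functor.map_comp, hjR₂, Functor.map_comp]))
  have kR₁ : IsPullback jR b₁ r₁ uV := isPullback_of_yon_map (isPullback_kernel sqY hR.flip hRX.flip
    (by rw [← Functor.map_comp, hjR₂, Functor.map_comp]) (by rw [← Functor.map_comp, hjR₁, Functor.map_comp]))
  have kX₂ : IsPullback jX b₂ a₂ uU' := isPullback_of_yon_map (isPullback_kernel sqX' hRU hRX
    (by rw [← Functor.map_comp, hjX₁, Functor.map_comp]) (by rw [← Functor.map_comp, hjX₂, Functor.map_comp]))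
  have kX₁ : IsPullback jX b₁ a₁ uU' := isPullback_of_yon_map (isPullback_kernel sqX' hRU.flip hRX.flip
    (by rw [← Functor.map_comp, hjX₂, Functor.map_comp]) (by rw [← Functor.map_comp, hjX₁, Functor.map_comp]))
  haveI : IsClosedImmersion jX.left :=
    MorphismProperty.of_isPullback (P := @IsClosedImmersion) (isPullback_left kX₁).flip ‹_›
  haveI : Surjective jX.left :=
    MorphismProperty.of_isPullback (P := @Surjective) (isPullback_left kX₁).flip ‹_›
  haveI : IsAffineHom jR.left :=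
    MorphismProperty.of_isPullback (P := @IsAffineHom) (isPullback_left kR₁).flip ‹_›
  obtain ⟨R', kU, kV, hpo'⟩ := exists_pushout_over jX jR
  have hP' : IsPushout jX.left jR.left kU.left kV.left := hpo'.map (Over.forget S)
  obtain ⟨-, _, _, _⟩ := pushout_thickening_props hP'
  obtain ⟨s₁, hs₁U, hs₁V⟩ : ∃ s : R' ⟶ V', kU ≫ s = a₁ ≫ iU' ∧ kV ≫ s = r₁ ≫ iV :=
    ⟨hpo'.desc _ _ (by rw [reassoc_of% hjX₁, hpo.w, reassoc_of% hjR₁]), hpo'.inl_desc _ _ _, hpo'.inr_desc _ _ _⟩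
  obtain ⟨s₂, hs₂U, hs₂V⟩ : ∃ s : R' ⟶ V', kU ≫ s = a₂ ≫ iU' ∧ kV ≫ s = r₂ ≫ iV :=
    ⟨hpo'.desc _ _ (by rw [reassoc_of% hjX₂, hpo.w, reassoc_of% hjR₂]), hpo'.inl_desc _ _ _, hpo'.inr_desc _ _ _⟩
  haveI : Etale a₁.left := etale_snd hq'e hRU.flip
  haveI : Etale a₂.left := etale_snd hq'e hRU
  haveI : Etale r₁.left := etale_snd hqe hR.flip
  haveI : Etale r₂.left := etale_snd hqe hR
  have hs₁ : Etale s₁.left := FerrandPush.etale_pushoutMap (P' := R'.left) hP (isPullback_left kX₁)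
    (isPullback_left kR₁) hP' (congrArg CommaMorphism.left hs₁U) (congrArg CommaMorphism.left hs₁V)
  have hs₂ : Etale s₂.left := FerrandPush.etale_pushoutMap (P' := R'.left) hP (isPullback_left kX₂)
    (isPullback_left kR₂) hP' (congrArg CommaMorphism.left hs₂U) (congrArg CommaMorphism.left hs₂V)
  have lU₁ : IsPullback kU a₁ s₁ iU' := IsPullback.of_map (Over.forget S) hs₁U
    (FerrandPush.isPullback_legA (P' := R'.left) hP (isPullback_left kX₁) (isPullback_left kR₁) hP'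
      (congrArg CommaMorphism.left hs₁U) (congrArg CommaMorphism.left hs₁V))
  have lV₁ : IsPullback kV r₁ s₁ iV := IsPullback.of_map (Over.forget S) hs₁V
    (FerrandPush.isPullback_legB (P' := R'.left) hP (isPullback_left kX₁) (isPullback_left kR₁) hP'
      (congrArg CommaMorphism.left hs₁U) (congrArg CommaMorphism.left hs₁V))
  have lU₂ : IsPullback kU a₂ s₂ iU' := IsPullback.of_map (Over.forget S) hs₂U
    (FerrandPush.isPullback_legA (P' := R'.left) hP (isPullback_left kX₂) (isPullback_left kR₂) hP'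
      (congrArg CommaMorphism.left hs₂U) (congrArg CommaMorphism.left hs₂V))
  have lV₂ : IsPullback kV r₂ s₂ iV := IsPullback.of_map (Over.forget S) hs₂V
    (FerrandPush.isPullback_legB (P' := R'.left) hP (isPullback_left kX₂) (isPullback_left kR₂) hP'
      (congrArg CommaMorphism.left hs₂U) (congrArg CommaMorphism.left hs₂V))
  have inj : ∀ {T : Over S} {ρ ρ' : T ⟶ R'}, ρ ≫ s₁ = ρ' ≫ s₁ → ρ ≫ s₂ = ρ' ≫ s₂ → ρ = ρ' :=
    fun h₁ h₂ => glued_pair_injective hR hs₁V hs₂V h₁ h₂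
  -- identity
  obtain ⟨e₀, he₁, he₂⟩ : ∃ e : V' ⟶ R', e ≫ s₁ = 𝟙 V' ∧ e ≫ s₂ = 𝟙 V' := by
    obtain ⟨δU, hδU⟩ := (yon S).map_surjective (hRU.lift (𝟙 _) (𝟙 _) rfl)
    obtain ⟨δV, hδV⟩ := (yon S).map_surjective (hR.lift (𝟙 _) (𝟙 _) rfl)
    have u₁ : δU ≫ a₁ = 𝟙 U' := (yon S).map_injective (by
      rw [Functor.map_comp, hδU, hRU.lift_fst, CategoryTheory.Functor.map_id])
    have u₂ : δU ≫ a₂ = 𝟙 U' := (yon S).map_injective (by
      rw [Functor.map_comp, hδU, hRU.lift_snd, CategoryTheory.Functor.map_id])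
    have v₁ : δV ≫ r₁ = 𝟙 V := (yon S).map_injective (by
      rw [Functor.map_comp, hδV, hR.lift_fst, CategoryTheory.Functor.map_id])
    have v₂ : δV ≫ r₂ = 𝟙 V := (yon S).map_injective (by
      rw [Functor.map_comp, hδV, hR.lift_snd, CategoryTheory.Functor.map_id])
    have U₁ : (δU ≫ kU) ≫ s₁ = iU' := by rw [Category.assoc, hs₁U, reassoc_of% u₁]
    have U₂ : (δU ≫ kU) ≫ s₂ = iU' := by rw [Category.assoc, hs₂U, reassoc_of% u₂]
    have V₁ : (δV ≫ kV) ≫ s₁ = iV := by rw [Category.assoc, hs₁V, reassoc_of% v₁]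
    have V₂ : (δV ≫ kV) ≫ s₂ = iV := by rw [Category.assoc, hs₂V, reassoc_of% v₂]
    refine ⟨hpo.desc (δU ≫ kU) (δV ≫ kV) (inj ?_ ?_), hpo.hom_ext ?_ ?_, hpo.hom_ext ?_ ?_⟩
    · simp only [Category.assoc] at U₁ V₁ ⊢
      rw [U₁, V₁, hpo.w]
    · simp only [Category.assoc] at U₂ V₂ ⊢
      rw [U₂, V₂, hpo.w]
    · rw [hpo.inl_desc_assoc, U₁, Category.comp_id]
    · rw [hpo.inr_desc_assoc, V₁, Category.comp_id]
    · rw [hpo.inl_desc_assoc, U₂, Category.comp_id]
    · rw [hpo.inr_desc_assoc, V₂, Category.comp_id]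
  -- inverse
  obtain ⟨σ, hσ₁, hσ₂⟩ : ∃ σ : R' ⟶ R', σ ≫ s₁ = s₂ ∧ σ ≫ s₂ = s₁ := by
    obtain ⟨σU, hσU⟩ := (yon S).map_surjective (hRU.lift ((yon S).map a₂) ((yon S).map a₁) hRU.w.symm)
    obtain ⟨σV, hσV⟩ := (yon S).map_surjective (hR.lift ((yon S).map r₂) ((yon S).map r₁) hR.w.symm)
    have u₁ : σU ≫ a₁ = a₂ := (yon S).map_injective (by rw [Functor.map_comp, hσU, hRU.lift_fst])
    have u₂ : σU ≫ a₂ = a₁ := (yon S).map_injective (by rw [Functor.map_comp, hσU, hRU.lift_snd])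
    have v₁ : σV ≫ r₁ = r₂ := (yon S).map_injective (by rw [Functor.map_comp, hσV, hR.lift_fst])
    have v₂ : σV ≫ r₂ = r₁ := (yon S).map_injective (by rw [Functor.map_comp, hσV, hR.lift_snd])
    have U₁ : σU ≫ kU ≫ s₁ = kU ≫ s₂ := by rw [hs₁U, reassoc_of% u₁, hs₂U]
    have U₂ : σU ≫ kU ≫ s₂ = kU ≫ s₁ := by rw [hs₂U, reassoc_of% u₂, hs₁U]
    have V₁ : σV ≫ kV ≫ s₁ = kV ≫ s₂ := by rw [hs₁V, reassoc_of% v₁, hs₂V]
    have V₂ : σV ≫ kV ≫ s₂ = kV ≫ s₁ := by rw [hs₂V, reassoc_of% v₂, hs₁V]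
    refine ⟨hpo'.desc (σU ≫ kU) (σV ≫ kV) (inj ?_ ?_), hpo'.hom_ext ?_ ?_, hpo'.hom_ext ?_ ?_⟩
    · simp only [Category.assoc]
      rw [U₁, V₁, reassoc_of% hpo'.w]
    · simp only [Category.assoc]
      rw [U₂, V₂, reassoc_of% hpo'.w]
    · rw [hpo'.inl_desc_assoc, Category.assoc, U₁]
    · rw [hpo'.inr_desc_assoc, Category.assoc, V₁]
    · rw [hpo'.inl_desc_assoc, Category.assoc, U₂]
    · rw [hpo'.inr_desc_assoc, Category.assoc, V₂]
  -- composition
  obtain ⟨comp, hcomp₁, hcomp₂⟩ : ∃ c : pullback s₂ s₁ ⟶ R',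
      c ≫ s₁ = pullback.fst s₂ s₁ ≫ s₁ ∧ c ≫ s₂ = pullback.snd s₂ s₁ ≫ s₂ := by
    let w := pullback.fst s₂ s₁ ≫ s₂
    haveI : Etale (pullback.fst s₂ s₁).left := MorphismProperty.of_isPullback (P := @Etale)
      (isPullback_left (IsPullback.of_hasPullback s₂ s₁)).flip hs₁
    haveI : Etale w.left := by rw [Over.comp_left]; infer_instance
    let PU := pullback w iU'
    let PV := pullback w iV
    let PX := pullback (pullback.snd w iU') uU'
    let jT : PX ⟶ PV := pullback.lift (pullback.fst _ _ ≫ pullback.fst w iU') (pullback.snd _ _ ≫ uV) (by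
      rw [Category.assoc, Category.assoc, pullback.condition, pullback.condition_assoc, hpo.w])
    have hbc : IsPushout (pullback.fst (pullback.snd w iU') uU') jT (pullback.fst w iU') (pullback.fst w iV) := by
      refine IsPushout.of_map (Over.forget S) (pullback.lift_fst _ _ _).symm ?_
      exact FerrandPush.isPushout_baseChange hP (𝟙 V'.left) w.left (.inl inferInstance)
        (sPT := 𝟙 _) (IsPullback.of_vert_isIso ⟨by simp⟩)
        (isPullback_left (IsPullback.of_hasPullback w iU')).flip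
        (isPullback_left (IsPullback.of_hasPullback w iV)).flip
        (isPullback_left (IsPullback.of_hasPullback (pullback.snd w iU') uU')).flip
        (congrArg CommaMorphism.left
          (show jT ≫ pullback.snd w iV = pullback.snd (pullback.snd w iU') uU' ≫ uV from pullback.lift_snd _ _ _))
        (congrArg CommaMorphism.left (show jT ≫ pullback.fst w iV =
          pullback.fst (pullback.snd w iU') uU' ≫ pullback.fst w iU' from pullback.lift_fst _ _ _))
    obtain ⟨cU, cU₁, cU₂⟩ := exists_comp_part hRU lU₁ lU₂ (pullback.fst w iU' ≫ pullback.fst s₂ s₁)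
      (pullback.fst w iU' ≫ pullback.snd s₂ s₁) (pullback.snd w iU')
      (by rw [Category.assoc]; exact pullback.condition)
      (by rw [Category.assoc, ← pullback.condition]; exact pullback.condition)
    obtain ⟨cV, cV₁, cV₂⟩ := exists_comp_part hR lV₁ lV₂ (pullback.fst w iV ≫ pullback.fst s₂ s₁)
      (pullback.fst w iV ≫ pullback.snd s₂ s₁) (pullback.snd w iV)
      (by rw [Category.assoc]; exact pullback.condition)
      (by rw [Category.assoc, ← pullback.condition]; exact pullback.condition)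
    simp only [Category.assoc] at cU₁ cU₂ cV₁ cV₂
    refine ⟨hbc.desc (cU ≫ kU) (cV ≫ kV) (inj ?_ ?_), hbc.hom_ext ?_ ?_, hbc.hom_ext ?_ ?_⟩
    · simp only [Category.assoc, cU₁, cV₁, jT, pullback.lift_fst_assoc]
    · simp only [Category.assoc, cU₂, cV₂, jT, pullback.lift_fst_assoc]
    · rw [hbc.inl_desc_assoc, Category.assoc, cU₁]
    · rw [hbc.inr_desc_assoc, Category.assoc, cV₁]
    · rw [hbc.inl_desc_assoc, Category.assoc, cU₂]
    · rw [hbc.inr_desc_assoc, Category.assoc, cV₂]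
  have hrel : IsEtaleEqvRel s₂ s₁ :=
    { injective := fun T r r' h₁ h₂ => inj h₁ h₂
      equivalence := fun T =>
        ⟨fun a => ⟨a ≫ e₀, by rw [Category.assoc, he₁, Category.comp_id],
            by rw [Category.assoc, he₂, Category.comp_id]⟩,
          fun ⟨r, h₁, h₂⟩ => ⟨r ≫ σ, by rw [Category.assoc, hσ₁, h₂], by rw [Category.assoc, hσ₂, h₁]⟩,
          fun ⟨r, h₁, h₂⟩ ⟨r', h₁', h₂'⟩ => ⟨pullback.lift r r' (h₂.trans h₁'.symm) ≫ comp,
            by rw [Category.assoc, hcomp₁, pullback.lift_fst_assoc, h₁],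
            by rw [Category.assoc, hcomp₂, pullback.lift_snd_assoc, h₂']⟩⟩
      etale_left := hs₂
      etale_right := hs₁ }
  have hY' := isAlgSpace_quot hrel
  obtain ⟨-, hpe, hps, hker⟩ := isPresentation_quot hrel
  generalize (QuotSh.repIsoUliftYoneda Scheme.fppfPrecoverage V').inv ≫
    QuotSh.quotπ Scheme.fppfPrecoverage s₂ s₁ = p at hpe hps hker
  have hker' : (yon S).map s₁ ≫ p = (yon S).map s₂ ≫ p := hker.w
  obtain ⟨tY, htY⟩ := exists_desc_kernel Y.property hqe hqs hR ((yon S).map iV ≫ p) (by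
    rw [← Functor.map_comp_assoc, ← Functor.map_comp_assoc, ← hs₁V, ← hs₂V, Functor.map_comp_assoc,
      Functor.map_comp_assoc, hker'])
  obtain ⟨fX, hfX⟩ := exists_desc_kernel X'.property hq'e hq's hRU ((yon S).map iU' ≫ p) (by
    rw [← Functor.map_comp_assoc, ← Functor.map_comp_assoc, ← hs₁U, ← hs₂U, Functor.map_comp_assoc,
      Functor.map_comp_assoc, hker'])
  have hcomm : t.hom ≫ fX = f.hom ≫ tY := by
    refine epi_cancel hqXe hqXs ?_
    rw [← reassoc_of% sqX'.w, hfX, ← reassoc_of% sqY.w, htY, ← Functor.map_comp_assoc, hpo.w,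
      Functor.map_comp_assoc]
  have sqU' : IsPullback ((yon S).map iU') q' p fX := by
    refine isPullback_of_descent hfX.symm hq'e hq's hRU ?_
    have h := (isPullback_yon_map lU₂).paste_horiz hker
    rw [hfX, ← Functor.map_comp, ← hs₁U, Functor.map_comp]
    exact h
  have sqV : IsPullback ((yon S).map iV) q p tY := by
    refine isPullback_of_descent htY.symm hqe hqs hR ?_
    have h := (isPullback_yon_map lV₂).paste_horiz hker
    rw [htY, ← Functor.map_comp, ← hs₁V, Functor.map_comp]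
    exact h
  let Y' : AlgSp.Space S := ⟨_, hY'⟩
  let f' : X' ⟶ Y' := ObjectProperty.homMk fX
  let t' : Y ⟶ Y' := ObjectProperty.homMk tY
  have hthick : IsThickMor t'.hom :=
    of_chart (Groth.Agent.S10605.result (S := S)) t' hpe hps sqV.flip
      ((isThickMor_yon_map_iff _).2 ⟨‹IsClosedImmersion iV.left›, ‹Surjective iV.left›⟩)
  refine ⟨Y', f', t', ⟨⟨InducedCategory.hom_ext hcomm⟩, ⟨PushoutCocone.isColimitAux' _ fun s => ?_⟩⟩,
    hthick, ⟨⟨V', U', V, U, p, q', q, qX, iU', iV, uU', uV, hpe, hps, sqU', sqV, sqX', sqY, ‹_›, ‹_›, ‹_›, hpo⟩⟩⟩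
  have R₀ := existsUnique_desc_of_chart hY' X'.property Y.property (aX := fX) (aY := tY) (cX := t.hom)
    (cY := f.hom) hpe hps sqU' sqV hker (jP := kU) (eP := (yon S).map a₁ ≫ q')
    (by rw [Category.assoc, hfX, ← Functor.map_comp_assoc, hs₁U]) (jQ := kV) (eQ := (yon S).map r₁ ≫ q)
    (by rw [Category.assoc, htY, ← Functor.map_comp_assoc, hs₁V]) (T := s.pt.obj)
    (fun y z e => nonempty_isColimit_pushout ⟨‹_›, ‹_›⟩ hpo s.pt.property (q' ≫ y) (q ≫ z) (by
      rw [reassoc_of% sqX'.w, reassoc_of% sqY.w, e]))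
    (fun d₁ d₂ hd hd' => by
      obtain ⟨d, -, hu⟩ := nonempty_isColimit_pushout ⟨‹_›, ‹_›⟩ hpo' s.pt.property ((yon S).map kU ≫ d₁)
        ((yon S).map kV ≫ d₁) (by rw [← Functor.map_comp_assoc, hpo'.w, Functor.map_comp_assoc])
      exact (hu d₁ ⟨rfl, rfl⟩).trans (hu d₂ ⟨hd.symm, hd'.symm⟩).symm)
    s.inl.hom s.inr.hom (congrArg InducedCategory.Hom.hom s.condition)
  choose d hd using R₀.exists
  refine ⟨ObjectProperty.homMk d, InducedCategory.hom_ext hd.1, InducedCategory.hom_ext hd.2, fun {m} h₁ h₂ => ?_⟩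
  exact InducedCategory.hom_ext (R₀.unique
    ⟨congrArg InducedCategory.Hom.hom h₁, congrArg InducedCategory.Hom.hom h₂⟩ hd)

end Groth.Agent.ASpColim
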