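import Groth.Agent.ASpColim.ThickPushProps
/-!
A space flat over a pushout along a thickening is the pushout of its restrictions.
-/

set_option autoImplicit false
set_option linter.style.haveILetI false
set_option backward.isDefEq.respectTransparency false
set_option backward.isDefEq.respectTransparency.types false

universe u

open CategoryTheory CategoryTheory.Limits AlgebraicGeometry

noncomputable section

namespace Groth.Agent.ASpColim

open _root_.AlgSp Groth.Agent.ASp

variable {S : Scheme.{u}}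

/-- The restriction of a flat scheme over a glued scheme is glued. -/
theorem exists_restrict_flat {U U' V V' T : Over S} {uU' : U ⟶ U'} {uV : U ⟶ V} {iU' : U' ⟶ V'} {iV : V ⟶ V'}
    [IsClosedImmersion uU'.left] [Surjective uU'.left] [IsAffineHom uV.left]
    (hpo : IsPushout uU' uV iU' iV) (τ : T ⟶ V') [Flat τ.left] :
    ∃ (TU TP TQ : Over S) (jU : TU ⟶ TP) (jV : TU ⟶ TQ) (kP : TP ⟶ T) (kQ : TQ ⟶ T) (gP : TP ⟶ U')
      (gQ : TQ ⟶ V) (gU : TU ⟶ U), IsPullback kP gP τ iU' ∧ IsPullback kQ gQ τ iV ∧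
      IsPullback jU gU gP uU' ∧ jV ≫ gQ = gU ≫ uV ∧ IsPushout jU jV kP kQ ∧
      IsClosedImmersion jU.left ∧ Surjective jU.left ∧ IsAffineHom jV.left := by
  have hP : IsPushout uU'.left uV.left iU'.left iV.left := hpo.map (Over.forget S)
  obtain ⟨-, _, _, _⟩ := pushout_thickening_props hP
  let jV : pullback (pullback.snd τ iU') uU' ⟶ pullback τ iV :=
    pullback.lift (pullback.fst _ _ ≫ pullback.fst τ iU') (pullback.snd _ _ ≫ uV) (by
      rw [Category.assoc, Category.assoc, pullback.condition, pullback.condition_assoc, hpo.w])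
  have sV := IsPullback.of_hasPullback τ iV
  have sU' := IsPullback.of_hasPullback τ iU'
  have sU := IsPullback.of_hasPullback (pullback.snd τ iU') uU'
  have e₁ : jV ≫ pullback.fst τ iV = pullback.fst (pullback.snd τ iU') uU' ≫ pullback.fst τ iU' :=
    pullback.lift_fst _ _ _
  have e₂ : jV ≫ pullback.snd τ iV = pullback.snd (pullback.snd τ iU') uU' ≫ uV := pullback.lift_snd _ _ _
  have hRV : IsPullback jV (pullback.snd (pullback.snd τ iU') uU') (pullback.snd τ iV) uV := by
    have h := sU.paste_horiz sU'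
    rw [hpo.w, ← e₁] at h
    exact IsPullback.of_right h e₂ sV
  refine ⟨_, _, _, pullback.fst (pullback.snd τ iU') uU', jV, pullback.fst τ iU', pullback.fst τ iV,
    pullback.snd τ iU', pullback.snd τ iV, pullback.snd (pullback.snd τ iU') uU', sU', sV, sU, e₂, ?_,
    MorphismProperty.of_isPullback (P := @IsClosedImmersion) (isPullback_left sU).flip ‹_›,
    MorphismProperty.of_isPullback (P := @Surjective) (isPullback_left sU).flip ‹_›,
    MorphismProperty.of_isPullback (P := @IsAffineHom) (isPullback_left hRV).flip ‹_›⟩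
  refine IsPushout.of_map (Over.forget S) e₁.symm ?_
  exact FerrandPush.isPushout_baseChange hP (𝟙 V'.left) τ.left (.inl inferInstance)
    (sPT := 𝟙 _) (IsPullback.of_vert_isIso ⟨by simp⟩)
    (isPullback_left sU').flip (isPullback_left sV).flip (isPullback_left sU).flip
    (congrArg CommaMorphism.left e₂) (congrArg CommaMorphism.left e₁)

/-- A space flat over a pushout along a thickening is the pushout of its restrictions. -/
theorem isPushout_restrict_flat {X X' Y Y' W' WY WX' WX : AlgSp.Space S} {t : X ⟶ X'} {f : X ⟶ Y}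
    {f' : X' ⟶ Y'} {t' : Y ⟶ Y'} (c : PushChart t f f' t') {w : W' ⟶ Y'} (hw : LocP @Flat w.hom)
    {aY : WY ⟶ W'} {bY : WY ⟶ Y} (hWY : IsPullback aY.hom bY.hom w.hom t'.hom) {aX' : WX' ⟶ W'}
    {bX' : WX' ⟶ X'} (hWX' : IsPullback aX'.hom bX'.hom w.hom f'.hom) {cY : WX ⟶ WY} {cX' : WX ⟶ WX'}
    {bX : WX ⟶ X} (hWX₁ : IsPullback cY.hom bX.hom bY.hom f.hom)
    (hWX₂ : IsPullback cX'.hom bX.hom bX'.hom t.hom) (hcomm : cY ≫ aY = cX' ≫ aX') :
    IsPushout cY cX' aY aX' := by
  haveI := c.closed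
  haveI := c.surj
  haveI := c.affine
  -- an atlas of the space over the chart
  have sq := IsPullback.of_hasPullback w.hom c.p
  have hW₂ : IsAlgSpace (pullback w.hom c.p) :=
    isAlgSpace_of_isPullback Y'.property.diag W'.property (IsAlgSpace.yon_obj c.V') sq
  obtain ⟨T, e, hee, hes⟩ := hW₂.atlas
  obtain ⟨g, hg⟩ := (yon S).map_surjective (e ≫ pullback.snd w.hom c.p)
  let a : (yon S).obj T ⟶ W'.obj := e ≫ pullback.fst w.hom c.p
  have ha : RepWith @Etale a := repWith_comp hee (repWith_of_isPullback sq.flip c.etale)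
  have has : RepWith @Surjective a := repWith_comp hes (repWith_of_isPullback sq.flip c.surjective)
  have hag : a ≫ w.hom = (yon S).map g ≫ c.p := by
    rw [hg, Category.assoc, Category.assoc, sq.w]
  haveI : Flat g.left := hw a c.p g ha c.etale hag
  obtain ⟨TU, TP, TQ, jU, jV, kP, kQ, gP, gQ, gU, hkP, hkQ, hjU, hjV, hT, _, _, _⟩ :=
    exists_restrict_flat c.isPushout g
  obtain ⟨R, r₁, r₂, hR⟩ := exists_isPullback_yon ha.1 a
  haveI : Etale r₁.left := etale_snd ha hR.flip
  haveI : Flat (r₁ ≫ g).left := by rw [Over.comp_left]; infer_instance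
  obtain ⟨RU, RP, RQ, lU, lV, mP, mQ, gP', gQ', -, hmP, hmQ, -, -, hR', _, _, _⟩ :=
    exists_restrict_flat c.isPushout (r₁ ≫ g)
  haveI : IsAffineHom lV.left := ‹_›
  -- the two parts
  have sP₀ : IsPullback ((yon S).map kP) ((yon S).map gP ≫ c.q') (a ≫ w.hom) f'.hom := by
    rw [hag]; exact (isPullback_yon_map hkP).paste_vert c.sqU'
  have sQ₀ : IsPullback ((yon S).map kQ) ((yon S).map gQ ≫ c.q) (a ≫ w.hom) t'.hom := by
    rw [hag]; exact (isPullback_yon_map hkQ).paste_vert c.sqV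
  let qP := hWX'.lift ((yon S).map kP ≫ a) ((yon S).map gP ≫ c.q') (by rw [Category.assoc, sP₀.w])
  let qQ := hWY.lift ((yon S).map kQ ≫ a) ((yon S).map gQ ≫ c.q) (by rw [Category.assoc, sQ₀.w])
  have sP : IsPullback ((yon S).map kP) qP a aX'.hom :=
    IsPullback.of_bot (by rw [show qP ≫ bX'.hom = _ from hWX'.lift_snd _ _ _]; exact sP₀)
      (hWX'.lift_fst _ _ _).symm hWX'
  have sQ : IsPullback ((yon S).map kQ) qQ a aY.hom :=
    IsPullback.of_bot (by rw [show qQ ≫ bY.hom = _ from hWY.lift_snd _ _ _]; exact sQ₀)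
      (hWY.lift_fst _ _ _).symm hWY
  have eP : ∃ p : (yon S).obj RP ⟶ WX'.obj, p ≫ aX'.hom = (yon S).map (mP ≫ r₁) ≫ a :=
    ⟨hWX'.lift _ ((yon S).map gP' ≫ c.q') (by
      rw [Category.assoc, hag, ← Functor.map_comp_assoc, Category.assoc, hmP.w, Functor.map_comp_assoc,
        c.sqU'.w, Category.assoc]), hWX'.lift_fst _ _ _⟩
  have eQ : ∃ p : (yon S).obj RQ ⟶ WY.obj, p ≫ aY.hom = (yon S).map (mQ ≫ r₁) ≫ a :=
    ⟨hWY.lift _ ((yon S).map gQ' ≫ c.q) (by
      rw [Category.assoc, hag, ← Functor.map_comp_assoc, Category.assoc, hmQ.w, Functor.map_comp_assoc,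
        c.sqV.w, Category.assoc]), hWY.lift_fst _ _ _⟩
  obtain ⟨eP, heP⟩ := eP
  obtain ⟨eQ, heQ⟩ := eQ
  have hc : cY.hom ≫ aY.hom = cX'.hom ≫ aX'.hom := congrArg InducedCategory.Hom.hom hcomm
  -- the common part
  obtain ⟨qU, hqU₁, hqU₂⟩ := hWX₁.exists_lift ((yon S).map jV ≫ qQ) ((yon S).map gU ≫ c.qX) (by
    rw [Category.assoc, hWY.lift_snd, ← Functor.map_comp_assoc, hjV, Functor.map_comp_assoc, c.sqY.w,
      Category.assoc])
  have hqU₃ : qU ≫ cX'.hom = (yon S).map jU ≫ qP := by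
    refine hWX'.hom_ext ?_ ?_
    · rw [Category.assoc, ← hc, reassoc_of% hqU₁, Category.assoc, hWX'.lift_fst, hWY.lift_fst,
        ← Functor.map_comp_assoc, ← Functor.map_comp_assoc, hT.w]
    · rw [Category.assoc, hWX₂.w, reassoc_of% hqU₂, Category.assoc, hWX'.lift_snd, ← Functor.map_comp_assoc,
        hjU.w, Functor.map_comp_assoc, c.sqX'.w]
  refine IsPushout.flip ⟨⟨hcomm.symm⟩, ⟨PushoutCocone.isColimitAux' _ fun s => ?_⟩⟩
  have R₀ := existsUnique_desc_of_chart W'.property WX'.property WY.property (aX := aX'.hom) (aY := aY.hom)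
    (cX := cX'.hom) (cY := cY.hom) ha has sP sQ hR heP heQ (T := s.pt.obj)
    (fun y z e => nonempty_isColimit_pushout ⟨‹_›, ‹_›⟩ hT s.pt.property (qP ≫ y) (qQ ≫ z) (by
      rw [← reassoc_of% hqU₃, e, reassoc_of% hqU₁]))
    (fun d₁ d₂ hd hd' => by
      obtain ⟨d, -, hu⟩ := nonempty_isColimit_pushout ⟨‹_›, ‹_›⟩ hR' s.pt.property ((yon S).map mP ≫ d₁)
        ((yon S).map mQ ≫ d₁) (by rw [← Functor.map_comp_assoc, hR'.w, Functor.map_comp_assoc])
      exact (hu d₁ ⟨rfl, rfl⟩).trans (hu d₂ ⟨hd.symm, hd'.symm⟩).symm)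
    s.inl.hom s.inr.hom (congrArg InducedCategory.Hom.hom s.condition)
  refine ⟨InducedCategory.homMk R₀.exists.choose, InducedCategory.hom_ext R₀.exists.choose_spec.1,
    InducedCategory.hom_ext R₀.exists.choose_spec.2, fun {m} h₁ h₂ => InducedCategory.hom_ext ?_⟩
  exact R₀.unique ⟨congrArg InducedCategory.Hom.hom h₁, congrArg InducedCategory.Hom.hom h₂⟩ R₀.exists.choose_spec

end Groth.Agent.ASpColim
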