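import Groth.Agent.ASpColim.ThickPushExists
import Groth.Agent.FerrandPush.MorProps2
import Groth.Agent.ASp.Smooth
/-!
Charts of maps between pushouts of algebraic spaces along thickenings.
-/

set_option autoImplicit false
set_option linter.style.haveILetI false
set_option backward.isDefEq.respectTransparency false
set_option backward.isDefEq.respectTransparency.types false

universe u

open CategoryTheory CategoryTheory.Limits AlgebraicGeometry

noncomputable section

namespace Groth.Agent.ASpColim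

open _root_.AlgSp Groth.Agent.ASp

variable {S : Scheme.{u}}

/-- Every pushout along a thickening and an affine morphism has a chart. -/
theorem exists_pushChart {X X' Y Y' : AlgSp.Space S} {t : X ⟶ X'} (ht : IsThickMor t.hom) {f : X ⟶ Y}
    (hf : IsAffineMor f.hom) {f' : X' ⟶ Y'} {t' : Y ⟶ Y'} (hY' : IsPushout t f f' t') :
    Nonempty (PushChart t f f' t') := by
  obtain ⟨Y₀, f₀, t₀, h₀, -, ⟨c⟩⟩ := exists_pushout_chart t ht f hf
  have e₁ : f₀.hom ≫ (h₀.isoIsPushout _ _ hY').hom.hom = f'.hom :=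
    congrArg InducedCategory.Hom.hom (h₀.inl_isoIsPushout_hom _ _ hY')
  have e₂ : t₀.hom ≫ (h₀.isoIsPushout _ _ hY').hom.hom = t'.hom :=
    congrArg InducedCategory.Hom.hom (h₀.inr_isoIsPushout_hom _ _ hY')
  let ε : Y₀.obj ≅ Y'.obj := (ObjectProperty.ι _).mapIso (h₀.isoIsPushout _ _ hY')
  have hεi : IsPullback (𝟙 Y₀.obj) (𝟙 Y₀.obj) ε.hom ε.hom := IsKernelPair.id_of_mono ε.hom
  refine ⟨{ c with
    p := c.p ≫ ε.hom
    etale := repWith_comp c.etale (repWith_of_isIso ε.hom)
    surjective := repWith_comp c.surjective (repWith_of_isIso ε.hom)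
    sqU' := c.sqU'.of_iso (Iso.refl _) (Iso.refl _) (Iso.refl _) ε (by simp) (by simp) (by simp) (by simpa [ε] using e₁)
    sqV := c.sqV.of_iso (Iso.refl _) (Iso.refl _) (Iso.refl _) ε (by simp) (by simp) (by simp) (by simpa [ε] using e₂) }⟩

/-- A chart of a map between two pushouts over a chart of the target. -/
structure GluedChart {X X' Y Y' U' V V' : AlgSp.Space S} {t : X ⟶ X'} {f : X ⟶ Y} {f' : X' ⟶ Y'}
    {t' : Y ⟶ Y'} (c : PushChart t f f' t') (v : V ⟶ Y) (u' : U' ⟶ X') (iV : V ⟶ V') (iU' : U' ⟶ V')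
    (v' : V' ⟶ Y') where
  R : Over S
  RV : Over S
  RU' : Over S
  RU : Over S
  a : (yon S).obj R ⟶ V'.obj
  qV : (yon S).obj RV ⟶ V.obj
  qU' : (yon S).obj RU' ⟶ U'.obj
  g : R ⟶ c.V'
  gV : RV ⟶ c.V
  gU' : RU' ⟶ c.U'
  gU : RU ⟶ c.U
  kV : RV ⟶ R
  kU' : RU' ⟶ R
  jU : RU ⟶ RU'
  jV : RU ⟶ RV
  etale : RepWith @Etale a
  surjective : RepWith @Surjective a
  comm : a ≫ v'.hom = (yon S).map g ≫ c.p
  sqV : IsPullback ((yon S).map kV) qV a iV.hom
  sqU' : IsPullback ((yon S).map kU') qU' a iU'.hom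
  commV : qV ≫ v.hom = (yon S).map gV ≫ c.q
  commU' : qU' ≫ u'.hom = (yon S).map gU' ≫ c.q'
  closed : IsClosedImmersion jU.left
  surj : Surjective jU.left
  affine : IsAffineHom jV.left
  isPushout : IsPushout jU jV kU' kV
  pbU' : IsPullback jU gU gU' c.uU'
  pbV : IsPullback jV gU gV c.uV
  wU' : kU' ≫ g = gU' ≫ c.iU'
  wV : kV ≫ g = gV ≫ c.iV

section

variable {X X' Y Y' U U' V V' : AlgSp.Space S} {t : X ⟶ X'} {f : X ⟶ Y} {f' : X' ⟶ Y'}
  {t' : Y ⟶ Y'} (c : PushChart t f f' t') (ht : IsThickMor t.hom) (hf : IsAffineMor f.hom)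
  (v : V ⟶ Y) (u' : U' ⟶ X') {uV : U ⟶ V} {uU' : U ⟶ U'} {uX : U ⟶ X}
  (hUV : IsPullback uV.hom uX.hom v.hom f.hom) (hUU' : IsPullback uU'.hom uX.hom u'.hom t.hom)
  {iV : V ⟶ V'} {iU' : U' ⟶ V'} (hV' : IsPushout uV uU' iV iU') {v' : V' ⟶ Y'}
  (hv'₁ : iV ≫ v' = v ≫ t') (hv'₂ : iU' ≫ v' = u' ≫ f')

include c ht hf hUV hUU' hV' hv'₁ hv'₂

/-- Glued charts exist. -/
theorem exists_gluedChart : Nonempty (GluedChart c v u' iV iU' v') := by
  obtain ⟨d⟩ := exists_pushChart (isThickMor_of_isPullback hUU'.flip ht)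
    (isAffineMor_baseChange hUV.flip hf) hV'.flip
  obtain ⟨R, g, π, hR⟩ := exists_isPullback_yon c.etale.1 (d.p ≫ v'.hom)
  haveI : Etale π.left := c.etale.2 _ _ _ hR
  haveI : Surjective π.left := c.surjective.2 _ _ _ hR
  haveI := d.closed
  haveI := d.surj
  haveI := d.affine
  have hP : IsPushout d.uU'.left d.uV.left d.iU'.left d.iV.left := d.isPushout.map (Over.forget S)
  obtain ⟨-, _, _, _⟩ := pushout_thickening_props hP
  let a : (yon S).obj R ⟶ V'.obj := (yon S).map π ≫ d.p
  have hcomm : a ≫ v'.hom = (yon S).map g ≫ c.p := by rw [Category.assoc]; exact hR.w.symm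
  let RV := pullback π d.iV
  let RU' := pullback π d.iU'
  let RU := pullback (pullback.snd π d.iU') d.uU'
  let jV : RU ⟶ RV := pullback.lift (pullback.fst _ _ ≫ pullback.fst π d.iU') (pullback.snd _ _ ≫ d.uV) (by
    rw [Category.assoc, Category.assoc, pullback.condition, pullback.condition_assoc, d.isPushout.w])
  have sV := IsPullback.of_hasPullback π d.iV
  have sU' := IsPullback.of_hasPullback π d.iU'
  have sU := IsPullback.of_hasPullback (pullback.snd π d.iU') d.uU'
  have hRV : IsPullback jV (pullback.snd (pullback.snd π d.iU') d.uU') (pullback.snd π d.iV) d.uV := by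
    have h := sU.paste_horiz sU'
    rw [d.isPushout.w, ← show jV ≫ pullback.fst π d.iV =
      pullback.fst (pullback.snd π d.iU') d.uU' ≫ pullback.fst π d.iU' from pullback.lift_fst _ _ _] at h
    exact IsPullback.of_right h (pullback.lift_snd _ _ _) sV
  have hbc : IsPushout (pullback.fst (pullback.snd π d.iU') d.uU') jV (pullback.fst π d.iU')
      (pullback.fst π d.iV) := by
    refine IsPushout.of_map (Over.forget S) (pullback.lift_fst _ _ _).symm ?_
    exact FerrandPush.isPushout_baseChange hP (𝟙 d.V'.left) π.left (.inl inferInstance)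
      (sPT := 𝟙 _) (IsPullback.of_vert_isIso ⟨by simp⟩)
      (isPullback_left sU').flip (isPullback_left sV).flip (isPullback_left sU).flip
      (congrArg CommaMorphism.left
        (show jV ≫ pullback.snd π d.iV = pullback.snd (pullback.snd π d.iU') d.uU' ≫ d.uV from pullback.lift_snd _ _ _))
      (congrArg CommaMorphism.left (show jV ≫ pullback.fst π d.iV =
        pullback.fst (pullback.snd π d.iU') d.uU' ≫ pullback.fst π d.iU' from pullback.lift_fst _ _ _))
  let qV : (yon S).obj RV ⟶ V.obj := (yon S).map (pullback.snd π d.iV) ≫ d.q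
  let qU' : (yon S).obj RU' ⟶ U'.obj := (yon S).map (pullback.snd π d.iU') ≫ d.q'
  let qU : (yon S).obj RU ⟶ U.obj := (yon S).map (pullback.snd (pullback.snd π d.iU') d.uU') ≫ d.qX
  have sqV : IsPullback ((yon S).map (pullback.fst π d.iV)) qV a iV.hom :=
    (isPullback_yon_map sV).paste_vert d.sqV
  have sqU' : IsPullback ((yon S).map (pullback.fst π d.iU')) qU' a iU'.hom :=
    (isPullback_yon_map sU').paste_vert d.sqU'
  have sqUU' : IsPullback ((yon S).map (pullback.fst (pullback.snd π d.iU') d.uU')) qU qU' uU'.hom :=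
    (isPullback_yon_map sU).paste_vert d.sqX'
  have sqUV : IsPullback ((yon S).map jV) qU qV uV.hom := (isPullback_yon_map hRV).paste_vert d.sqY
  have e₁ : iV.hom ≫ v'.hom = v.hom ≫ t'.hom := congrArg InducedCategory.Hom.hom hv'₁
  have e₂ : iU'.hom ≫ v'.hom = u'.hom ≫ f'.hom := congrArg InducedCategory.Hom.hom hv'₂
  obtain ⟨gV, gV₁, gV₂⟩ := c.sqV.exists_lift ((yon S).map (pullback.fst π d.iV ≫ g)) (qV ≫ v.hom) (by
    rw [Functor.map_comp, Category.assoc, ← hcomm, reassoc_of% sqV.w, Category.assoc, e₁]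
    simp only [qV, Category.assoc])
  obtain ⟨gV, rfl⟩ := (yon S).map_surjective gV
  obtain ⟨gU', gU'₁, gU'₂⟩ := c.sqU'.exists_lift ((yon S).map (pullback.fst π d.iU' ≫ g)) (qU' ≫ u'.hom) (by
    rw [Functor.map_comp, Category.assoc, ← hcomm, reassoc_of% sqU'.w, Category.assoc, e₂]
    simp only [qU', Category.assoc])
  obtain ⟨gU', rfl⟩ := (yon S).map_surjective gU'
  obtain ⟨gU, gU₁, gU₂⟩ := c.sqX'.exists_lift
    ((yon S).map (pullback.fst (pullback.snd π d.iU') d.uU' ≫ gU')) (qU ≫ uX.hom) (by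
      rw [Functor.map_comp, Category.assoc, gU'₂, reassoc_of% sqUU'.w, hUU'.w, Category.assoc]
      simp only [qU, Category.assoc])
  obtain ⟨gU, rfl⟩ := (yon S).map_surjective gU
  have eU : pullback.fst (pullback.snd π d.iU') d.uU' ≫ gU' = gU ≫ c.uU' :=
    (yon S).map_injective (by rw [(yon S).map_comp gU, gU₁])
  have wV : pullback.fst π d.iV ≫ g = gV ≫ c.iV := (yon S).map_injective (by rw [(yon S).map_comp gV, gV₁])
  have wU' : pullback.fst π d.iU' ≫ g = gU' ≫ c.iU' := (yon S).map_injective (by rw [(yon S).map_comp gU', gU'₁])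
  have eV : jV ≫ gV = gU ≫ c.uV := by
    refine (yon S).map_injective (c.sqV.hom_ext ?_ ?_)
    · rw [← Functor.map_comp, ← Functor.map_comp, Category.assoc, Category.assoc, ← wV,
        ← c.isPushout.w, ← reassoc_of% eU, ← wU', ← Category.assoc, ← Category.assoc, pullback.lift_fst]
    · rw [Functor.map_comp, Functor.map_comp, Category.assoc, Category.assoc, gV₂, c.sqY.w, reassoc_of% gU₂,
        reassoc_of% sqUV.w, hUV.w]
  have pbU' : IsPullback (pullback.fst (pullback.snd π d.iU') d.uU') gU gU' c.uU' := by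
    refine isPullback_of_yon_map (IsPullback.of_bot ?_ ?_ c.sqX')
    · rw [gU₂, gU'₂]
      exact sqUU'.paste_vert hUU'
    · rw [← Functor.map_comp, ← Functor.map_comp, eU]
  have pbV : IsPullback jV gU gV c.uV := by
    refine isPullback_of_yon_map (IsPullback.of_bot ?_ ?_ c.sqY)
    · rw [gU₂, gV₂]
      exact sqUV.paste_vert hUV
    · rw [← Functor.map_comp, ← Functor.map_comp, eV]
  refine ⟨⟨R, RV, RU', RU, a, qV, qU', g, gV, gU', gU, pullback.fst π d.iV, pullback.fst π d.iU',
    pullback.fst (pullback.snd π d.iU') d.uU', jV, repWith_comp (repWith_yon_map ‹Etale π.left›) d.etale,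
    repWith_comp (repWith_yon_map ‹Surjective π.left›) d.surjective, hcomm, sqV, sqU', gV₂.symm, gU'₂.symm,
    ?_, ?_, ?_, hbc, pbU', pbV, wU', wV⟩⟩
  · exact MorphismProperty.of_isPullback (P := @IsClosedImmersion) (isPullback_left sU).flip d.closed
  · exact MorphismProperty.of_isPullback (P := @Surjective) (isPullback_left sU).flip d.surj
  · exact MorphismProperty.of_isPullback (P := @IsAffineHom) (isPullback_left hRV).flip d.affine

/-- The parts of a glued space are its restrictions. -/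
theorem isPullback_parts : IsPullback iV.hom v.hom v'.hom t'.hom ∧ IsPullback iU'.hom u'.hom v'.hom f'.hom := by
  obtain ⟨G⟩ := exists_gluedChart c ht hf v u' hUV hUU' hV' hv'₁ hv'₂
  haveI := G.closed
  haveI := G.surj
  haveI := G.affine
  haveI := c.closed
  haveI := c.surj
  haveI := c.affine
  have hP : IsPushout c.uU'.left c.uV.left c.iU'.left c.iV.left := c.isPushout.map (Over.forget S)
  have hP' : IsPushout G.jU.left G.jV.left G.kU'.left G.kV.left := G.isPushout.map (Over.forget S)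
  obtain ⟨-, _, _, _⟩ := pushout_thickening_props hP
  obtain ⟨-, _, _, _⟩ := pushout_thickening_props hP'
  have lA : IsPullback G.kU' G.gU' G.g c.iU' := IsPullback.of_map (Over.forget S) G.wU'
    (FerrandPush.isPullback_legA (P' := G.R.left) hP (isPullback_left G.pbU') (isPullback_left G.pbV) hP'
      (congrArg CommaMorphism.left G.wU') (congrArg CommaMorphism.left G.wV))
  have lB : IsPullback G.kV G.gV G.g c.iV := IsPullback.of_map (Over.forget S) G.wV
    (FerrandPush.isPullback_legB (P' := G.R.left) hP (isPullback_left G.pbU') (isPullback_left G.pbV) hP'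
      (congrArg CommaMorphism.left G.wU') (congrArg CommaMorphism.left G.wV))
  refine ⟨(isPullback_of_descent (congrArg InducedCategory.Hom.hom hv'₁).symm G.etale G.surjective G.sqV.flip ?_).flip,
    (isPullback_of_descent (congrArg InducedCategory.Hom.hom hv'₂).symm G.etale G.surjective G.sqU'.flip ?_).flip⟩
  · rw [G.commV, G.comm]
    exact ((isPullback_yon_map lB).paste_vert c.sqV).flip
  · rw [G.commU', G.comm]
    exact ((isPullback_yon_map lA).paste_vert c.sqU').flip

/-- An etale local property of maps of glued spaces is read on the two parts. -/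
theorem locP_iff_parts (P : MorphismProperty Scheme.{u}) [IsEtLocal P]
    (hglue : ∀ {X₀ Y₀ Z₀ P₀ X₁ Y₁ Z₁ P₁ : Scheme.{u}} {i : Z₀ ⟶ X₀} {j : Z₀ ⟶ Y₀} [IsClosedImmersion i]
      [IsAffineHom j] {a : X₀ ⟶ P₀} {b : Y₀ ⟶ P₀} [IsAffineHom a] [IsAffineHom b] (_ : IsPushout i j a b)
      {f₁ : X₁ ⟶ X₀} {g₁ : Y₁ ⟶ Y₀} {i' : Z₁ ⟶ X₁} {j' : Z₁ ⟶ Y₁} [IsClosedImmersion i'] [IsAffineHom j']
      {cZ : Z₁ ⟶ Z₀} (_ : IsPullback i' cZ f₁ i) (_ : IsPullback j' cZ g₁ j)
      {a' : X₁ ⟶ P₁} {b' : Y₁ ⟶ P₁} [IsAffineHom a'] [IsAffineHom b'] (_ : IsPushout i' j' a' b')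
      {h : P₁ ⟶ P₀} (_ : a' ≫ h = f₁ ≫ a) (_ : b' ≫ h = g₁ ≫ b), P f₁ → P g₁ → P h) :
    LocP P v'.hom ↔ LocP P v.hom ∧ LocP P u'.hom := by
  obtain ⟨G⟩ := exists_gluedChart c ht hf v u' hUV hUU' hV' hv'₁ hv'₂
  haveI := G.closed
  haveI := G.surj
  haveI := G.affine
  haveI := c.closed
  haveI := c.surj
  haveI := c.affine
  have hP : IsPushout c.uU'.left c.uV.left c.iU'.left c.iV.left := c.isPushout.map (Over.forget S)
  have hP' : IsPushout G.jU.left G.jV.left G.kU'.left G.kV.left := G.isPushout.map (Over.forget S)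
  obtain ⟨-, _, _, _⟩ := pushout_thickening_props hP
  obtain ⟨-, _, _, _⟩ := pushout_thickening_props hP'
  have hqV : RepWith @Etale G.qV := repWith_of_isPullback G.sqV G.etale
  have hqU' : RepWith @Etale G.qU' := repWith_of_isPullback G.sqU' G.etale
  constructor
  · intro h
    obtain ⟨h₁, h₂⟩ := isPullback_parts c ht hf v u' hUV hUU' hV' hv'₁ hv'₂
    exact ⟨locP_of_isPullback h₁.flip V'.property Y'.property Y.property h,
      locP_of_isPullback h₂.flip V'.property Y'.property X'.property h⟩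
  · rintro ⟨hv, hu⟩
    refine locP_of_chart G.etale G.surjective c.etale G.comm (hglue hP (isPullback_left G.pbU')
      (isPullback_left G.pbV) hP' (congrArg CommaMorphism.left G.wU') (congrArg CommaMorphism.left G.wV) ?_ ?_)
    · exact hu G.qU' c.q' G.gU' hqU' (repWith_of_isPullback c.sqU' c.etale) G.commU'
    · exact hv G.qV c.q G.gV hqV (repWith_of_isPullback c.sqV c.etale) G.commV

end

end Groth.Agent.ASpColim
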